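import Mathlib

/-!
An abelian group of operators acting irreducibly on a finite abelian group makes the latter a field.
-/

namespace CfsgLib.Perm.ZassG

/-- An abelian subgroup `E` normalising the abelian subgroup `F` and leaving no proper non-trivial
subgroup of it invariant turns `F` into the additive group of a field `K`, on which `E` acts by
multiplications. -/
theorem exists_field_of_irreducible {G : Type*} [Group G] [Finite G] (E F : Subgroup G)
    (hconj : ∀ x ∈ E, ∀ u ∈ F, x * u * x⁻¹ ∈ F) (hFc : ∀ u v : F, u * v = v * u)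
    (hEc : ∀ x y : E, x * y = y * x) (hF1 : F ≠ ⊥)
    (hirr : ∀ A : Subgroup G, A ≤ F → A ≠ ⊥ → (∀ x ∈ E, ∀ u ∈ A, x * u * x⁻¹ ∈ A) → A = F) :
    ∃ (K : Type) (_ : Field K) (_ : Fintype K) (ψ : K → G), (∀ y, ψ y ∈ F) ∧ Function.Injective ψ ∧
      (∀ u ∈ F, ∃ y, ψ y = u) ∧ (∀ y z, ψ (y + z) = ψ y * ψ z) ∧
      ∃ ε : E → K, ∀ (x : E) (y : K), (x : G) * ψ y * (x : G)⁻¹ = ψ (ε x * y) := by
  classical
  letI : CommGroup F := { (inferInstance : Group F) with mul_comm := hFc }
  let ρ : E → AddMonoid.End (Additive F) := fun x =>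
    AddMonoidHom.mk' (fun v => Additive.ofMul (⟨(x : G) * (Additive.toMul v : F) * (x : G)⁻¹,
        hconj x x.2 _ (Additive.toMul v).2⟩ : F))
      (fun v w => Additive.toMul.injective (Subtype.ext (by simp [mul_assoc])))
  have hρ : ∀ x y : E, ρ x * ρ y = ρ y * ρ x := by
    intro x y
    refine AddMonoidHom.ext fun v => Additive.toMul.injective (Subtype.ext ?_)
    show (x : G) * ((y : G) * ((Additive.toMul v : F) : G) * (y : G)⁻¹) * (x : G)⁻¹ =
      (y : G) * ((x : G) * ((Additive.toMul v : F) : G) * (x : G)⁻¹) * (y : G)⁻¹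
    generalize ((Additive.toMul v : F) : G) = w
    calc (x : G) * ((y : G) * w * (y : G)⁻¹) * (x : G)⁻¹
        = ((x * y : E) : G) * w * ((x * y : E) : G)⁻¹ := by rw [Subgroup.coe_mul]; group
      _ = ((y * x : E) : G) * w * ((y * x : E) : G)⁻¹ := by rw [hEc]
      _ = _ := by rw [Subgroup.coe_mul]; group
  let R : Subring (AddMonoid.End (Additive F)) := Subring.closure (Set.range ρ)
  letI : CommRing R := Subring.closureCommRingOfComm (by
    rintro _ ⟨a, rfl⟩ _ ⟨b, rfl⟩; exact hρ a b)
  let ρR : E → R := fun x => ⟨ρ x, Subring.subset_closure ⟨x, rfl⟩⟩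
  -- evaluation at a non-zero vector is bijective
  have hinvariant : ∀ H : AddSubgroup (Additive F), H ≠ ⊥ → (∀ x, ∀ v ∈ H, ρ x v ∈ H) → H = ⊤ := by
    intro H hH hi
    let A : Subgroup G := (AddSubgroup.toSubgroup' H).map F.subtype
    have hA : A = F := by
      refine hirr A (Subgroup.map_subtype_le _) (fun h => hH ?_) ?_
      · rw [Subgroup.map_eq_bot_iff_of_injective _ F.subtype_injective] at h
        refine (AddSubgroup.eq_bot_iff_forall _).2 fun v hv => ?_
        have h1 : Additive.toMul v ∈ AddSubgroup.toSubgroup' H := hv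
        rw [h, Subgroup.mem_bot] at h1
        exact Additive.toMul.injective h1
      · rintro x hx _ ⟨u, hu, rfl⟩
        exact ⟨_, hi ⟨x, hx⟩ _ hu, rfl⟩
    refine eq_top_iff.2 fun v _ => ?_
    obtain ⟨u, hu, he⟩ := hA.ge (Additive.toMul v).2
    have e' : u = Additive.toMul v := Subtype.ext he
    rw [e'] at hu
    exact hu
  have hsurj : ∀ v₀ : Additive F, v₀ ≠ 0 → ∀ v, ∃ r : R, (r : AddMonoid.End (Additive F)) v₀ = v := by
    intro v₀ hv₀
    let H : AddSubgroup (Additive F) :=
      ({ toFun := fun r : R => (r : AddMonoid.End (Additive F)) v₀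
         map_zero' := rfl
         map_add' := fun _ _ => rfl } : R →+ Additive F).range
    have := hinvariant H (fun h => hv₀ ?_) ?_
    · exact fun v => (this ▸ AddSubgroup.mem_top v : v ∈ H)
    · have h1 : v₀ ∈ H := ⟨1, rfl⟩
      rwa [h, AddSubgroup.mem_bot] at h1
    · rintro x _ ⟨r, rfl⟩
      exact ⟨ρR x * r, rfl⟩
  have hinj : ∀ v₀ : Additive F, v₀ ≠ 0 → ∀ r : R, (r : AddMonoid.End (Additive F)) v₀ = 0 → r = 0 := by
    intro v₀ hv₀ r hr
    refine Subtype.ext (AddMonoidHom.ext fun v => ?_)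
    obtain ⟨s, rfl⟩ := hsurj v₀ hv₀ v
    show (r : AddMonoid.End (Additive F)) ((s : AddMonoid.End (Additive F)) v₀) = 0
    have hc : (r : AddMonoid.End (Additive F)) * s = (s : AddMonoid.End (Additive F)) * r :=
      congrArg Subtype.val (mul_comm r s)
    have := DFunLike.congr_fun hc v₀
    change _ = (s : AddMonoid.End (Additive F)) ((r : AddMonoid.End (Additive F)) v₀) at this
    exact this.trans (by rw [hr, map_zero])
  haveI : Nontrivial F := (Subgroup.nontrivial_iff_ne_bot F).2 hF1
  obtain ⟨v₀, hv₀⟩ := exists_ne (0 : Additive F)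
  have : Finite R := Finite.of_injective (fun r : R => (r : AddMonoid.End (Additive F)) v₀) fun r s h =>
    sub_eq_zero.1 (hinj v₀ hv₀ (r - s) (by
      show (r : AddMonoid.End (Additive F)) v₀ - (s : AddMonoid.End (Additive F)) v₀ = 0
      rw [sub_eq_zero]; exact h))
  have : Nontrivial R := ⟨⟨0, 1, fun h => hv₀ (congrArg (fun r : R => (r : AddMonoid.End (Additive F)) v₀) h).symm⟩⟩
  have : NoZeroDivisors R := ⟨fun {r s} hrs => by
    by_cases hs : (s : AddMonoid.End (Additive F)) v₀ = 0
    · exact Or.inr (hinj v₀ hv₀ s hs)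
    · exact Or.inl (hinj _ hs r (congrArg (fun r : R => (r : AddMonoid.End (Additive F)) v₀) hrs))⟩
  have : IsDomain R := NoZeroDivisors.to_isDomain R
  letI : Field R := (Finite.isField_of_domain R).toField
  letI : Fintype R := Fintype.ofFinite R
  obtain ⟨p, hpchar⟩ := CharP.exists R
  obtain ⟨n, hp, hcard⟩ := FiniteField.card R p
  haveI := Fact.mk hp
  letI : Fintype (GaloisField p n) := Fintype.ofFinite _
  let e : GaloisField p n ≃+* R := FiniteField.ringEquivOfCardEq (by
    rw [hcard, ← Nat.card_eq_fintype_card, GaloisField.card p n n.ne_zero])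
  refine ⟨GaloisField p n, inferInstance, inferInstance,
    fun y => ((Additive.toMul ((e y : AddMonoid.End (Additive F)) v₀) : F) : G),
    fun y => (Additive.toMul ((e y : AddMonoid.End (Additive F)) v₀)).2, fun y z h => ?_, fun u hu => ?_,
    fun y z => ?_, fun x => e.symm (ρR x), fun x y => ?_⟩
  · refine e.injective (sub_eq_zero.1 (hinj v₀ hv₀ (e y - e z) ?_))
    show (e y : AddMonoid.End (Additive F)) v₀ - (e z : AddMonoid.End (Additive F)) v₀ = 0
    rw [sub_eq_zero]
    exact Additive.toMul.injective (Subtype.ext h)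
  · obtain ⟨r, hr⟩ := hsurj v₀ hv₀ (Additive.ofMul ⟨u, hu⟩)
    exact ⟨e.symm r, by simp [hr]⟩
  · show ((Additive.toMul ((e (y + z) : AddMonoid.End (Additive F)) v₀) : F) : G) = _
    rw [map_add]; rfl
  · show _ = ((Additive.toMul ((e (e.symm (ρR x) * y) : AddMonoid.End (Additive F)) v₀) : F) : G)
    rw [map_mul, e.apply_symm_apply]
    rfl

end CfsgLib.Perm.ZassG
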