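import Cfsg.Agent.Lib.Perm.ZassG.Half
import Cfsg.Agent.Lib.Perm.ZassG.Field
import Cfsg.Agent.Lib.Classical.GL2

/-!
A Zassenhaus group with `n - 2 = 2 e` and abelian kernel is `PSL(2, q)`.
-/

open MulAction Cfsg

namespace CfsgLib.Perm.ZassG

/-- Coordinates on a Zassenhaus group with `n - 2 = 2 e`: a field `K` parametrising the kernel, on which
the two-point stabiliser acts by the non-zero squares. -/
structure HalfCoord (G : Type*) {Ω : Type*} [Group G] [MulAction G Ω] (a b : Ω) (K : Type) [Field K] where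
  ψ : K → G
  ε : pairStab G a b → K
  fix : ∀ y, ψ y • a = a
  map_zero : ψ 0 = 1
  map_add : ∀ y z, ψ (y + z) = ψ y * ψ z
  pt_inj : ∀ y z, ψ y • b = ψ z • b → y = z
  pt_surj : ∀ c, c ≠ a → ∃ y, ψ y • b = c
  ε_smul : ∀ (x : pairStab G a b) y, (x : G) • ψ y • b = ψ (ε x * y) • b
  ε_sq : ∀ x, ε x ≠ 0 ∧ IsSquare (ε x)
  ε_surj : ∀ y, y ≠ 0 → IsSquare y → ∃ x, ε x = y

theorem isSquare_mul_of_not {K : Type*} [Field K] [Fintype K] [DecidableEq K] (h2 : ringChar K ≠ 2)
    {x y : K} (hx : ¬ IsSquare x) (hy : ¬ IsSquare y) : IsSquare (x * y) := by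
  have hx0 : x ≠ 0 := fun h => hx (h ▸ IsSquare.zero)
  have hy0 : y ≠ 0 := fun h => hy (h ▸ IsSquare.zero)
  rw [← quadraticChar_one_iff_isSquare (mul_ne_zero hx0 hy0), map_mul,
    (quadraticChar_neg_one_iff_not_isSquare).2 hx, (quadraticChar_neg_one_iff_not_isSquare).2 hy]
  rfl

namespace HalfCoord

variable {G Ω : Type*} [Group G] [MulAction G Ω] [Finite G] [Finite Ω] {a b : Ω} {K : Type} [Field K]
  [Fintype K] (C : HalfCoord G a b K)

/-- The coordinate map. -/
def pt (y : K) : Ω := C.ψ y • b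

omit [Finite G] [Finite Ω] [Fintype K] in
theorem pt_zero : C.pt 0 = b := by rw [pt, C.map_zero, one_smul]

omit [Finite G] [Finite Ω] [Fintype K] in
theorem ψ_smul_pt (y z : K) : C.ψ y • C.pt z = C.pt (y + z) := by
  rw [pt, pt, C.map_add, mul_smul]

omit [Finite G] [Finite Ω] [Fintype K] in
theorem pt_ne (hab : a ≠ b) (y : K) : C.pt y ≠ a := fun h =>
  hab (smul_left_cancel (C.ψ y) ((C.fix y).trans h.symm))

omit [Finite G] [Finite Ω] [Fintype K] in
theorem ε_inv (hab : a ≠ b) (x : pairStab G a b) : C.ε x⁻¹ = (C.ε x)⁻¹ := by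
  have h : C.pt (C.ε x * (C.ε x⁻¹ * 1)) = C.pt 1 := by
    show C.ψ _ • b = C.ψ _ • b
    rw [← C.ε_smul, ← C.ε_smul, ← mul_smul, Subgroup.coe_inv, mul_inv_cancel, one_smul]
  rw [mul_one] at h
  exact eq_inv_of_mul_eq_one_right (C.pt_inj _ _ h)

/-- The form of an element interchanging the two points. -/
theorem swap_form (hZ : Cfsg.IsZassenhausGroup G Ω) (hab : a ≠ b) (h2 : ringChar K ≠ 2)
    (hinv : ∀ s : G, s • a = b → s • b = a → ∀ h ∈ pairStab G a b, s * h * s⁻¹ = h⁻¹)
    {s : G} (hsa : s • a = b) (hsb : s • b = a) :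
    ∃ c₁ c₂ : K, c₁ ≠ 0 ∧ c₂ ≠ 0 ∧ ∀ y, y ≠ 0 →
      (IsSquare y → s • C.pt y = C.pt (c₁ / y)) ∧ (¬ IsSquare y → s • C.pt y = C.pt (c₂ / y)) := by
  classical
  have himg : ∀ y, y ≠ 0 → ∃ z, z ≠ 0 ∧ s • C.pt y = C.pt z := by
    intro y hy
    obtain ⟨z, hz⟩ := C.pt_surj (s • C.pt y) fun h => hy (C.pt_inj y 0 (by
      show C.pt y = C.pt 0
      rw [C.pt_zero]; exact smul_left_cancel s (h.trans hsb.symm)))
    refine ⟨z, fun h0 => C.pt_ne hab y (smul_left_cancel s ?_), hz.symm⟩
    rw [hsa, ← hz, h0, C.map_zero, one_smul]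
  obtain ⟨c₁, hc₁, hs1⟩ := himg 1 one_ne_zero
  obtain ⟨ν, hν⟩ := FiniteField.exists_nonsquare h2
  have hν0 : ν ≠ 0 := fun h => hν (h ▸ IsSquare.zero)
  obtain ⟨d, hd, hsν⟩ := himg ν hν0
  have key : ∀ (x : pairStab G a b) (y z : K), s • C.pt y = C.pt z →
      s • C.pt (C.ε x * y) = C.pt (z / C.ε x) := by
    intro x y z hyz
    have hsx : s * (x : G) = ((x⁻¹ : pairStab G a b) : G) * s := by
      rw [Subgroup.coe_inv, ← hinv s hsa hsb x x.2, inv_mul_cancel_right]
    rw [pt, ← C.ε_smul, ← mul_smul, hsx, mul_smul]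
    show _ • s • C.pt y = _
    rw [hyz, pt, C.ε_smul, C.ε_inv hab, div_eq_inv_mul]
    rfl
  refine ⟨c₁, d * ν, hc₁, mul_ne_zero hd hν0, fun y hy => ⟨fun hsq => ?_, fun hsq => ?_⟩⟩
  · obtain ⟨x, hx⟩ := C.ε_surj y hy hsq
    have := key x 1 c₁ hs1
    rwa [mul_one, hx] at this
  · have hsq' : IsSquare (y / ν) := by
      rw [div_eq_mul_inv]
      exact isSquare_mul_of_not h2 hsq fun h => hν (by simpa using h.inv)
    obtain ⟨x, hx⟩ := C.ε_surj (y / ν) (div_ne_zero hy hν0) hsq'
    have := key x ν d hsν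
    rw [hx, div_mul_cancel₀ y hν0] at this
    rw [this]
    congr 1
    field_simp

/-- The two constants agree. -/
theorem swap_const (hZ : Cfsg.IsZassenhausGroup G Ω) (hab : a ≠ b) (h2 : ringChar K ≠ 2) {F : Subgroup G}
    (hF : IsKernel a F) (hcard : Nat.card F = 2 * Nat.card (pairStab G a b) + 1)
    (hq : Nat.card K = Nat.card F) (hψF : ∀ u ∈ F, ∃ y, C.ψ y = u)
    {s : G} (hsa : s • a = b) (hsb : s • b = a) :
    ∃ c : K, c ≠ 0 ∧ ∀ y, y ≠ 0 → s • C.pt y = C.pt (c / y) := by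
  classical
  obtain ⟨hinv, hsq⟩ := inverts_of_half hZ hab hF hcard
  obtain ⟨c₁, c₂, hc₁, hc₂, hform⟩ := C.swap_form hZ hab h2 hinv hsa hsb
  by_cases hcc : c₁ = c₂
  · refine ⟨c₁, hc₁, fun y hy => ?_⟩
    by_cases hy2 : IsSquare y
    exacts [(hform y hy).1 hy2, hcc ▸ (hform y hy).2 hy2]
  exfalso
  -- both constants are squares
  have hss : ∀ p : Ω, s • s • p = p := fun p => by rw [← mul_smul, hsq s hsa hsb, one_smul]
  have hc₁sq : IsSquare c₁ := by
    by_contra hn
    have h1 := hss (C.pt 1)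
    rw [(hform 1 one_ne_zero).1 IsSquare.one, div_one, (hform c₁ hc₁).2 hn] at h1
    exact hcc ((div_eq_one_iff_eq hc₁).1 (C.pt_inj _ _ h1)).symm
  have hc₂sq : IsSquare c₂ := by
    obtain ⟨ν, hν⟩ := FiniteField.exists_nonsquare h2
    have hν0 : ν ≠ 0 := fun h => hν (h ▸ IsSquare.zero)
    by_contra hn
    have h1 : IsSquare (c₂ / ν) := by
      rw [div_eq_mul_inv]
      exact isSquare_mul_of_not h2 hn fun h => hν (by simpa using h.inv)
    have h3 := hss (C.pt ν)
    rw [(hform ν hν0).2 hν, (hform _ (div_ne_zero hc₂ hν0)).1 h1] at h3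
    have h4 := C.pt_inj _ _ h3
    field_simp at h4
    exact hcc h4
  by_cases hm : IsSquare (-1 : K)
  · -- normalise the first constant
    obtain ⟨x, hx⟩ := C.ε_surj c₁ hc₁ hc₁sq
    set t := s * (x : G) with ht
    have hta : t • a = b := by rw [ht, mul_smul, mem_stabilizer_iff.1 x.2.1, hsa]
    have htb : t • b = a := by rw [ht, mul_smul, mem_stabilizer_iff.1 x.2.2, hsb]
    set c := c₂ / c₁ with hc
    have hc0 : c ≠ 0 := div_ne_zero hc₂ hc₁
    have hc1 : c ≠ 1 := fun h => hcc ((div_eq_one_iff_eq hc₁).1 h).symm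
    have htform : ∀ y, y ≠ 0 → (IsSquare y → t • C.pt y = C.pt (1 / y)) ∧
        (¬ IsSquare y → t • C.pt y = C.pt (c / y)) := by
      intro y hy
      have hty : t • C.pt y = s • C.pt (c₁ * y) := by
        rw [ht, mul_smul, pt, C.ε_smul, hx]; rfl
      refine ⟨fun h => ?_, fun h => ?_⟩
      · rw [hty, (hform _ (mul_ne_zero hc₁ hy)).1 (hc₁sq.mul h)]
        congr 1; field_simp
      · have h' : ¬ IsSquare (c₁ * y) := fun h' => h (by
          have := hc₁sq.inv.mul h'
          rwa [inv_mul_cancel_left₀ hc₁] at this)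
        rw [hty, (hform _ (mul_ne_zero hc₁ hy)).2 h', hc]
        congr 1; field_simp
    have ht1 : t • C.pt 1 = C.pt 1 := by rw [(htform 1 one_ne_zero).1 IsSquare.one, one_div_one]
    have htm : t • C.pt (-1) = C.pt (-1) := by
      rw [(htform (-1) (neg_ne_zero.2 one_ne_zero)).1 hm]; congr 1; field_simp
    set g := t * C.ψ (-1) * t * C.ψ 1 * t with hg
    have hga : g • a = a := by
      simp only [hg, mul_smul, hta]
      rw [show C.ψ 1 • b = C.pt 1 from rfl, ht1, C.ψ_smul_pt, neg_add_cancel, C.pt_zero, htb]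
    obtain ⟨u, hu, x', hx', hgx⟩ := hF.exists_decomp hab hga
    obtain ⟨β, rfl⟩ := hψF u hu
    have hgpt : ∀ z, g • C.pt z = C.pt (β + C.ε ⟨x', hx'⟩ * z) := fun z => by
      rw [hgx, mul_smul, show x' • C.pt z = C.pt (C.ε ⟨x', hx'⟩ * z) from C.ε_smul ⟨x', hx'⟩ z, C.ψ_smul_pt]
    have hβ : β = -1 := by
      have h1 := hgpt 0
      simp only [hg, mul_smul, C.pt_zero, mul_zero, add_zero, htb, C.fix, hta] at h1
      rw [show C.ψ (-1) • b = C.pt (-1) from rfl, htm] at h1
      exact (C.pt_inj _ _ h1).symm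
    have hε : C.ε ⟨x', hx'⟩ = -1 := by
      have h1 := hgpt (-1)
      simp only [hg, mul_smul, htm, C.ψ_smul_pt, add_neg_cancel, C.pt_zero, htb, C.fix, hta] at h1
      linear_combination (C.pt_inj _ _ (C.pt_zero.trans h1)) + hβ
    have key : ∀ x : K, x ≠ 0 → ¬ IsSquare x → x * x + x + c = 0 := by
      intro x hx hxn
      have hsum : c / x + 1 ≠ 0 := fun h => hxn (by
        have e : x = -1 * c := by
          field_simp at h
          linear_combination h
        rw [e, hc, div_eq_mul_inv]; exact hm.mul (hc₂sq.mul hc₁sq.inv))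
      have hz : -1 + -1 * x ≠ (0 : K) := fun h => hxn (by
        rw [show x = -1 by linear_combination -h]; exact hm)
      have h1 := hgpt x
      rw [hβ, hε] at h1
      simp only [hg, mul_smul, (htform x hx).2 hxn, C.ψ_smul_pt] at h1
      have htt : ∀ p : Ω, t • t • p = p := fun p => by rw [← mul_smul, hsq t hta htb, one_smul]
      obtain ⟨κ, hκ, hκe⟩ : ∃ κ, (κ = 1 ∨ κ = c) ∧ t • C.pt (1 + c / x) = C.pt (κ / (1 + c / x)) := by
        have h0 : 1 + c / x ≠ 0 := by rwa [add_comm]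
        by_cases h : IsSquare (1 + c / x)
        exacts [⟨1, Or.inl rfl, (htform _ h0).1 h⟩, ⟨c, Or.inr rfl, (htform _ h0).2 h⟩]
      rw [hκe, C.ψ_smul_pt] at h1
      have h2' := congrArg (t • ·) h1
      simp only [htt] at h2'
      obtain ⟨l, hl, hle⟩ : ∃ l, (l = 1 ∨ l = c) ∧ t • C.pt (-1 + -1 * x) = C.pt (l / (-1 + -1 * x)) := by
        by_cases h : IsSquare (-1 + -1 * x)
        exacts [⟨1, Or.inl rfl, (htform _ hz).1 h⟩, ⟨c, Or.inr rfl, (htform _ hz).2 h⟩]
      rw [hle] at h2'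
      have h3 := C.pt_inj _ _ h2'
      have h0 : x + c ≠ 0 := fun h => hsum (by rw [show c = -x by linear_combination h]; field_simp; ring)
      have hx1 : x + 1 ≠ 0 := fun h => hz (by linear_combination -h)
      have h4 : κ * x * (x + 1) + l * (x + c) = (x + c) * (x + 1) := by
        rw [show κ / (1 + c / x) = κ * x / (x + c) by field_simp,
          show l / (-1 + -1 * x) = -(l / (x + 1)) by
            rw [show -1 + -1 * x = -(x + 1) by ring, div_neg]] at h3
        field_simp at h3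
        linear_combination h3
      have hcc' : c - 1 ≠ 0 := sub_ne_zero.2 hc1
      rcases hκ with rfl | rfl <;> rcases hl with rfl | rfl
      · exact absurd (mul_eq_zero.1 (show x * (c - 1) = 0 by linear_combination -h4)) (by simp [hx, hcc'])
      · exact absurd (mul_eq_zero.1 (show c * (c - 1) = 0 by linear_combination h4)) (by simp [hc0, hcc'])
      · exact absurd (mul_eq_zero.1 (show (x * x) * (c - 1) = 0 by linear_combination h4)) (by simp [hx, hcc'])
      · refine (mul_eq_zero.1 (show (c - 1) * (x * x + x + c) = 0 by linear_combination h4)).resolve_left hcc'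
    obtain ⟨x, hxn⟩ := FiniteField.exists_nonsquare h2
    have hx0 : x ≠ 0 := fun h => hxn (h ▸ IsSquare.zero)
    have hxn' : ¬ IsSquare (-x) := fun h => hxn (by simpa using hm.mul h)
    have e1 := key x hx0 hxn
    have e2 := key (-x) (neg_ne_zero.2 hx0) hxn'
    have h2x : (2 : K) * x = 0 := by linear_combination e1 - e2
    exact hx0 ((mul_eq_zero.1 h2x).resolve_left (Ring.two_ne_zero h2))
  · -- the swapper would fix a point
    obtain ⟨γ, rfl⟩ := hc₁sq
    have hγ : γ ≠ 0 := left_ne_zero_of_mul hc₁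
    obtain ⟨δ, hδ0, hδs, hδ⟩ : ∃ δ : K, δ ≠ 0 ∧ IsSquare δ ∧ γ * γ = δ * δ := by
      by_cases h : IsSquare γ
      · exact ⟨γ, hγ, h, rfl⟩
      · exact ⟨-γ, neg_ne_zero.2 hγ, by simpa using isSquare_mul_of_not h2 hm h, by ring⟩
    have hfix : s • C.pt δ = C.pt δ := by
      rw [(hform δ hδ0).1 hδs, hδ, mul_div_assoc, div_self hδ0, mul_one]
    have hodd : Odd (Nat.card (pairStab G a b)) := by
      rw [Nat.card_eq_fintype_card (α := K), hcard] at hq
      rw [FiniteField.isSquare_neg_one_iff, not_not, hq] at hm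
      rw [Nat.odd_iff]; omega
    have hI : Inverted G a b := ⟨hodd, hinv⟩
    have h0 := hI.card_fixed hZ hab ⟨s, (hI.swap_invol hZ hab hsa hsb)⟩
    have hn := hF.card_add_one hab
    rw [show Nat.card Ω % 2 = 0 by omega, Nat.card_eq_zero] at h0
    exact h0.elim (fun h => h.false ⟨C.pt δ, hfix⟩) (fun h => h.false)

end HalfCoord

/-- Coordinates exist. -/
theorem exists_halfCoord {G Ω : Type*} [Group G] [MulAction G Ω] [Finite G] [Finite Ω]
    (hZ : Cfsg.IsZassenhausGroup G Ω) {a b : Ω} (hab : a ≠ b) {F : Subgroup G} (hF : IsKernel a F)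
    (hcard : Nat.card F = 2 * Nat.card (pairStab G a b) + 1) :
    ∃ (K : Type) (_ : Field K) (_ : Fintype K), ringChar K ≠ 2 ∧ Nat.card K = Nat.card F ∧
      ∃ C : HalfCoord G a b K, ∀ u ∈ F, ∃ y, C.ψ y = u := by
  classical
  obtain ⟨⟨⟨hFc⟩⟩, -⟩ := hF.elementary hZ hab (by omega)
  obtain ⟨hinv, -⟩ := inverts_of_half hZ hab hF hcard
  obtain ⟨w, hwa, hwb⟩ := exists_swap hZ hab
  have hEc : ∀ x y : pairStab G a b, x * y = y * x := fun x y => by
    have h := hinv w hwa hwb _ (mul_mem x.2 y.2)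
    rw [show w * ((x : G) * y) * w⁻¹ = (w * x * w⁻¹) * (w * y * w⁻¹) by group, hinv w hwa hwb x x.2,
      hinv w hwa hwb y y.2, ← mul_inv_rev, inv_inj] at h
    exact Subtype.ext h.symm
  obtain ⟨K, hKf, hKt, ψ, hψF, hψi, hψs, hψa, ε, hε⟩ := exists_field_of_irreducible (pairStab G a b) F
    (fun x hx u hu => hF.normal x hx.1 u hu) hFc hEc (hF.ne_bot hZ hab)
    (fun A hA hA1 hinvA => hF.eq_top_of_invariant hZ hab (by omega) hA hA1 hinvA)
  have hq : Nat.card K = Nat.card F :=
    Nat.card_congr (Equiv.ofBijective (fun y => (⟨ψ y, hψF y⟩ : F))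
      ⟨fun y z h => hψi (congrArg Subtype.val h), fun u => (hψs u u.2).imp fun y h => Subtype.ext h⟩)
  have h2 : ringChar K ≠ 2 := fun h => by
    rw [FiniteField.even_card_iff_char_two, ← Nat.card_eq_fintype_card, hq] at h
    omega
  have hψ0 : ψ 0 = 1 := mul_eq_left.1 (show ψ 0 * ψ 0 = ψ 0 by rw [← hψa, add_zero])
  have hε0 : ∀ x, ε x ≠ 0 := fun x h => by
    have h1 := hε x 1
    rw [h, zero_mul, hψ0, conj_eq_one_iff, ← hψ0] at h1
    exact one_ne_zero (hψi h1)
  have hεm : ∀ x y, ε (x * y) = ε x * ε y := fun x y => by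
    have h1 := hε (x * y) 1
    rw [Subgroup.coe_mul, mul_one, show (x : G) * y * ψ 1 * ((x : G) * y)⁻¹ = x * (y * ψ 1 * (y : G)⁻¹) * (x : G)⁻¹ by
      group, hε, hε, mul_one] at h1
    exact (hψi h1).symm
  let φ : pairStab G a b →* K :=
    { toFun := ε, map_one' := (mul_eq_left₀ (hε0 1)).1 (by rw [← hεm, mul_one]), map_mul' := hεm }
  have hεinj : Function.Injective ε := fun x y h => by
    have h1 : ε (y⁻¹ * x) = 1 := by
      rw [hεm, h, ← hεm, inv_mul_cancel]; exact φ.map_one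
    by_contra hne
    obtain ⟨u, hu, hu1⟩ := (Subgroup.bot_or_exists_ne_one F).resolve_left (hF.ne_bot hZ hab)
    obtain ⟨z, rfl⟩ := hψs u hu
    have h2 := hε (y⁻¹ * x) z
    rw [h1, one_mul] at h2
    have h3 : ψ z ∈ F ⊓ Subgroup.centralizer ({((y⁻¹ * x : pairStab G a b) : G)} : Set G) :=
      Subgroup.mem_inf.2 ⟨hu, Subgroup.mem_centralizer_singleton_iff.2 (mul_inv_eq_iff_eq_mul.1 h2).symm⟩
    rw [(hF.isFPF hZ hab).2 _ (y⁻¹ * x).2 (fun e => hne (inv_mul_eq_one.1 (Subtype.ext e)).symm),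
      Subgroup.mem_bot] at h3
    exact hu1 h3
  have hdiv : Fintype.card K / 2 = Nat.card (pairStab G a b) := by
    rw [← Nat.card_eq_fintype_card, hq, hcard]; omega
  have hpow : ∀ x, ε x ^ Nat.card (pairStab G a b) = 1 := fun x => by
    show φ x ^ _ = 1
    rw [← map_pow, pow_card_eq_one', map_one]
  have hsq : ∀ x, ε x ≠ 0 ∧ IsSquare (ε x) := fun x =>
    ⟨hε0 x, (FiniteField.isSquare_iff h2 (hε0 x)).2 (by rw [hdiv]; exact hpow x)⟩
  have hsurj : ∀ y, y ≠ 0 → IsSquare y → ∃ x, ε x = y := by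
    intro y hy hys
    by_contra! hno
    let R : Finset K := (Polynomial.nthRoots (Nat.card (pairStab G a b)) (1 : K)).toFinset
    have hpos := Nat.card_pos (α := pairStab G a b)
    have hR : R.card ≤ Nat.card (pairStab G a b) :=
      (Multiset.toFinset_card_le _).trans (Polynomial.card_nthRoots _ _)
    let _ := Fintype.ofFinite (pairStab G a b)
    have hsub : insert y (Finset.univ.image ε) ⊆ R := by
      intro z hz
      rw [Multiset.mem_toFinset, Polynomial.mem_nthRoots hpos]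
      rcases Finset.mem_insert.1 hz with rfl | hz
      · have := (FiniteField.isSquare_iff h2 hy).1 hys
        rwa [hdiv] at this
      · obtain ⟨x, -, rfl⟩ := Finset.mem_image.1 hz
        exact hpow x
    have h3 := (Finset.card_le_card hsub).trans hR
    rw [Finset.card_insert_of_notMem (fun h => by
      obtain ⟨x, -, hx⟩ := Finset.mem_image.1 h; exact hno x hx), Finset.card_image_of_injective _ hεinj,
      Finset.card_univ, Nat.card_eq_fintype_card] at h3
    omega
  refine ⟨K, hKf, hKt, h2, hq, ⟨ψ, ε, fun y => hF.le (hψF y), hψ0, hψa, fun y z h => ?_, fun c hc => ?_,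
    fun x y => ?_, hsq, hsurj⟩, hψs⟩
  · exact hψi (congrArg Subtype.val ((hF.regular b _ hab.symm (hF.smul_ne (hψF z) hab.symm)).unique
      (y₁ := (⟨ψ y, hψF y⟩ : F)) (y₂ := ⟨ψ z, hψF z⟩) h rfl))
  · obtain ⟨⟨u, hu⟩, huc, -⟩ := hF.regular b c hab.symm hc
    obtain ⟨y, rfl⟩ := hψs u hu
    exact ⟨y, huc⟩
  · rw [← hε x y, mul_smul, mul_smul, show ((x : G)⁻¹) • b = b from inv_smul_eq_iff.2 x.2.2.symm]

/-- A Zassenhaus group with abelian kernel and `n - 2 = 2 e` is `PSL(2, q)`. -/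
theorem exists_psl {G Ω : Type*} [Group G] [MulAction G Ω] [Finite G] [Finite Ω]
    (hZ : Cfsg.IsZassenhausGroup G Ω) {a b : Ω} (hab : a ≠ b) {F : Subgroup G} (hF : IsKernel a F)
    (hcard : Nat.card F = 2 * Nat.card (pairStab G a b) + 1) :
    ∃ (K : Type) (_ : Field K) (_ : Fintype K), ringChar K ≠ 2 ∧ Nat.card K = Nat.card F ∧
      Nonempty (G ≃* Matrix.ProjectiveSpecialLinearGroup (Fin 2) K) := by
  classical
  obtain ⟨K, hKf, hKt, h2, hq, C, hψF⟩ := exists_halfCoord hZ hab hF hcard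
  refine ⟨K, hKf, hKt, h2, hq, ?_⟩
  obtain ⟨s, hsa, hsb⟩ := exists_swap hZ hab
  obtain ⟨c, hc, hs⟩ := C.swap_const hZ hab h2 hF hcard hq hψF hsa hsb
  let π : OnePoint K → Ω := fun p => p.elim a C.pt
  have hπinj : Function.Injective π := by
    intro p q hpq
    induction p using OnePoint.rec <;> induction q using OnePoint.rec
    · rfl
    · exact absurd hpq.symm (C.pt_ne hab _)
    · exact absurd hpq (C.pt_ne hab _)
    · exact congrArg _ (C.pt_inj _ _ hpq)
  let Rel : Matrix.SpecialLinearGroup (Fin 2) K → G → Prop := fun g γ =>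
    ∀ p, π (Matrix.SpecialLinearGroup.toGL g • p) = γ • π p
  let S : Subgroup (Matrix.SpecialLinearGroup (Fin 2) K) :=
    { carrier := {g | ∃ γ, Rel g γ}
      one_mem' := ⟨1, fun p => by rw [map_one, one_smul, one_smul]⟩
      mul_mem' := by
        rintro g g' ⟨u, hu⟩ ⟨v, hv⟩
        exact ⟨u * v, fun p => by rw [map_mul, mul_smul, hu, hv, mul_smul]⟩
      inv_mem' := by
        rintro g ⟨u, hu⟩
        refine ⟨u⁻¹, fun p => ?_⟩
        rw [eq_inv_smul_iff, ← hu, map_inv, smul_inv_smul] }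
  have hcoe : ∀ (g : Matrix.SpecialLinearGroup (Fin 2) K) (r l : Fin 2),
      (Matrix.SpecialLinearGroup.toGL g).1 r l = g.1 r l := fun _ _ _ => rfl
  have hU : ∀ t : K, CfsgLib.Classical.uSL t ∈ S := by
    intro t
    refine ⟨C.ψ t, fun p => ?_⟩
    induction p using OnePoint.rec with
    | infty =>
      rw [OnePoint.smul_infty_eq_ite]
      show π _ = C.ψ t • a
      rw [C.fix]
      simp [hcoe, π, CfsgLib.Classical.uSL_coe]
    | coe y =>
      rw [OnePoint.smul_some_eq_ite]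
      show π _ = C.ψ t • C.pt y
      rw [C.ψ_smul_pt]
      simp [hcoe, π, CfsgLib.Classical.uSL_coe, add_comm]
  have hL : ∀ t : K, CfsgLib.Classical.lSL t ∈ S := by
    intro t
    refine ⟨s * C.ψ (c * t) * s, fun p => ?_⟩
    have hb : ∀ z, z ≠ 0 → s • C.pt (c * t + c / z) =
        if t * z + 1 = 0 then a else C.pt (z / (t * z + 1)) := by
      intro z hz
      have e : c * t + c / z = c * (t * z + 1) / z := by field_simp
      split_ifs with h
      · rw [e, h, mul_zero, zero_div, C.pt_zero, hsb]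
      · rw [e, hs _ (div_ne_zero (mul_ne_zero hc h) hz)]
        congr 1; field_simp
    induction p using OnePoint.rec with
    | infty =>
      rw [OnePoint.smul_infty_eq_ite]
      show π _ = (s * C.ψ (c * t) * s) • a
      rw [mul_smul, mul_smul, hsa, show C.ψ (c * t) • b = C.pt (c * t) from rfl]
      by_cases ht : t = 0
      · subst ht
        rw [mul_zero, C.pt_zero, hsb]
        simp [hcoe, π, CfsgLib.Classical.lSL_coe]
      · rw [hs _ (mul_ne_zero hc ht)]
        simp [hcoe, π, CfsgLib.Classical.lSL_coe, ht]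
        congr 1; field_simp
    | coe y =>
      rw [OnePoint.smul_some_eq_ite]
      show π _ = (s * C.ψ (c * t) * s) • C.pt y
      by_cases hy : y = 0
      · subst hy
        rw [mul_smul, mul_smul, C.pt_zero, hsb, C.fix, hsa]
        simp [hcoe, π, CfsgLib.Classical.lSL_coe, C.pt_zero]
      · rw [mul_smul, mul_smul, hs y hy, C.ψ_smul_pt, hb y hy]
        simp [hcoe, π, CfsgLib.Classical.lSL_coe]
        split_ifs <;> simp
  have hS : S = ⊤ := by
    refine CfsgLib.Classical.eq_top_of_transvection_mem S fun i l hil t => ?_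
    fin_cases i <;> fin_cases l
    · exact absurd rfl hil
    · exact hU t
    · exact hL t
    · exact absurd rfl hil
  have hall : ∀ g, ∃ γ, Rel g γ := fun g => (hS ▸ Subgroup.mem_top g : g ∈ S)
  choose θ hθ using hall
  have huniq : ∀ g γ γ', Rel g γ → Rel g γ' → γ = γ' := by
    intro g γ γ' h1 h2
    have hfix : ∀ p, (γ'⁻¹ * γ) • π p = π p := fun p => by rw [mul_smul, ← h1, h2, inv_smul_smul]
    exact (inv_mul_eq_one.1 (eq_one_of_three hZ (C.pt_ne hab 0).symm
      (fun e => zero_ne_one (C.pt_inj 0 1 e)) (C.pt_ne hab 1).symm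
      (hfix OnePoint.infty) (hfix ((0 : K) : OnePoint K)) (hfix ((1 : K) : OnePoint K)))).symm
  let Θ : Matrix.SpecialLinearGroup (Fin 2) K →* G := MonoidHom.mk' θ fun g g' =>
    huniq (g * g') _ _ (hθ _) fun p => by rw [map_mul, mul_smul, hθ, hθ, mul_smul]
  have hker : Θ.ker ≤ Subgroup.center (Matrix.SpecialLinearGroup (Fin 2) K) := by
    intro g hg
    have hfix : ∀ p, Matrix.SpecialLinearGroup.toGL g • p = p := fun p => hπinj (by
      rw [hθ]; show Θ g • π p = π p; rw [MonoidHom.mem_ker.1 hg, one_smul])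
    have h10 : g.1 1 0 = 0 := by
      have := hfix OnePoint.infty
      rwa [OnePoint.smul_infty_eq_self_iff] at this
    have h11 : g.1 1 1 ≠ 0 := fun h0 => by
      have hdet := g.2
      rw [Matrix.det_fin_two, h10, h0, mul_zero, mul_zero, sub_zero] at hdet
      exact zero_ne_one hdet
    have h00 := hfix ((0 : K) : OnePoint K)
    have h01 := hfix ((1 : K) : OnePoint K)
    rw [OnePoint.smul_some_eq_ite] at h00 h01
    simp [h10, h11] at h00 h01
    rw [h00, add_zero, div_eq_one_iff_eq h11] at h01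
    have hg' : g.1 = Matrix.scalar (Fin 2) (g.1 1 1) := by
      ext r l; fin_cases r <;> fin_cases l <;> simp [h10, h00, h01]
    rw [Subgroup.mem_center_iff]
    intro k
    apply Matrix.SpecialLinearGroup.ext
    intro r l
    rw [Matrix.SpecialLinearGroup.coe_mul, Matrix.SpecialLinearGroup.coe_mul, hg',
      (Matrix.scalar_commute _ (Commute.all _) k.1).eq]
  have hcen : Nat.card (Subgroup.center (Matrix.SpecialLinearGroup (Fin 2) K)) = 2 := by
    rw [CfsgLib.Classical.card_center_SL_fin 2 one_le_two, CfsgLib.Classical.gcd_two_card_sub_one_of_odd]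
    rw [hq, hcard]; exact odd_two_mul_add_one _
  have hG2 : Nat.card (Matrix.SpecialLinearGroup (Fin 2) K) = 2 * Nat.card G := by
    rw [CfsgLib.Classical.card_SL_two, hF.card_group hZ hab, ← hF.card_add_one hab, hq, hcard,
      show (2 * Nat.card (pairStab G a b) + 1) ^ 2 - 1 =
        (2 * Nat.card (pairStab G a b) + 2) * (2 * Nat.card (pairStab G a b)) by
          rw [pow_two]; ring_nf; omega]
    ring
  have hrange : Nat.card Θ.range = Nat.card (Matrix.SpecialLinearGroup (Fin 2) K) / Nat.card Θ.ker := by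
    rw [← Subgroup.index_ker, ← Θ.ker.card_mul_index, Nat.mul_div_cancel_left _ Nat.card_pos]
  have hk2 : Nat.card Θ.ker ≤ 2 := (Subgroup.card_le_of_le hker).trans hcen.le
  have hk : Nat.card Θ.ker = 2 := by
    rcases Nat.lt_or_ge (Nat.card Θ.ker) 2 with h | h
    · exfalso
      have h1 : Nat.card Θ.ker = 1 := by have := Nat.card_pos (α := Θ.ker); omega
      rw [h1, Nat.div_one, hG2] at hrange
      have := Subgroup.card_le_card_group Θ.range
      have := Nat.card_pos (α := G)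
      omega
    · omega
  have hsurj : Function.Surjective Θ := by
    rw [← MonoidHom.range_eq_top]
    refine Subgroup.eq_top_of_card_eq _ ?_
    rw [hrange, hk, hG2, Nat.mul_div_cancel_left _ two_pos]
  have hkereq : Θ.ker = Subgroup.center (Matrix.SpecialLinearGroup (Fin 2) K) :=
    Subgroup.eq_of_le_of_card_ge hker (by rw [hk, hcen])
  exact ⟨(QuotientGroup.quotientKerEquivOfSurjective Θ hsurj).symm.trans
    (QuotientGroup.quotientMulEquivOfEq hkereq)⟩

end CfsgLib.Perm.ZassG
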