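import Cfsg.Agent.Lib.Perm.ZassG.Half
import Cfsg.Agent.Lib.Classical.P1

/-!
Zassenhaus groups with `n - 2 = e`: sharply triply transitive groups.
-/

open MulAction Cfsg

namespace CfsgLib.Perm.ZassG

variable {G Ω : Type*} [Group G] [MulAction G Ω] [Finite G] [Finite Ω]
  (hZ : Cfsg.IsZassenhausGroup G Ω) {a b : Ω} (hab : a ≠ b)
include hZ hab

/-- When `e = n - 2` the two-point stabiliser is regular on the other points. -/
theorem exists_pair_move (hcard : Nat.card (pairStab G a b) + 2 = Nat.card Ω) {c d : Ω}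
    (hca : c ≠ a) (hcb : c ≠ b) (hda : d ≠ a) (hdb : d ≠ b) : ∃ x ∈ pairStab G a b, x • c = d := by
  classical
  have := Fintype.ofFinite Ω
  have hne : ∀ x : pairStab G a b, (x : G) • c ≠ a ∧ (x : G) • c ≠ b := fun x =>
    ⟨fun h => hca (smul_left_cancel (x : G) (h.trans x.2.1.symm)),
      fun h => hcb (smul_left_cancel (x : G) (h.trans x.2.2.symm))⟩
  let f : pairStab G a b → {y : Ω // y ≠ a ∧ y ≠ b} := fun x => ⟨(x : G) • c, hne x⟩
  have hf : Function.Injective f := fun x y h => by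
    have e : (x : G) • c = (y : G) • c := congrArg Subtype.val h
    refine Subtype.ext (inv_mul_eq_one.1 (eq_one_of_three hZ hab hcb.symm hca.symm (g := (y : G)⁻¹ * x)
      ?_ ?_ (by rw [mul_smul, e, inv_smul_smul]))).symm
    · exact (mul_mem (inv_mem y.2) x.2).1
    · exact (mul_mem (inv_mem y.2) x.2).2
  have hc : Nat.card (pairStab G a b) = Nat.card {y : Ω // y ≠ a ∧ y ≠ b} := by
    rw [Nat.card_eq_fintype_card (α := {y : Ω // y ≠ a ∧ y ≠ b}), Fintype.card_subtype,
      show (Finset.univ.filter fun y : Ω => y ≠ a ∧ y ≠ b) = (Finset.univ : Finset Ω) \ {a, b} by ext; simp,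
      Finset.card_sdiff_of_subset (Finset.subset_univ _), Finset.card_pair hab, Finset.card_univ,
      ← Nat.card_eq_fintype_card (α := Ω), ← hcard, Nat.add_sub_cancel]
  obtain ⟨x, hx⟩ := ((Nat.bijective_iff_injective_and_card f).2 ⟨hf, hc⟩).2 ⟨d, hda, hdb⟩
  exact ⟨x, x.2, congrArg Subtype.val hx⟩

theorem three_transitive (hcard : Nat.card (pairStab G a b) + 2 = Nat.card Ω) :
    IsMultiplyPretransitive G Ω 3 ∧ ∀ t : Fin 3 ↪ Ω, stabilizer G t = ⊥ := by
  obtain ⟨c, hca, hcb⟩ := exists_third hZ hab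
  refine ⟨CfsgLib.Classical.three_pretransitive_of_exists a b c fun x y z hxy hxz hyz => ?_, fun t => ?_⟩
  · obtain ⟨g, hga, hgb⟩ := exists_move hZ a b x y hab hxy
    obtain ⟨u, hu, huc⟩ := exists_pair_move hZ hab hcard hca hcb
      (show g⁻¹ • z ≠ a from fun h => hxz (by rw [← hga, ← h, smul_inv_smul]))
      (show g⁻¹ • z ≠ b from fun h => hyz (by rw [← hgb, ← h, smul_inv_smul]))
    exact ⟨g * u, by rw [mul_smul, mem_stabilizer_iff.1 hu.1, hga],
      by rw [mul_smul, mem_stabilizer_iff.1 hu.2, hgb], by rw [mul_smul, huc, smul_inv_smul]⟩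
  · rw [Subgroup.eq_bot_iff_forall]
    intro g hg
    have h := fun i => DFunLike.congr_fun (mem_stabilizer_iff.1 hg) i
    exact eq_one_of_three hZ (t.injective.ne (show (0 : Fin 3) ≠ 1 by decide))
      (t.injective.ne (show (1 : Fin 3) ≠ 2 by decide)) (t.injective.ne (show (0 : Fin 3) ≠ 2 by decide))
      (h 0) (h 1) (h 2)

end CfsgLib.Perm.ZassG
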