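import Cfsg.Agent.Lib.Classical.P1

/-!
A group fixing no three points, with translations, dilations and an inversion in coordinates on the
points other than one, is `PGL(2, K)`.
-/

open MulAction Matrix
open scoped LinearAlgebra.Projectivization

namespace CfsgLib.Perm.ZassG

/-- Recognition of `PGL(2, K)`. -/
theorem nonempty_pgl_of_coord {G Ω : Type*} [Group G] [MulAction G Ω] {K : Type} [Field K]
    (sharp : ∀ (g : G) (x y z : Ω), x ≠ y → y ≠ z → x ≠ z → g • x = x → g • y = y → g • z = z → g = 1)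
    {a : Ω} (pt : K → Ω) (hinj : Function.Injective pt) (hne : ∀ y, pt y ≠ a)
    (hsurj : ∀ c, c ≠ a → ∃ y, pt y = c)
    (htrans : ∀ t, ∃ g : G, g • a = a ∧ ∀ y, g • pt y = pt (y + t))
    (hdil : ∀ l : K, l ≠ 0 → ∃ g : G, g • a = a ∧ ∀ y, g • pt y = pt (l * y))
    (hinv : ∃ g : G, ∃ c : K, c ≠ 0 ∧ g • a = pt 0 ∧ g • pt 0 = a ∧ ∀ y, y ≠ 0 → g • pt y = pt (c / y)) :
    Nonempty (G ≃* Matrix.ProjGenLinGroup (Fin 2) K) := by
  classical
  let f : {v : Fin 2 → K // v ≠ 0} → Ω := fun v => if v.1 1 = 0 then a else pt (v.1 0 / v.1 1)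
  let π : ℙ K (Fin 2 → K) → Ω := Projectivization.lift f (by
    rintro ⟨v, hv⟩ ⟨w, hw⟩ t (rfl : v = t • w)
    have ht : t ≠ 0 := fun h => hv (by rw [h, zero_smul])
    simp only [f, Pi.smul_apply, smul_eq_mul, mul_eq_zero, ht, false_or]
    split_ifs with h
    · rfl
    · rw [mul_div_mul_left _ _ ht])
  have hπ : ∀ (v : Fin 2 → K) (hv : v ≠ 0),
      π (Projectivization.mk K v hv) = if v 1 = 0 then a else pt (v 0 / v 1) := fun v hv =>
    Projectivization.lift_mk _ _ v hv
  have hπinj : Function.Injective π := by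
    intro p q h
    induction p using Projectivization.ind with | _ v hv =>
    induction q using Projectivization.ind with | _ w hw =>
    rw [hπ, hπ] at h
    rw [Projectivization.mk_eq_mk_iff']
    split_ifs at h with h1 h2 h2
    · have h0 : w 0 ≠ 0 := fun e => hw (by ext i; fin_cases i <;> simp [e, h2])
      refine ⟨v 0 / w 0, ?_⟩
      ext i; fin_cases i <;> simp [h1, h2, h0]
    · exact absurd h.symm (hne _)
    · exact absurd h (hne _)
    · refine ⟨v 1 / w 1, ?_⟩
      have e := hinj h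
      ext i; fin_cases i
      · simp; field_simp at e ⊢; linear_combination -e
      · simp [h2]
  let S : Subgroup (GL (Fin 2) K) :=
    { carrier := {g | ∃ γ : G, ∀ p, π (Matrix.ProjGenLinGroup.mk g • p) = γ • π p}
      one_mem' := ⟨1, fun p => by rw [map_one, one_smul, one_smul]⟩
      mul_mem' := by
        rintro g g' ⟨u, hu⟩ ⟨v, hv⟩
        exact ⟨u * v, fun p => by rw [map_mul, mul_smul, hu, hv, mul_smul]⟩
      inv_mem' := by
        rintro g ⟨u, hu⟩
        refine ⟨u⁻¹, fun p => ?_⟩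
        rw [eq_inv_smul_iff, ← hu, map_inv, smul_inv_smul] }
  have hmem : ∀ (g : GL (Fin 2) K) (γ : G),
      (∀ (v : Fin 2 → K), v ≠ 0 → (if (g.1 *ᵥ v) 1 = 0 then a else pt ((g.1 *ᵥ v) 0 / (g.1 *ᵥ v) 1)) =
        γ • (if v 1 = 0 then a else pt (v 0 / v 1))) → g ∈ S := fun g γ h => ⟨γ, fun p => by
    induction p using Projectivization.ind with | _ v hv =>
    rw [CfsgLib.Classical.gl_smul_mk, hπ, hπ]
    exact h v hv⟩
  have hU : ∀ t : K, Matrix.SpecialLinearGroup.toGL (CfsgLib.Classical.uSL t) ∈ S := fun t => by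
    obtain ⟨γ, ha, hy⟩ := htrans t
    refine hmem _ γ fun v hv => ?_
    show (if ((CfsgLib.Classical.uSL t).1 *ᵥ v) 1 = 0 then a else
      pt (((CfsgLib.Classical.uSL t).1 *ᵥ v) 0 / ((CfsgLib.Classical.uSL t).1 *ᵥ v) 1)) = _
    rw [CfsgLib.Classical.uSL_coe]
    simp only [Matrix.mulVec, dotProduct, Fin.sum_univ_two]
    simp
    split_ifs with h
    · exact ha.symm
    · rw [hy]; congr 1; field_simp
  have hD : ∀ (l : K) (g : GL (Fin 2) K), g.1 = !![l, 0; 0, 1] → g ∈ S := fun l g hg => by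
    have hl : l ≠ 0 := fun h => g.det_ne_zero (by rw [hg, h]; simp [Matrix.det_fin_two])
    obtain ⟨γ, ha, hy⟩ := hdil l hl
    refine hmem g γ fun v hv => ?_
    rw [hg]
    simp only [Matrix.mulVec, dotProduct, Fin.sum_univ_two]
    simp
    split_ifs with h
    · exact ha.symm
    · rw [hy, mul_div_assoc]
  let w : GL (Fin 2) K := GeneralLinearGroup.mkOfDetNeZero !![0, 1; 1, 0] (by simp [Matrix.det_fin_two])
  have hW : w ∈ S := by
    obtain ⟨γ₀, c, hc, ha, h0, hy⟩ := hinv
    obtain ⟨δ, hδa, hδ⟩ := hdil c⁻¹ (inv_ne_zero hc)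
    refine hmem w (δ * γ₀) fun v hv => ?_
    show (if (!![(0 : K), 1; 1, 0] *ᵥ v) 1 = 0 then a else
      pt ((!![(0 : K), 1; 1, 0] *ᵥ v) 0 / (!![(0 : K), 1; 1, 0] *ᵥ v) 1)) = _
    simp only [Matrix.mulVec, dotProduct, Fin.sum_univ_two]
    simp
    split_ifs with h1 h2 h2
    · exact absurd (by ext i; fin_cases i <;> simp [h1, h2]) hv
    · rw [mul_smul, h1, zero_div, h0, hδa]
    · rw [mul_smul, ha, hδ, h2, zero_div, mul_zero]
    · rw [mul_smul, hy _ (div_ne_zero h1 h2), hδ]; congr 1; field_simp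
  have hS : ∀ g : GL (Fin 2) K, g ∈ S := by
    have hSL : S.comap Matrix.SpecialLinearGroup.toGL = ⊤ := by
      refine CfsgLib.Classical.eq_top_of_transvection_mem _ fun i j hij t => ?_
      fin_cases i <;> fin_cases j
      · exact absurd rfl hij
      · exact hU t
      · show Matrix.SpecialLinearGroup.toGL (CfsgLib.Classical.lSL t) ∈ S
        have e : Matrix.SpecialLinearGroup.toGL (CfsgLib.Classical.lSL t) =
            w * Matrix.SpecialLinearGroup.toGL (CfsgLib.Classical.uSL t) * w := by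
          refine Units.ext ?_
          show (CfsgLib.Classical.lSL t).1 = !![(0 : K), 1; 1, 0] * (CfsgLib.Classical.uSL t).1 * !![(0 : K), 1; 1, 0]
          rw [CfsgLib.Classical.lSL_coe, CfsgLib.Classical.uSL_coe]
          ext i j; fin_cases i <;> fin_cases j <;> simp [Matrix.mul_apply, Fin.sum_univ_two]
        rw [e]
        exact mul_mem (mul_mem hW (hU t)) hW
      · exact absurd rfl hij
    intro g
    let d : GL (Fin 2) K := GeneralLinearGroup.mkOfDetNeZero !![g.1.det, 0; 0, 1]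
      (by simpa [Matrix.det_fin_two] using g.det_ne_zero)
    let s : Matrix.SpecialLinearGroup (Fin 2) K := ⟨(d⁻¹ * g).1, by
      have h := congrArg Units.val (map_mul (Matrix.GeneralLinearGroup.det (n := Fin 2) (R := K)) d (d⁻¹ * g))
      rw [mul_inv_cancel_left] at h
      simp only [Units.val_mul, Matrix.GeneralLinearGroup.val_det_apply] at h
      rw [show d.1.det = g.1.det by show Matrix.det !![g.1.det, 0; 0, 1] = _; simp [Matrix.det_fin_two]] at h
      exact (mul_eq_left₀ g.det_ne_zero).1 h.symm⟩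
    have hs : Matrix.SpecialLinearGroup.toGL s ∈ S := (hSL ▸ Subgroup.mem_top s : s ∈ S.comap _)
    have := mul_mem (hD _ d rfl) hs
    rwa [show d * Matrix.SpecialLinearGroup.toGL s = g by
      rw [show Matrix.SpecialLinearGroup.toGL s = d⁻¹ * g from Units.ext rfl, mul_inv_cancel_left]] at this
  choose θ hθ using hS
  have n1 : CfsgLib.Classical.pInf K ≠ CfsgLib.Classical.pZero K := by
    simp [CfsgLib.Classical.pInf, CfsgLib.Classical.pZero, Projectivization.mk_eq_mk_iff', funext_iff, Fin.forall_fin_two]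
  have n2 : CfsgLib.Classical.pInf K ≠ CfsgLib.Classical.pOne K := by
    simp [CfsgLib.Classical.pInf, CfsgLib.Classical.pOne, Projectivization.mk_eq_mk_iff', funext_iff, Fin.forall_fin_two]
  have n3 : CfsgLib.Classical.pZero K ≠ CfsgLib.Classical.pOne K := by
    simp [CfsgLib.Classical.pZero, CfsgLib.Classical.pOne, Projectivization.mk_eq_mk_iff', funext_iff, Fin.forall_fin_two]
  have huniq : ∀ γ γ' : G, (∀ p, γ • π p = γ' • π p) → γ = γ' := fun γ γ' h =>
    (inv_mul_eq_one.1 (sharp (γ'⁻¹ * γ) _ _ _ (hπinj.ne n1) (hπinj.ne n3) (hπinj.ne n2)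
      (by rw [mul_smul, h, inv_smul_smul]) (by rw [mul_smul, h, inv_smul_smul])
      (by rw [mul_smul, h, inv_smul_smul]))).symm
  let Θ : GL (Fin 2) K →* G := MonoidHom.mk' θ fun g g' => huniq _ _ fun p => by
    rw [← hθ, map_mul, mul_smul, hθ, hθ, mul_smul]
  have hsurjπ : ∀ c, ∃ p, π p = c := fun c => by
    rcases eq_or_ne c a with rfl | hc
    · exact ⟨CfsgLib.Classical.pInf K, by rw [CfsgLib.Classical.pInf, hπ]; simp⟩
    · obtain ⟨y, rfl⟩ := hsurj c hc
      exact ⟨Projectivization.mk K ![y, 1] (fun h => by simpa using congrFun h 1), by rw [hπ]; simp⟩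
  have hker : Θ.ker = Subgroup.center (GL (Fin 2) K) := by
    ext g
    rw [MonoidHom.mem_ker, ← Matrix.ProjGenLinGroup.mk_eq_one]
    constructor
    · intro hg
      have hfix : ∀ p, Matrix.ProjGenLinGroup.mk g • p = p := fun p => hπinj (by
        rw [hθ]; show Θ g • π p = π p; rw [hg, one_smul])
      exact CfsgLib.Classical.pgl_sharp n1 n2 n3 (hfix _) (hfix _) (hfix _)
    · intro hg
      exact huniq _ _ fun p => by
        show θ g • π p = _
        rw [← hθ, hg, one_smul, one_smul]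
  have hsurjΘ : Function.Surjective Θ := by
    intro γ
    obtain ⟨p, hp⟩ := hsurjπ (γ • π (CfsgLib.Classical.pInf K))
    obtain ⟨q, hq⟩ := hsurjπ (γ • π (CfsgLib.Classical.pZero K))
    obtain ⟨r, hr⟩ := hsurjπ (γ • π (CfsgLib.Classical.pOne K))
    have hne3 : ∀ x y, x ≠ y → γ • π x ≠ γ • π y := fun x y h e => h (hπinj (smul_left_cancel γ e))
    obtain ⟨g, g1, g2, g3⟩ := CfsgLib.Classical.exists_gl_three (a := p) (b := q) (c := r)
      (fun e => hne3 _ _ n1 (by rw [← hp, ← hq, e])) (fun e => hne3 _ _ n2 (by rw [← hp, ← hr, e]))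
      (fun e => hne3 _ _ n3 (by rw [← hq, ← hr, e]))
    refine ⟨g, (inv_mul_eq_one.1 (sharp (γ⁻¹ * θ g) _ _ _ (hπinj.ne n1) (hπinj.ne n3) (hπinj.ne n2)
      ?_ ?_ ?_)).symm⟩
    · rw [mul_smul, ← hθ, g1, hp, inv_smul_smul]
    · rw [mul_smul, ← hθ, g2, hq, inv_smul_smul]
    · rw [mul_smul, ← hθ, g3, hr, inv_smul_smul]
  exact ⟨((QuotientGroup.quotientMulEquivOfEq hker.symm).trans
    (QuotientGroup.quotientKerEquivOfSurjective Θ hsurjΘ)).symm⟩

end CfsgLib.Perm.ZassG
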