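import Cfsg.Agent.Lib.Perm.ZassG.SharpPerm
import Cfsg.Agent.Lib.Perm.ZassG.Sharp3
import Cfsg.Agent.Lib.Perm.ZassG.Field
import Cfsg.Agent.Lib.Perm.ZassG.PGL

/-!
Sharply triply transitive groups of degree `2 ^ f + 1` are `PGL(2, 2 ^ f)`.
-/

open MulAction Cfsg

namespace CfsgLib.Perm.ZassG

variable {G Ω : Type*} [Group G] [MulAction G Ω] [Finite G] [Finite Ω]

/-- A Zassenhaus group with `n - 2 = e` of odd degree is a `PGL(2, K)`. -/
theorem exists_pgl_of_odd (hZ : Cfsg.IsZassenhausGroup G Ω) {a b : Ω} (hab : a ≠ b)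
    (hcard : Nat.card (pairStab G a b) + 2 = Nat.card Ω) (hodd : Odd (Nat.card Ω)) :
    ∃ (K : Type) (_ : Field K) (_ : Fintype K), Nat.card K + 1 = Nat.card Ω ∧
      Nonempty (G ≃* Matrix.ProjGenLinGroup (Fin 2) K) := by
  classical
  have := Fintype.ofFinite Ω
  obtain ⟨F, hF⟩ := exists_kernel hZ hab
  have hn := hF.card_add_one hab
  have h3 := (three_transitive hZ hab hcard).1
  obtain ⟨c₀, hc₀a, hc₀b⟩ := exists_third hZ hab
  -- every element exchanging the two points is an involution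
  have hinvol : ∀ t : G, t • a = b → t • b = a → t * t = 1 := by
    have main : ∀ c : {c : Ω // c ≠ a ∧ c ≠ b}, ∃ t : {t : G // t • a = b ∧ t • b = a},
        t.1 * t.1 = 1 ∧ t.1 • c.1 = c.1 := by
      rintro ⟨c, hca, hcb⟩
      obtain ⟨t, ta, tb, tc⟩ := exists_smul_three h3 hab hca.symm hcb.symm hab.symm hcb.symm hca.symm
      exact ⟨⟨t, ta, tb⟩, eq_one_of_three hZ hab hcb.symm hca.symm (g := t * t) (by rw [mul_smul, ta, tb])
        (by rw [mul_smul, tb, ta]) (by rw [mul_smul, tc, tc]), tc⟩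
    choose f hf2 hfc using main
    have hinj : Function.Injective f := by
      intro x y h
      by_contra hne
      have hs1 : (f x).1 ≠ 1 := fun e => hab (by rw [← (f x).2.1, e, one_smul])
      have hle := card_fixedBy_le hZ hs1
      have hpar := card_fixedBy_parity (Ω := Ω) (hf2 x)
      rw [Nat.even_iff, Nat.even_iff, ← Nat.card_eq_fintype_card] at hpar
      rw [Nat.odd_iff] at hodd
      have h2 : ({x.1, y.1} : Set Ω).ncard ≤ (fixedBy Ω (f x).1).ncard :=
        Set.ncard_le_ncard (by rintro p (rfl | rfl); exacts [hfc x, h ▸ hfc y]) (Set.toFinite _)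
      rw [Set.ncard_pair fun e => hne (Subtype.ext e), ← Nat.card_coe_set_eq] at h2
      omega
    obtain ⟨s, hsa, hsb⟩ := exists_swap hZ hab
    have hcardc : Nat.card {c : Ω // c ≠ a ∧ c ≠ b} = Nat.card (pairStab G a b) := by
      refine (Nat.card_congr (Equiv.ofBijective (fun x : pairStab G a b => (⟨(x : G) • c₀,
        fun h => hc₀a (smul_left_cancel (x : G) (h.trans x.2.1.symm)),
        fun h => hc₀b (smul_left_cancel (x : G) (h.trans x.2.2.symm))⟩ : {c : Ω // c ≠ a ∧ c ≠ b})) ⟨?_, ?_⟩)).symm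
      · intro x y h
        have e : (x : G) • c₀ = (y : G) • c₀ := congrArg Subtype.val h
        exact Subtype.ext (inv_mul_eq_one.1 (eq_one_of_three hZ hab hc₀b.symm hc₀a.symm
          (g := (y : G)⁻¹ * x) (mul_mem (inv_mem y.2) x.2).1 (mul_mem (inv_mem y.2) x.2).2
          (by rw [mul_smul, e, inv_smul_smul]))).symm
      · intro y
        obtain ⟨x, hx, hxc⟩ := exists_pair_move hZ hab hcard hc₀a hc₀b y.2.1 y.2.2
        exact ⟨⟨x, hx⟩, Subtype.ext hxc⟩
    have hb := ((Nat.bijective_iff_injective_and_card f).2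
      ⟨hinj, by rw [hcardc, card_swappers hZ hab hsa hsb]⟩).2
    intro t ta tb
    obtain ⟨c, hc⟩ := hb ⟨t, ta, tb⟩
    have := hf2 c
    rwa [hc] at this
  obtain ⟨s, hsa, hsb⟩ := exists_swap hZ hab
  have hss := hinvol s hsa hsb
  have hinv : ∀ x ∈ pairStab G a b, s * x * s⁻¹ = x⁻¹ := fun x hx => by
    have h := hinvol (s * x) (by rw [mul_smul, mem_stabilizer_iff.1 hx.1, hsa])
      (by rw [mul_smul, mem_stabilizer_iff.1 hx.2, hsb])
    rw [inv_eq_of_mul_eq_one_left hss]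
    exact eq_inv_of_mul_eq_one_left (by rw [← h]; group)
  have hEc : ∀ x y : pairStab G a b, x * y = y * x := fun x y => Subtype.ext (by
    have h := hinv _ (mul_mem x.2 y.2)
    rw [show s * ((x : G) * y) * s⁻¹ = (s * x * s⁻¹) * (s * y * s⁻¹) by group, hinv x x.2,
      hinv y y.2, ← mul_inv_rev, inv_inj] at h
    exact h.symm)
  obtain ⟨⟨⟨hFc⟩⟩, -⟩ := hF.elementary hZ hab (by omega)
  obtain ⟨K, hKf, hKt, ψ, hψF, hψi, hψs, hψa, ε, hε⟩ := exists_field_of_irreducible (pairStab G a b) F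
    (fun x hx u hu => hF.normal x hx.1 u hu) hFc hEc (hF.ne_bot hZ hab)
    (fun A hA hA1 hinvA => hF.eq_top_of_invariant hZ hab (by omega) hA hA1 hinvA)
  have hq : Nat.card K = Nat.card F :=
    Nat.card_congr (Equiv.ofBijective (fun y => (⟨ψ y, hψF y⟩ : F))
      ⟨fun y z h => hψi (congrArg Subtype.val h), fun u => (hψs u u.2).imp fun y h => Subtype.ext h⟩)
  refine ⟨K, hKf, hKt, by omega, ?_⟩
  have hψ0 : ψ 0 = 1 := mul_eq_left.1 (show ψ 0 * ψ 0 = ψ 0 by rw [← hψa, add_zero])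
  let pt : K → Ω := fun y => ψ y • b
  have hinj : Function.Injective pt := fun y z h =>
    hψi (congrArg Subtype.val ((hF.regular b _ hab.symm (hF.smul_ne (hψF z) hab.symm)).unique
      (y₁ := (⟨ψ y, hψF y⟩ : F)) (y₂ := ⟨ψ z, hψF z⟩) h rfl))
  have hsurj : ∀ c, c ≠ a → ∃ y, pt y = c := fun c hc => by
    obtain ⟨⟨u, hu⟩, huc, -⟩ := hF.regular b c hab.symm hc
    obtain ⟨y, rfl⟩ := hψs u hu
    exact ⟨y, huc⟩
  have hne : ∀ y, pt y ≠ a := fun y => hF.smul_ne (hψF y) hab.symm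
  have hx : ∀ (x : pairStab G a b) y, (x : G) • pt y = pt (ε x * y) := fun x y => by
    show (x : G) • ψ y • b = ψ (ε x * y) • b
    rw [← hε x y, mul_smul, mul_smul, inv_smul_eq_iff.2 (mem_stabilizer_iff.1 x.2.2).symm]
  have hp0 : pt 0 = b := by show ψ 0 • b = b; rw [hψ0, one_smul]
  have hnb : ∀ y, y ≠ 0 → pt y ≠ b := fun y hy h => hy (hinj (h.trans hp0.symm))
  have hdil : ∀ l : K, l ≠ 0 → ∃ x : pairStab G a b, ε x = l := fun l hl => by
    obtain ⟨x, hxm, hxe⟩ := exists_pair_move hZ hab hcard (hne 1) (hnb 1 one_ne_zero) (hne l) (hnb l hl)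
    have := hx ⟨x, hxm⟩ 1
    rw [mul_one] at this
    exact ⟨⟨x, hxm⟩, hinj (this.symm.trans hxe)⟩
  refine nonempty_pgl_of_coord (fun g x y z h1 h2 h3 => eq_one_of_three hZ h1 h2 h3) pt hinj hne hsurj
    (fun t => ⟨ψ t, hF.le (hψF t), fun y => ?_⟩) (fun l hl => ?_) ?_
  · show ψ t • ψ y • b = ψ (y + t) • b
    rw [← mul_smul, ← hψa, add_comm]
  · obtain ⟨x, rfl⟩ := hdil l hl
    exact ⟨x, x.2.1, hx x⟩
  · obtain ⟨c, hc⟩ := hsurj (s • pt 1) fun h => hnb 1 one_ne_zero (smul_left_cancel s (h.trans hsb.symm))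
    have hc0 : c ≠ 0 := fun h => hne 1 (smul_left_cancel s (by rw [← hc, h, hp0, hsa]))
    refine ⟨s, c, hc0, by rw [hsa, hp0], by rw [hp0, hsb], fun y hy => ?_⟩
    obtain ⟨x, rfl⟩ := hdil y hy
    have e1 : (x : G) • pt 1 = pt (ε x) := by rw [hx, mul_one]
    have e2 : ((x⁻¹ : pairStab G a b) : G) • pt (ε x) = pt 1 := by rw [← e1, Subgroup.coe_inv, inv_smul_smul]
    rw [hx] at e2
    rw [← e1, ← mul_smul, show s * (x : G) = ((x⁻¹ : pairStab G a b) : G) * s by
      rw [Subgroup.coe_inv, ← hinv x x.2, inv_mul_cancel_right], mul_smul, ← hc, hx]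
    congr 1
    rw [eq_div_iff hy, mul_right_comm, hinj e2, one_mul]

/-- A sharply triply transitive group of degree three is `PGL(2, 2)`. -/
theorem nonempty_pgl_of_three (h3 : IsMultiplyPretransitive G Ω 3)
    (hsharp : ∀ t : Fin 3 ↪ Ω, stabilizer G t = ⊥) (hn : Nat.card Ω = 3) :
    Nonempty (G ≃* Matrix.ProjGenLinGroup (Fin 2) (ZMod 2)) := by
  classical
  have := Fintype.ofFinite Ω
  rw [Nat.card_eq_fintype_card] at hn
  obtain ⟨a, b, c, hab, hac, hbc, huniv⟩ := Finset.card_eq_three.1 (Finset.card_univ.trans hn)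
  let pt : ZMod 2 → Ω := fun y => if y = 0 then b else c
  have h0 : pt 0 = b := rfl
  have h1 : pt 1 = c := rfl
  have h01 : ∀ y : ZMod 2, y = 0 ∨ y = 1 := by decide
  refine nonempty_pgl_of_coord (fun g x y z e1 e2 e3 => eq_one_of_sharp hsharp e1 e2 e3) (a := a) pt ?_ ?_ ?_ ?_ ?_ ?_
  · intro y z h
    rcases h01 y with rfl | rfl <;> rcases h01 z with rfl | rfl <;> simp_all
  · intro y
    rcases h01 y with rfl | rfl
    exacts [hab.symm, hac.symm]
  · intro x hx
    have := huniv ▸ Finset.mem_univ x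
    simp only [Finset.mem_insert, Finset.mem_singleton] at this
    rcases this with rfl | rfl | rfl
    exacts [absurd rfl hx, ⟨0, h0⟩, ⟨1, h1⟩]
  · intro t
    rcases h01 t with rfl | rfl
    · exact ⟨1, one_smul _ _, fun y => by rw [one_smul, add_zero]⟩
    · obtain ⟨g, ga, gb, gc⟩ := exists_smul_three h3 hab hac hbc hac hab hbc.symm
      exact ⟨g, ga, fun y => by rcases h01 y with rfl | rfl; exacts [gb, gc]⟩
  · intro l hl
    rcases h01 l with rfl | rfl
    · exact absurd rfl hl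
    · exact ⟨1, one_smul _ _, fun y => by rw [one_smul, one_mul]⟩
  · obtain ⟨g, ga, gb, gc⟩ := exists_smul_three h3 hab hac hbc hab.symm hbc hac
    refine ⟨g, 1, one_ne_zero, ga, gb, fun y hy => ?_⟩
    rcases h01 y with rfl | rfl
    · exact absurd rfl hy
    · rw [div_one]; exact gc

end CfsgLib.Perm.ZassG
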