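import Cfsg.Agent.Lib.Perm.ZassG.SharpEven
import Cfsg.Agent.Lib.Perm.ZassG.PSL

/-!
Simple Zassenhaus groups: even two-point stabilisers force `PSL(2, q)`; two-point stabilisers are
cyclic and inverted.
-/

open MulAction Cfsg

namespace CfsgLib.Perm.ZassG

variable {G Ω : Type*} [Group G] [MulAction G Ω] [Finite G] [Finite Ω]
  (hZ : Cfsg.IsZassenhausGroup G Ω) {a b : Ω} (hab : a ≠ b)
include hZ hab

theorem half_of_simple [IsSimpleGroup G] (he : 2 ∣ Nat.card (pairStab G a b)) {F : Subgroup G}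
    (hF : IsKernel a F) : Nat.card F = 2 * Nat.card (pairStab G a b) + 1 := by
  have hn := hF.card_add_one hab
  have h1 := (even_bound hZ hab he).1
  obtain ⟨hc, -⟩ := hF.elementary hZ hab (by omega)
  refine (card_cases hZ hab hF hc.is_comm.comm).resolve_left fun h => ?_
  exact not_isSimpleGroup hZ hab (by omega) he ‹_›

theorem cyclic_inverted_of_simple [IsSimpleGroup G] :
    IsCyclic (pairStab G a b) ∧ ∃ v : G, orderOf v = 2 ∧ v • a = b ∧ v • b = a ∧
      ∀ h ∈ pairStab G a b, v * h * v⁻¹ = h⁻¹ := by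
  obtain ⟨F, hF⟩ := exists_kernel hZ hab
  obtain ⟨s, hsa, hsb⟩ := exists_swap hZ hab
  have hs1 : s ≠ 1 := fun h => hab (by rw [← hsa, h, one_smul])
  have key : ∀ (hinv : ∀ h ∈ pairStab G a b, s * h * s⁻¹ = h⁻¹), s * s = 1 →
      IsCyclic (pairStab G a b) ∧ ∃ v : G, orderOf v = 2 ∧ v • a = b ∧ v • b = a ∧
        ∀ h ∈ pairStab G a b, v * h * v⁻¹ = h⁻¹ := by
    intro hinv hs
    have : IsMulCommutative (pairStab G a b) := ⟨⟨fun x y => Subtype.ext (by
      have h := hinv _ (mul_mem x.2 y.2)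
      rw [show s * ((x : G) * y) * s⁻¹ = (s * x * s⁻¹) * (s * y * s⁻¹) by group, hinv x x.2,
        hinv y y.2, ← mul_inv_rev, inv_inj] at h
      exact h.symm)⟩⟩
    exact ⟨(hF.isFPF hZ hab).isCyclic_of_comm (hF.ne_bot hZ hab), s,
      orderOf_eq_prime (by rw [pow_two, hs]) hs1, hsa, hsb, hinv⟩
  rcases Nat.even_or_odd (Nat.card (pairStab G a b)) with he | ho
  · obtain ⟨h1, h2⟩ := inverts_of_half hZ hab hF (half_of_simple hZ hab he.two_dvd hF)
    exact key (h1 s hsa hsb) (h2 s hsa hsb)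
  · have hI := inverted_of_simple hZ hab ho
    exact key (hI.inv s hsa hsb) (hI.swap_invol hZ hab hsa hsb).2

end CfsgLib.Perm.ZassG
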