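import Cfsg.Agent.Lib.Perm.ZassG.CharBound

/-!
Feit's theorem: a Zassenhaus group with an odd two-point stabiliser has `n - 2 ≤ 2 e`, unless its
kernel is a non-abelian 2-group with small commutator quotient.
-/

open MulAction Cfsg
open CfsgLib.Chars

namespace CfsgLib.Perm.ZassG

theorem center_eq_bot {G Ω : Type*} [Group G] [MulAction G Ω] (hZ : Cfsg.IsZassenhausGroup G Ω) :
    Subgroup.center G = ⊥ := by
  rw [Subgroup.eq_bot_iff_forall]
  intro z hz
  have := hZ.1
  refine eq_of_smul_eq_smul (α := Ω) fun a => ?_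
  rw [one_smul]
  by_contra hza
  obtain ⟨c, hca, hcz⟩ := exists_third hZ (Ne.symm hza)
  obtain ⟨g, hga, hgc⟩ := exists_move hZ a (z • a) a c (Ne.symm hza) (Ne.symm hca)
  refine hcz ?_
  rw [← hgc, ← mul_smul, Subgroup.mem_center_iff.1 hz g, mul_smul, hga]

theorem feit_inverted {G Ω : Type*} [Group G] [MulAction G Ω] [Fintype G] [Finite Ω] {a b : Ω}
    {F : Subgroup G} (S : Setup a b F) (hlt : 2 * Nat.card (pairStab G a b) + 1 < Nat.card F) :
    IsPGroup 2 F ∧ (∃ u v : F, u * v ≠ v * u) ∧
      (commutator F).index ≤ 4 * Nat.card (pairStab G a b) ^ 2 + 1 := by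
  classical
  let _ : Fintype (stabilizer G a) := Fintype.ofFinite _
  haveI hKn : (F.subgroupOf (stabilizer G a)).Normal := S.normal_subgroupOf
  have hC' := CfsgLib.CharsMore.centralizer_subgroupOf S.ker.le S.centralizer_le
  have hidx := S.index_subgroupOf
  have hKcard : Nat.card (F.subgroupOf (stabilizer G a)) = Nat.card F :=
    Nat.card_congr (Subgroup.subgroupOfEquivOfLe S.ker.le).toEquiv
  have hncomm : ∃ u v : F, u * v ≠ v * u := by
    by_contra! hcomm
    obtain ⟨hτ, hτ1⟩ := CfsgLib.CharsMore.isometry_indFun_TI S.normalizer_eq S.isTI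
    rcases CfsgLib.CharsMore.feit_coherence (K := F.subgroupOf (stabilizer G a))
      (fun h => by rw [h, Subgroup.card_bot] at hKcard; omega)
      (fun h => by
        rw [h, Subgroup.index_top] at hidx
        exact pairStab_ne_bot S.zass S.ne (Subgroup.eq_bot_of_card_eq _ hidx.symm))
      hC' (by omega) hτ hτ1 with h | ⟨p, -, -, hna, -⟩
    · exact S.not_coherent hlt h
    · refine hna (Subgroup.commutator_eq_bot_iff_le_centralizer.2 fun x hx => ?_)
      rw [Subgroup.mem_centralizer_iff]
      intro y hy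
      exact Subtype.ext (congrArg Subtype.val (hcomm ⟨y, hy⟩ ⟨x, hx⟩) :)
  have hlt' : F < stabilizer G a := lt_of_le_of_ne S.ker.le fun h => pairStab_ne_bot S.zass S.ne <| by
    rw [eq_bot_iff, ← S.ker.inf_eq_bot S.ne]
    exact le_inf (h ▸ inf_le_left) le_rfl
  rcases CfsgLib.CharsMore.feit_sibley S.normalizer_eq S.isTI S.centralizer_le (S.ker.isNilpotent S.zass S.ne)
    (S.ker.ne_bot S.zass S.ne) hlt' with ⟨-, h, -⟩ | ⟨hcard, hle⟩ | h
  · omega
  · refine ⟨IsPGroup.of_card hcard, hncomm, ?_⟩
    rw [hidx] at hle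
    rw [show commutator F = (⁅F, F⁆).subgroupOf F by
      rw [← Subgroup.map_subtype_commutator]
      exact (Subgroup.comap_map_eq_self_of_injective F.subtype_injective _).symm]
    omega
  · refine absurd ?_ (fun h => S.not_coherent hlt h)
    rw [CfsgLib.CharsMore.inducedIrrAbove_eq_nontrivial hC']
    exact h

universe u

/-- Feit's theorem. -/
theorem feit {Ω : Type*} [Finite Ω] {a b : Ω} (m : ℕ) :
    ∀ (G : Type u) [Group G] [Fintype G] [MulAction G Ω], Nat.card G = m →
      Cfsg.IsZassenhausGroup G Ω → a ≠ b → Odd (Nat.card (pairStab G a b)) →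
      ∀ F : Subgroup G, IsKernel a F → Nat.card F ≤ 2 * Nat.card (pairStab G a b) + 1 ∨
        (IsPGroup 2 F ∧ (∃ u v : F, u * v ≠ v * u) ∧
          (commutator F).index ≤ 4 * Nat.card (pairStab G a b) ^ 2 + 1) := by
  induction m using Nat.strong_induction_on with
  | _ m ih =>
    intro G _ _ _ hm hZ hab hodd F hF
    classical
    rcases le_or_gt (Nat.card F) (2 * Nat.card (pairStab G a b) + 1) with h | h
    · exact Or.inl h
    by_cases hnil : ∀ q : ℕ, q.Prime → q ∣ Nat.card (pairStab G a b) →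
        ¬ ∃ N : Subgroup G, N.Normal ∧ N.index = q ^ (Nat.card G).factorization q
    · exact Or.inr (feit_inverted ⟨hZ, hab, hF, hodd, (inversion hZ hab hodd hnil).2.2⟩ h)
    push Not at hnil
    obtain ⟨q, hq, hqE, N, hN, hidx⟩ := hnil
    have := Fact.mk hq
    have hv : (Nat.card G).factorization q ≠ 0 :=
      (hq.factorization_pos_of_dvd Nat.card_pos.ne' (hqE.trans (Subgroup.card_subgroup_dvd_card _))).ne'
    have hN1 : N ≠ ⊥ := by
      rintro rfl
      rw [Subgroup.index_bot] at hidx
      have : Nontrivial G := by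
        obtain ⟨g, hg, -⟩ := hZ.2.2.2.1
        exact ⟨g, 1, hg⟩
      have := (IsPGroup.of_card hidx).center_nontrivial
      exact (Subgroup.nontrivial_iff_ne_bot _).1 this (center_eq_bot hZ)
    have hZN := normal_isZassenhausGroup hZ hab N hN1
    obtain ⟨hFN, -⟩ := normal_contains hZ hab hF N hN1
    have hlt : Nat.card N < m := by
      rw [← hm, ← N.card_mul_index, hidx]
      exact lt_mul_of_one_lt_right Nat.card_pos (Nat.one_lt_pow hv hq.one_lt)
    have hFN' : IsKernel (G := N) a (F.subgroupOf N) := by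
      refine ⟨fun x hx => hF.le hx, fun g hg u hu => hF.normal g hg u hu, fun y z hy hz => ?_⟩
      obtain ⟨u, hu, huniq⟩ := hF.regular y z hy hz
      exact ⟨⟨⟨u, hFN u.2⟩, u.2⟩, hu, fun v hv =>
        Subtype.ext (Subtype.ext (congrArg Subtype.val (huniq ⟨v, v.2⟩ hv) :))⟩
    have hdvd : Nat.card (pairStab N a b) ∣ Nat.card (pairStab G a b) :=
      Subgroup.card_dvd_of_injective
        ({ toFun := fun x => ⟨x.1, mem_pairStab.2 ⟨x.2.1, x.2.2⟩⟩
           map_one' := rfl
           map_mul' := fun _ _ => rfl } : pairStab N a b →* pairStab G a b)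
        fun x y h => Subtype.ext (Subtype.ext (congrArg Subtype.val h :))
    have hle := Nat.le_of_dvd Nat.card_pos hdvd
    let φ : F.subgroupOf N ≃* F := Subgroup.subgroupOfEquivOfLe hFN
    rcases ih _ hlt N rfl hZN hab (hodd.of_dvd_nat hdvd) _ hFN' with h' | ⟨h2, ⟨u, v, huv⟩, hi⟩
    · left
      rw [Nat.card_congr φ.toEquiv] at h'
      omega
    · refine Or.inr ⟨h2.of_equiv φ, ⟨φ u, φ v, fun e => huv (φ.injective (by rw [map_mul, map_mul, e]))⟩, ?_⟩
      have hmap : (commutator (F.subgroupOf N)).map φ.toMonoidHom = commutator F := by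
        rw [commutator_def, commutator_def, Subgroup.map_commutator, Subgroup.map_top_of_surjective _ φ.surjective]
      rw [← hmap, show Subgroup.index ((commutator (F.subgroupOf N)).map φ.toMonoidHom) =
        (commutator (F.subgroupOf N)).index from Subgroup.index_map_equiv _ φ]
      exact hi.trans (by nlinarith)

end CfsgLib.Perm.ZassG
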