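import Cfsg.Agent.Lib.Perm.ZassG.Feit

/-!
Zassenhaus groups with abelian kernel: `n - 2 ∈ {e, 2e}`; the case `n - 2 = 2e`.
-/

open MulAction Cfsg

namespace CfsgLib.Perm.ZassG

variable {G Ω : Type*} [Group G] [MulAction G Ω] [Finite G] [Finite Ω]
  (hZ : Cfsg.IsZassenhausGroup G Ω) {a b : Ω} (hab : a ≠ b)
include hZ hab

/-- With an abelian kernel `n - 2` is `e` or `2 e`. -/
theorem card_cases {F : Subgroup G} (hF : IsKernel a F) (hc : ∀ u v : F, u * v = v * u) :
    Nat.card F = Nat.card (pairStab G a b) + 1 ∨ Nat.card F = 2 * Nat.card (pairStab G a b) + 1 := by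
  have hn := hF.card_add_one hab
  obtain ⟨k, hk⟩ := hF.card_pairStab_dvd hZ hab
  have hF1 : 1 < Nat.card F := (Subgroup.one_lt_card_iff_ne_bot F).2 (hF.ne_bot hZ hab)
  have hle : Nat.card F - 1 ≤ 2 * Nat.card (pairStab G a b) := by
    rcases Nat.even_or_odd (Nat.card (pairStab G a b)) with he | he
    · have := (even_bound hZ hab he.two_dvd).1
      omega
    · let _ := Fintype.ofFinite G
      rcases feit _ G rfl hZ hab he F hF with h | ⟨-, ⟨u, v, huv⟩, -⟩
      · omega
      · exact absurd (hc u v) huv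
  rw [hk] at hle
  have h1 : k ≤ 2 := Nat.le_of_mul_le_mul_left (by rwa [mul_comm 2] at hle) Nat.card_pos
  interval_cases k <;> omega

/-- In the case `n - 2 = 2 e` all elements interchanging two points are involutions inverting the two-point
stabiliser. -/
theorem inverts_of_half {F : Subgroup G} (hF : IsKernel a F)
    (hcard : Nat.card F = 2 * Nat.card (pairStab G a b) + 1) :
    (∀ s : G, s • a = b → s • b = a → ∀ h ∈ pairStab G a b, s * h * s⁻¹ = h⁻¹) ∧
      ∀ s : G, s • a = b → s • b = a → s * s = 1 := by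
  have hn := hF.card_add_one hab
  rcases Nat.even_or_odd (Nat.card (pairStab G a b)) with he | he
  · have heq := (even_bound hZ hab he.two_dvd).2 (by omega)
    refine ⟨fun s hsa hsb h hh => ?_, fun s hsa hsb => (heq s hsa hsb).1⟩
    have h2 := (heq (s * h) (by rw [mul_smul, mem_stabilizer_iff.1 hh.1, hsa])
      (by rw [mul_smul, mem_stabilizer_iff.1 hh.2, hsb])).1
    rw [inv_eq_of_mul_eq_one_left (heq s hsa hsb).1]
    exact eq_inv_of_mul_eq_one_left (by rw [mul_assoc]; exact h2)
  · suffices hI : Inverted G a b from ⟨hI.inv, fun s hsa hsb => (hI.swap_invol hZ hab hsa hsb).2⟩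
    refine ⟨he, (inversion hZ hab he fun q hq hqE => ?_).2.2⟩
    rintro ⟨N, hN, hidx⟩
    obtain ⟨hcomm, -⟩ := hF.elementary hZ hab (by omega)
    have := Fact.mk hq
    have hN1 : N ≠ ⊥ := by
      rintro rfl
      rw [Subgroup.index_bot] at hidx
      have : Nontrivial G := by
        obtain ⟨g, hg, -⟩ := hZ.2.2.2.1
        exact ⟨g, 1, hg⟩
      exact (Subgroup.nontrivial_iff_ne_bot _).1 (IsPGroup.of_card hidx).center_nontrivial (center_eq_bot hZ)
    have hZN := normal_isZassenhausGroup hZ hab N hN1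
    obtain ⟨hFN, -⟩ := normal_contains hZ hab hF N hN1
    have hFN' : IsKernel (G := N) a (F.subgroupOf N) := by
      refine ⟨fun x hx => hF.le hx, fun g hg u hu => hF.normal g hg u hu, fun y z hy hz => ?_⟩
      obtain ⟨u, hu, huniq⟩ := hF.regular y z hy hz
      exact ⟨⟨⟨u, hFN u.2⟩, u.2⟩, hu, fun v hv =>
        Subtype.ext (Subtype.ext (congrArg Subtype.val (huniq ⟨v, v.2⟩ hv) :))⟩
    let ι : pairStab N a b →* pairStab G a b :=
      { toFun := fun x => ⟨x.1, mem_pairStab.2 ⟨x.2.1, x.2.2⟩⟩
        map_one' := rfl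
        map_mul' := fun _ _ => rfl }
    have hdvd : Nat.card (pairStab N a b) ∣ Nat.card (pairStab G a b) :=
      Subgroup.card_dvd_of_injective ι fun x y h => Subtype.ext (Subtype.ext (congrArg Subtype.val h :))
    have hq' : ¬ q ∣ Nat.card (pairStab N a b) := fun h => by
      have h1 : q ^ ((Nat.card G).factorization q + 1) ∣ Nat.card G := by
        have e := N.card_mul_index
        rw [hidx] at e
        rw [pow_succ']
        exact (mul_dvd_mul (h.trans (Subgroup.card_subgroup_dvd_card _)) dvd_rfl).trans (dvd_of_eq e)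
      have := (hq.pow_dvd_iff_le_factorization Nat.card_pos.ne').1 h1
      omega
    have hlt : Nat.card (pairStab N a b) < Nat.card (pairStab G a b) :=
      lt_of_le_of_ne (Nat.le_of_dvd Nat.card_pos hdvd) fun h => hq' (h ▸ hqE)
    let φ : F.subgroupOf N ≃* F := Subgroup.subgroupOfEquivOfLe hFN
    rcases card_cases hZN hab hFN' (fun u v => φ.injective (by
      rw [map_mul, map_mul]; exact hcomm.is_comm.comm _ _)) with h | h <;>
    · rw [Nat.card_congr φ.toEquiv] at h
      omega

end CfsgLib.Perm.ZassG
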