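import Cfsg.Agent.Lib.Perm.ZassG.Normal

/-!
Counting involutions and their products in Zassenhaus groups with inverted two-point stabilisers.
-/

open MulAction
open CfsgLib.Base (IsFPF)

namespace CfsgLib.Perm.ZassG

variable {G Ω : Type*} [Group G] [MulAction G Ω]

/-- The two-point stabiliser has odd order and every element exchanging the two points inverts it. -/
structure Inverted (G : Type*) {Ω : Type*} [Group G] [MulAction G Ω] (a b : Ω) : Prop where
  odd : Odd (Nat.card (pairStab G a b))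
  inv : ∀ s : G, s • a = b → s • b = a → ∀ h ∈ pairStab G a b, s * h * s⁻¹ = h⁻¹

/-- The involutions. -/
abbrev Invol (G : Type*) [Group G] := {t : G // t ≠ 1 ∧ t * t = 1}

theorem Invol.inv_eq (t : Invol G) : (t : G)⁻¹ = t := inv_eq_of_mul_eq_one_left t.2.2

/-- Conjugation on involutions. -/
def Invol.conj (g : G) : Invol G ≃ Invol G where
  toFun t := ⟨g * t * g⁻¹, fun h => t.2.1 (conj_eq_one_iff.1 h), by
    rw [show g * (t : G) * g⁻¹ * (g * t * g⁻¹) = g * (t * t) * g⁻¹ by group, t.2.2, mul_one, mul_inv_cancel]⟩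
  invFun t := ⟨g⁻¹ * t * g, fun h => t.2.1 (by
    calc (t : G) = g * (g⁻¹ * t * g) * g⁻¹ := by group
      _ = 1 := by rw [h, mul_one, mul_inv_cancel]), by
    rw [show g⁻¹ * (t : G) * g * (g⁻¹ * t * g) = g⁻¹ * (t * t) * g by group, t.2.2, mul_one, inv_mul_cancel]⟩
  left_inv t := Subtype.ext (by simp [mul_assoc])
  right_inv t := Subtype.ext (by simp [mul_assoc])

theorem fix_mul_comm {t : Invol G} {x : G} {c : Ω} (hinv : (t : G) * x * t = x⁻¹) (hc : x • c = c) :
    x • ((t : G) • c) = (t : G) • c := by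
  have e : x * (t : G) = t * x⁻¹ := by rw [← hinv]; simp [← mul_assoc, t.2.2]
  rw [← mul_smul, e, mul_smul, inv_smul_eq_iff.2 hc.symm]

theorem mul_mul_eq_inv (t t' : Invol G) : (t : G) * (t * t') * t = ((t : G) * t')⁻¹ := by
  rw [← mul_assoc, t.2.2, one_mul, mul_inv_rev, t.inv_eq, t'.inv_eq]

section

variable [Finite G] [Finite Ω] (hZ : Cfsg.IsZassenhausGroup G Ω) {a b : Ω} (hab : a ≠ b)
include hZ hab

/-- In a simple Zassenhaus group an odd two-point stabiliser is inverted. -/
theorem inverted_of_simple [IsSimpleGroup G] (hodd : Odd (Nat.card (pairStab G a b))) :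
    Inverted G a b := by
  refine ⟨hodd, (inversion hZ hab hodd fun q hq hqE => ?_).2.2⟩
  rintro ⟨N, hN, hidx⟩
  have := Fact.mk hq
  have hqG : q ∣ Nat.card G := hqE.trans (Subgroup.card_subgroup_dvd_card _)
  rcases IsSimpleGroup.eq_bot_or_eq_top_of_normal N hN with rfl | rfl
  · rw [Subgroup.index_bot] at hidx
    have hpg : IsPGroup q G := IsPGroup.of_card hidx
    have : Nontrivial G := IsSimpleGroup.toNontrivial
    have hcen := hpg.center_nontrivial
    have htop := (IsSimpleGroup.eq_bot_or_eq_top_of_normal (Subgroup.center G) inferInstance).resolve_left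
      ((Subgroup.nontrivial_iff_ne_bot _).1 hcen)
    obtain ⟨y, hy, hy1⟩ := (Subgroup.bot_or_exists_ne_one _).resolve_left (pairStab_ne_bot hZ hab)
    obtain ⟨c, hca, hcb⟩ := exists_third hZ hab
    obtain ⟨g, hg⟩ := exists_move_one hZ a c hab
    have hyc : y • c = c := by
      rw [← hg, ← mul_smul, ← Subgroup.mem_center_iff.1 (htop ▸ Subgroup.mem_top y) g, mul_smul, mem_stabilizer_iff.1 hy.1]
    exact (fixed_eq hZ hab hy hy1 hyc).elim hca hcb
  · rw [Subgroup.index_top] at hidx
    have h0 := (hq.factorization_pos_of_dvd Nat.card_pos.ne' hqG).ne'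
    exact hq.one_lt.ne' ((Nat.pow_eq_one.1 hidx.symm).resolve_right h0)

variable (hI : Inverted G a b)
include hI

theorem Inverted.swap_invol {t : G} (hta : t • a = b) (htb : t • b = a) : t ≠ 1 ∧ t * t = 1 := by
  refine ⟨fun h => hab (by rw [← hta, h, one_smul]), ?_⟩
  have hm : t * t ∈ pairStab G a b :=
    mem_pairStab.2 ⟨by rw [mul_smul, hta, htb], by rw [mul_smul, htb, hta]⟩
  have h := hI.inv t hta htb _ hm
  rw [show t * (t * t) * t⁻¹ = t * t by group] at h
  rw [← orderOf_eq_one_iff]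
  exact Nat.eq_one_of_dvd_coprimes (Nat.coprime_two_left.2 hI.odd)
    (orderOf_dvd_of_pow_eq_one (by rw [pow_two]; exact mul_eq_one_iff_eq_inv.2 h))
    ((pairStab G a b).orderOf_dvd_natCard hm)

theorem Inverted.swap_conj {t t' : G} (hta : t • a = b) (htb : t • b = a) (hta' : t' • a = b)
    (htb' : t' • b = a) : IsConj t t' := by
  have hm : t⁻¹ * t' ∈ pairStab G a b := mem_pairStab.2
    ⟨by rw [mul_smul, hta', inv_smul_eq_iff, hta], by rw [mul_smul, htb', inv_smul_eq_iff, htb]⟩
  obtain ⟨r, hr⟩ := hI.odd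
  set k := (t⁻¹ * t') ^ (r + 1) with hk
  have hkk : k * k = t⁻¹ * t' := by
    rw [hk, ← pow_add, show r + 1 + (r + 1) = Nat.card (pairStab G a b) + 1 by omega, pow_succ]
    have := congrArg Subtype.val (pow_card_eq_one' (x := (⟨t⁻¹ * t', hm⟩ : pairStab G a b)))
    rw [SubgroupClass.coe_pow, OneMemClass.coe_one] at this
    rw [this, one_mul]
  refine isConj_iff.2 ⟨k⁻¹, ?_⟩
  have hinv := hI.inv t hta htb k⁻¹ (inv_mem (pow_mem hm _))
  rw [inv_inv] at hinv
  calc k⁻¹ * t * k⁻¹⁻¹ = t⁻¹ * (t * k⁻¹ * t⁻¹) * (t * t) * k := by group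
    _ = t⁻¹ * k * k := by rw [hinv, (hI.swap_invol hZ hab hta htb).2, mul_one]
    _ = t * (t⁻¹ * t') := by
      rw [inv_eq_of_mul_eq_one_left (hI.swap_invol hZ hab hta htb).2, mul_assoc, hkk,
        inv_eq_of_mul_eq_one_left (hI.swap_invol hZ hab hta htb).2]
    _ = t' := mul_inv_cancel_left t t'

theorem Inverted.transport {c d : Ω} (hcd : c ≠ d) : Inverted G c d := by
  obtain ⟨g, hga, hgb⟩ := exists_move hZ a b c d hab hcd
  have hga' : g⁻¹ • c = a := inv_smul_eq_iff.2 hga.symm
  have hgb' : g⁻¹ • d = b := inv_smul_eq_iff.2 hgb.symm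
  refine ⟨?_, fun s hsc hsd x hx => ?_⟩
  · rw [show Nat.card (pairStab G c d) = Nat.card (pairStab G a b) from Nat.card_congr
      { toFun := fun x => ⟨g⁻¹ * x * g⁻¹⁻¹, conj_mem_pairStab hZ hga' hgb' x.2⟩
        invFun := fun x => ⟨g * x * g⁻¹, conj_mem_pairStab hZ hga hgb x.2⟩
        left_inv := fun x => Subtype.ext (by simp [mul_assoc])
        right_inv := fun x => Subtype.ext (by simp [mul_assoc]) }]
    exact hI.odd
  · have h := hI.inv (g⁻¹ * s * g) (by rw [mul_smul, mul_smul, hga, hsc, hgb'])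
      (by rw [mul_smul, mul_smul, hgb, hsd, hga']) _ (conj_mem_pairStab hZ hga' hgb' hx)
    calc s * x * s⁻¹ = g * (g⁻¹ * s * g * (g⁻¹ * x * g⁻¹⁻¹) * (g⁻¹ * s * g)⁻¹) * g⁻¹ := by group
      _ = x⁻¹ := by rw [h]; group

omit hI in
theorem exists_moved {t : G} (ht : t ≠ 1) : ∃ c : Ω, t • c ≠ c := by
  have := hZ.1
  by_contra! h
  exact ht (eq_of_smul_eq_smul (α := Ω) fun c => by rw [h c, one_smul])

theorem Inverted.invol_conj (t t' : Invol G) : IsConj (t : G) t' := by
  have key : ∀ t : Invol G, ∃ s : G, s • a = b ∧ s • b = a ∧ IsConj (t : G) s := by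
    intro t
    obtain ⟨c, hc⟩ := exists_moved hZ hab t.2.1
    obtain ⟨g, hgc, hgd⟩ := exists_move hZ c ((t : G) • c) a b (Ne.symm hc) hab
    refine ⟨g * t * g⁻¹, ?_, ?_, isConj_iff.2 ⟨g, rfl⟩⟩
    · rw [← hgc, mul_smul, mul_smul, inv_smul_smul, hgd]
    · rw [← hgd, mul_smul, mul_smul, inv_smul_smul, ← mul_smul (t : G) (t : G) c, t.2.2, one_smul, hgc]
  obtain ⟨s, h1, h2, h3⟩ := key t
  obtain ⟨s', h1', h2', h3'⟩ := key t'
  exact h3.trans ((hI.swap_conj hZ hab h1 h2 h1' h2').trans h3'.symm)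

theorem Inverted.not_fix_two (t : Invol G) {c d : Ω} (hcd : c ≠ d) (hc : (t : G) • c = c)
    (hd : (t : G) • d = d) : False := by
  refine t.2.1 (orderOf_eq_one_iff.1 ?_)
  exact Nat.eq_one_of_dvd_coprimes (Nat.coprime_two_left.2 (hI.transport hZ hab hcd).odd)
    (orderOf_dvd_of_pow_eq_one (by rw [pow_two]; exact t.2.2))
    ((pairStab G c d).orderOf_dvd_natCard (mem_pairStab.2 ⟨hc, hd⟩))

theorem Inverted.card_fixed (t : Invol G) : Nat.card {c : Ω // (t : G) • c = c} = Nat.card Ω % 2 := by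
  classical
  have := Fintype.ofFinite Ω
  have h1 : Nat.card {c : Ω // (t : G) • c = c} ≤ 1 := by
    have : Subsingleton {c : Ω // (t : G) • c = c} :=
      ⟨fun x y => by_contra fun hxy => hI.not_fix_two hZ hab t (fun e => hxy (Subtype.ext e)) x.2 y.2⟩
    exact Finite.card_le_one_iff_subsingleton.2 this
  have hpar := card_fixedBy_parity (Ω := Ω) t.2.2
  have e : Nat.card (fixedBy Ω (t : G)) = Nat.card {c : Ω // (t : G) • c = c} := rfl
  rw [Nat.even_iff, Nat.even_iff, ← Nat.card_eq_fintype_card, e] at hpar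
  omega

/-- The swappers of an ordered pair. -/
theorem Inverted.card_swap {c d : Ω} (hcd : c ≠ d) :
    Nat.card {t : Invol G // (t : G) • c = d} = Nat.card (pairStab G a b) := by
  obtain ⟨g, hga, hgb⟩ := exists_move hZ a b c d hab hcd
  obtain ⟨s, hsa, hsb⟩ := exists_swap hZ hab
  rw [← card_swappers hZ hab hsa hsb]
  refine (Nat.card_congr ?_).symm
  refine Equiv.ofBijective (fun t => (⟨⟨g * t.1 * g⁻¹, fun h =>
    (hI.swap_invol hZ hab t.2.1 t.2.2).1 (conj_eq_one_iff.1 h), by
      rw [show g * (t.1 : G) * g⁻¹ * (g * t.1 * g⁻¹) = g * (t.1 * t.1) * g⁻¹ by group,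
        (hI.swap_invol hZ hab t.2.1 t.2.2).2, mul_one, mul_inv_cancel]⟩, by
      show (g * t.1 * g⁻¹) • c = d
      rw [← hga, mul_smul, mul_smul, inv_smul_smul, t.2.1, hgb]⟩ : {t : Invol G // (t : G) • c = d})) ⟨?_, ?_⟩
  · intro x y h
    exact Subtype.ext (mul_left_cancel (mul_right_cancel (congrArg (fun z => (z.1 : G)) h)))
  · rintro ⟨t, ht⟩
    have h1 : (g⁻¹ * t * g) • a = b := by rw [mul_smul, mul_smul, hga, ht, inv_smul_eq_iff, hgb]
    have h2 : (g⁻¹ * t * g) • b = a := by
      rw [mul_smul, mul_smul, hgb, ← ht, ← mul_smul (t : G) (t : G) c, t.2.2, one_smul, inv_smul_eq_iff, hga]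
    exact ⟨⟨_, h1, h2⟩, Subtype.ext (Subtype.ext (by simp [mul_assoc]))⟩

omit hI in
theorem card_ne_pairs : Nat.card {p : Ω × Ω // p.1 ≠ p.2} = Nat.card Ω * (Nat.card Ω - 1) := by
  classical
  have := Fintype.ofFinite Ω
  rw [Nat.card_eq_fintype_card, Fintype.card_subtype,
    show (Finset.univ.filter fun p : Ω × Ω => p.1 ≠ p.2) = (Finset.univ : Finset Ω).offDiag by ext; simp,
    Finset.offDiag_card, Finset.card_univ, Nat.card_eq_fintype_card, Nat.mul_sub, mul_one]

theorem Inverted.card_invol :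
    Nat.card (Invol G) = Nat.card (pairStab G a b) *
      (if Odd (Nat.card Ω) then Nat.card Ω else Nat.card Ω - 1) := by
  classical
  have := Fintype.ofFinite (Invol G)
  have := Fintype.ofFinite Ω
  have hn : 2 ≤ Nat.card Ω := by
    have : Nontrivial Ω := ⟨a, b, hab⟩
    exact Finite.one_lt_card
  have h1 : Nat.card {p : Invol G × Ω // (p.1 : G) • p.2 ≠ p.2} =
      Nat.card (Invol G) * (Nat.card Ω - Nat.card Ω % 2) := by
    rw [Nat.card_congr (Equiv.subtypeProdEquivSigmaSubtype (fun (t : Invol G) c => (t : G) • c ≠ c)),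
      Nat.card_sigma, Finset.sum_congr rfl (g := fun _ => Nat.card Ω - Nat.card Ω % 2) fun t _ => ?_,
      Finset.sum_const, Finset.card_univ, smul_eq_mul, Nat.card_eq_fintype_card (α := Invol G)]
    rw [← hI.card_fixed hZ hab t, Nat.card_eq_fintype_card, Nat.card_eq_fintype_card, Nat.card_eq_fintype_card,
      Fintype.card_subtype_compl]
  have h2 : Nat.card {p : Invol G × Ω // (p.1 : G) • p.2 ≠ p.2} =
      Nat.card Ω * (Nat.card Ω - 1) * Nat.card (pairStab G a b) := by
    rw [← card_ne_pairs hZ hab, ← Nat.card_congr (Equiv.sigmaFiberEquiv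
      (fun p : {p : Invol G × Ω // (p.1 : G) • p.2 ≠ p.2} =>
        (⟨(p.1.2, (p.1.1 : G) • p.1.2), Ne.symm p.2⟩ : {p : Ω × Ω // p.1 ≠ p.2}))),
      Nat.card_sigma, Finset.sum_congr rfl (g := fun _ => Nat.card (pairStab G a b)) fun q _ => ?_,
      Finset.sum_const, Finset.card_univ, smul_eq_mul, Nat.card_eq_fintype_card (α := {p : Ω × Ω // p.1 ≠ p.2})]
    rw [← hI.card_swap hZ hab q.2]
    exact Nat.card_congr
      { toFun := fun p => ⟨p.1.1.1, by
          have h := congrArg Subtype.val p.2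
          exact (congrArg ((p.1.1.1 : G) • ·) (congrArg Prod.fst h).symm).trans (congrArg Prod.snd h)⟩
        invFun := fun t => ⟨⟨(t.1, q.1.1), by rw [t.2]; exact Ne.symm q.2⟩, Subtype.ext (Prod.ext rfl t.2)⟩
        left_inv := fun p => Subtype.ext (Subtype.ext (Prod.ext rfl (congrArg Prod.fst (congrArg Subtype.val p.2)).symm))
        right_inv := fun t => rfl }
  rw [h2] at h1
  by_cases hodd : Odd (Nat.card Ω)
  · rw [if_pos hodd]
    rw [Nat.odd_iff] at hodd
    rw [hodd] at h1
    refine Nat.eq_of_mul_eq_mul_right (show 0 < Nat.card Ω - 1 by omega) ?_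
    rw [← h1]; ring
  · rw [if_neg hodd]
    rw [Nat.odd_iff] at hodd
    rw [show Nat.card Ω % 2 = 0 by omega, Nat.sub_zero] at h1
    refine Nat.eq_of_mul_eq_mul_right (show 0 < Nat.card Ω by omega) ?_
    rw [← h1]; ring

/-- Involutions fixing a given point: `e` of them in odd degree, none in even degree. -/
theorem Inverted.card_fix_point (c : Ω) :
    Nat.card {t : Invol G // (t : G) • c = c} =
      if Odd (Nat.card Ω) then Nat.card (pairStab G a b) else 0 := by
  classical
  split_ifs with hodd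
  · have := Fintype.ofFinite Ω
    have := isPretransitive hZ hab
    have hk : ∀ d : Ω, Nat.card {t : Invol G // (t : G) • d = d} = Nat.card {t : Invol G // (t : G) • c = c} := by
      intro d
      obtain ⟨g, hg⟩ := exists_smul_eq G d c
      refine Nat.card_congr ((Invol.conj g).subtypeEquiv fun t => ?_)
      show (t : G) • d = d ↔ (g * t * g⁻¹) • c = c
      rw [← hg, mul_smul, mul_smul, inv_smul_smul]
      exact ⟨fun h => by rw [h], fun h => smul_left_cancel g h⟩
    have hsum : Nat.card {p : Ω × Invol G // (p.2 : G) • p.1 = p.1} = Nat.card (Invol G) := by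
      refine Nat.card_congr (Equiv.ofBijective (fun p => p.1.2) ⟨fun p q h => ?_, fun t => ?_⟩)
      · refine Subtype.ext (Prod.ext ?_ h)
        by_contra hne
        exact hI.not_fix_two hZ hab p.1.2 hne p.2 (show (p.1.2 : G) • q.1.1 = q.1.1 by rw [show p.1.2 = q.1.2 from h]; exact q.2)
      · have h := hI.card_fixed hZ hab t
        rw [Nat.odd_iff.1 hodd] at h
        obtain ⟨⟨d, hd⟩⟩ := (Nat.card_pos_iff.1 (h.symm ▸ Nat.one_pos)).1
        exact ⟨⟨(d, t), hd⟩, rfl⟩
    rw [Nat.card_congr (Equiv.subtypeProdEquivSigmaSubtype (fun (d : Ω) (t : Invol G) => (t : G) • d = d)),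
      Nat.card_sigma, Finset.sum_congr rfl fun d _ => hk d, Finset.sum_const, Finset.card_univ, smul_eq_mul,
      ← Nat.card_eq_fintype_card, hI.card_invol hZ hab, if_pos hodd, mul_comm (Nat.card (pairStab G a b))] at hsum
    exact Nat.eq_of_mul_eq_mul_left (Nat.pos_of_ne_zero fun e => by rw [e] at hodd; simp at hodd) hsum
  · rw [Nat.card_eq_zero]
    refine Or.inl ⟨fun ⟨t, ht⟩ => ?_⟩
    have h := hI.card_fixed hZ hab t
    rw [Nat.odd_iff] at hodd
    rw [show Nat.card Ω % 2 = 0 by omega, Nat.card_eq_zero] at h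
    exact h.elim (fun h => h.false ⟨c, ht⟩) (fun h => not_finite {d : Ω // (t : G) • d = d})

omit hI in
/-- Non-trivial elements of a two-point stabiliser are conjugate only to their inverses. -/
theorem Inverted.eq_of_isConj (hI : Inverted G a b) {x y : G} (hx : x ∈ pairStab G a b) (hx1 : x ≠ 1)
    (hy : y ∈ pairStab G a b) (hxy : IsConj x y) : y = x ∨ y = x⁻¹ := by
  obtain ⟨g, rfl⟩ := isConj_iff.1 hxy
  have hy1 : g * x * g⁻¹ ≠ 1 := fun h => hx1 (conj_eq_one_iff.1 h)
  have key : ∀ c, x • c = c → g • c = a ∨ g • c = b := fun c hc =>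
    fixed_eq hZ hab hy hy1 (by rw [mul_smul, mul_smul, inv_smul_smul, hc])
  have hcomm : ∀ s : G, s • a = a → s • b = b → s * x * s⁻¹ = x := by
    intro s hsa hsb
    obtain ⟨w, hwa, hwb⟩ := exists_swap hZ hab
    have hs : s ∈ pairStab G a b := mem_pairStab.2 ⟨hsa, hsb⟩
    have h := hI.inv w hwa hwb _ (mul_mem hs hx)
    rw [show w * (s * x) * w⁻¹ = (w * s * w⁻¹) * (w * x * w⁻¹) by group, hI.inv w hwa hwb s hs,
      hI.inv w hwa hwb x hx, ← mul_inv_rev, inv_inj] at h
    rw [← h, mul_inv_cancel_right]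
  rcases key a hx.1 with h | h <;> rcases key b hx.2 with h' | h'
  · exact absurd (smul_left_cancel g (h.trans h'.symm)) hab
  · exact Or.inl (hcomm g h h')
  · exact Or.inr (hI.inv g h h' x hx)
  · exact absurd (smul_left_cancel g (h.trans h'.symm)) hab

omit hI in
/-- An element fixing exactly `a` among the points lies in the kernel. -/
theorem mem_kernel_of_fix_only {F : Subgroup G} (hF : IsKernel a F) {u : G} (hu : u • a = a)
    (hfix : ∀ c : Ω, u • c = c → c = a) : u ∈ F := by
  obtain ⟨v, hv, h, hh, rfl⟩ := hF.exists_decomp hab hu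
  by_cases hh1 : h = 1
  · rw [hh1, mul_one]; exact hv
  obtain ⟨w, hw, he⟩ := exists_conj_in_kernel hZ hab hF hv hh hh1
  refine absurd (hfix (w • b) ?_) (hF.smul_ne hw hab.symm)
  rw [← he, mul_smul, mul_smul, inv_smul_smul, mem_stabilizer_iff.1 hh.2]

omit hI in
theorem eq_kernel {F H : Subgroup G} (hF : IsKernel a F) (hHa : H ≤ stabilizer G a)
    (hHcard : Nat.card H + 1 = Nat.card Ω) (hHfix : ∀ u ∈ H, u ≠ 1 → ∀ c : Ω, u • c = c → c = a) : H = F := by
  refine Subgroup.eq_of_le_of_card_ge (fun u hu => ?_) ?_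
  · rcases eq_or_ne u 1 with rfl | hu1
    · exact one_mem F
    · exact mem_kernel_of_fix_only hZ hab hF (hHa hu) (hHfix u hu hu1)
  · have := hF.card_add_one hab
    omega

/-- The involutions of the kernel are central in it. -/
theorem Inverted.invol_central {F : Subgroup G} (hF : IsKernel a F) (t : Invol G)
    (ht : (t : G) • a = a) : (t : G) ∈ F ∧ ∀ u ∈ F, u * t = t * u := by
  classical
  refine ⟨mem_kernel_of_fix_only hZ hab hF ht fun c hc => by_contra fun hca =>
    hI.not_fix_two hZ hab t hca hc ht, ?_⟩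
  have hodd : Odd (Nat.card Ω) := by
    by_contra h
    have h0 := hI.card_fix_point hZ hab a
    rw [if_neg h, Nat.card_eq_zero] at h0
    exact h0.elim (fun h => h.false ⟨t, ht⟩) (fun h => not_finite {t : Invol G // (t : G) • a = a})
  have : Group.IsNilpotent F := hF.isNilpotent hZ hab
  have h2 : 2 ∣ Nat.card F := by
    have := hF.card_add_one hab
    rw [Nat.odd_iff] at hodd
    omega
  have hnil : Group.IsNilpotent F := this
  have : Fact (Nat.Prime 2) := ⟨Nat.prime_two⟩
  let P : Sylow 2 F := default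
  have hPn : (P : Subgroup F).Normal :=
    ((Group.isNilpotent_of_finite_tfae (G := F)).out 0 3 rfl rfl).mp hnil 2 inferInstance P
  obtain ⟨z, ⟨hzP, hzc⟩, hz1⟩ := (Subgroup.bot_or_exists_ne_one _).resolve_left
    (CfsgLib.Base.inf_center_ne_bot_of_isNilpotent (P.ne_bot_of_dvd_card h2))
  obtain ⟨j, hj⟩ := P.isPGroup' ⟨z, hzP⟩
  obtain ⟨w, hw, hw1, hw2⟩ : ∃ w : F, (∀ u : F, u * w = w * u) ∧ w ≠ 1 ∧ w * w = 1 := by
    have hord : ∃ j, z ^ 2 ^ j = 1 := ⟨j, congrArg Subtype.val hj⟩
    obtain ⟨i, hi⟩ : ∃ i, Nat.find hord = i + 1 :=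
      Nat.exists_eq_succ_of_ne_zero fun h => hz1 (by have := Nat.find_spec hord; rwa [h, pow_zero, pow_one] at this)
    refine ⟨z ^ 2 ^ i, fun u => (Commute.pow_right (Subgroup.mem_center_iff.1 hzc u) _).eq,
      Nat.find_min hord (by omega), ?_⟩
    rw [← pow_two, ← pow_mul, ← pow_succ, ← hi]
    exact Nat.find_spec hord
  have hwG1 : (w : G) ≠ 1 := fun e => hw1 (Subtype.ext e)
  have hwG2 : (w : G) * w = 1 := congrArg Subtype.val hw2
  let f : pairStab G a b → {t : Invol G // (t : G) • a = a} := fun x =>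
    ⟨Invol.conj (x : G) ⟨w, hwG1, hwG2⟩, hF.le (hF.normal x x.2.1 w w.2)⟩
  have hf : Function.Injective f := by
    intro x y hxy
    have e' : (x : G) * w * (x : G)⁻¹ = y * w * (y : G)⁻¹ :=
      congrArg (fun t => ((t : {t : Invol G // (t : G) • a = a}).1 : G)) hxy
    have hc : (w : G) ∈ F ⊓ Subgroup.centralizer ({(y : G)⁻¹ * x} : Set G) := by
      refine Subgroup.mem_inf.2 ⟨w.2, Subgroup.mem_centralizer_iff.2 fun u hu => ?_⟩
      rw [Set.mem_singleton_iff.1 hu]
      have := congrArg (fun u => (y : G)⁻¹ * u * x) e'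
      simpa [mul_assoc] using this
    by_contra hne
    rw [(hF.isFPF hZ hab).2 _ (mul_mem (inv_mem y.2) x.2)
      (fun h => hne (Subtype.ext (inv_mul_eq_one.1 h).symm)), Subgroup.mem_bot] at hc
    exact hwG1 hc
  have hcard : Nat.card (pairStab G a b) = Nat.card {t : Invol G // (t : G) • a = a} := by
    rw [hI.card_fix_point hZ hab a, if_pos hodd]
  obtain ⟨x, hx⟩ := ((Nat.bijective_iff_injective_and_card f).2 ⟨hf, hcard⟩).2 ⟨t, ht⟩
  have ht' : (t : G) = x * w * (x : G)⁻¹ := (congrArg (fun t => ((t : {t : Invol G // (t : G) • a = a}).1 : G)) hx).symm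
  intro u hu
  have hu' : (x : G)⁻¹ * u * x ∈ F := by simpa using hF.normal (x : G)⁻¹ (inv_mem x.2.1) u hu
  have hc : (x : G)⁻¹ * u * x * w = w * ((x : G)⁻¹ * u * x) := congrArg Subtype.val (hw ⟨_, hu'⟩)
  calc u * t = (x : G) * ((x : G)⁻¹ * u * x * w) * (x : G)⁻¹ := by rw [ht']; group
    _ = t * u := by rw [hc, ht']; group

/-- Classes of elements without fixed points. -/
abbrev fpfClasses (G Ω : Type*) [Group G] [MulAction G Ω] :=
  {C : ConjClasses G // ∀ g : G, ConjClasses.mk g = C → ∀ c : Ω, g • c ≠ c}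

/-- There are at least `(e + 1) / 2` classes of elements without fixed points. -/
theorem Inverted.card_fpfClasses (hlt : Nat.card (pairStab G a b) + 1 < Nat.card Ω) :
    Nat.card (pairStab G a b) + 1 ≤ 2 * Nat.card (fpfClasses G Ω) := by
  classical
  have := Fintype.ofFinite G
  have := Fintype.ofFinite Ω
  have := Fintype.ofFinite (Invol G)
  obtain ⟨F, hF⟩ := exists_kernel hZ hab
  set e := Nat.card (pairStab G a b) with he
  set n := Nat.card Ω with hn
  let π : Invol G × Invol G → G := fun p => (p.1 : G) * p.2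
  let fixS : G → Finset Ω := fun x => Finset.univ.filter fun c => x • c = c
  set A0 : Finset (Invol G × Invol G) := Finset.univ.filter fun p => ∀ c : Ω, π p • c ≠ c with hA0
  set A1 : Finset (Invol G × Invol G) := Finset.univ.filter fun p => ∃! c : Ω, π p • c = c with hA1
  set A2 : Finset (Invol G × Invol G) := Finset.univ.filter fun p =>
    π p ≠ 1 ∧ ∃ c d : Ω, c ≠ d ∧ π p • c = c ∧ π p • d = d with hA2
  set AI : Finset (Invol G × Invol G) := Finset.univ.filter fun p => π p = 1 with hAI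
  have hcover : (Finset.univ : Finset (Invol G × Invol G)) ⊆ AI ∪ A2 ∪ A1 ∪ A0 := by
    intro p _
    simp only [Finset.mem_union, hA0, hA1, hA2, hAI, Finset.mem_filter, Finset.mem_univ, true_and]
    by_cases h1 : π p = 1
    · exact Or.inl (Or.inl (Or.inl h1))
    by_cases h0 : ∀ c : Ω, π p • c ≠ c
    · exact Or.inr h0
    push Not at h0
    obtain ⟨c, hc⟩ := h0
    by_cases hu : ∀ d, π p • d = d → d = c
    · exact Or.inl (Or.inr ⟨c, hc, hu⟩)
    push Not at hu
    obtain ⟨d, hd, hdc⟩ := hu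
    exact Or.inl (Or.inl (Or.inr ⟨h1, c, d, Ne.symm hdc, hc, hd⟩))
  have hI1 : AI.card ≤ Fintype.card (Invol G) := by
    refine Finset.card_le_card_of_injOn Prod.fst (fun _ _ => Finset.mem_univ _) fun p hp q hq h => ?_
    have hp' : π p = 1 := (Finset.mem_filter.1 hp).2
    have hq' : π q = 1 := (Finset.mem_filter.1 hq).2
    exact Prod.ext h (Subtype.ext (mul_left_cancel (a := (p.1 : G)) (hp'.trans (by rw [h]; exact hq'.symm))))
  -- products fixing two points
  let X : Finset G := Finset.univ.filter fun x => x ≠ 1 ∧ ∃ c d : Ω, c ≠ d ∧ x • c = c ∧ x • d = d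
  have hX : 2 * X.card ≤ n * (n - 1) * (e - 1) := by
    let Y : Finset (G × (Ω × Ω)) :=
      Finset.univ.filter fun p => p.1 ≠ 1 ∧ p.2.1 ≠ p.2.2 ∧ p.1 • p.2.1 = p.2.1 ∧ p.1 • p.2.2 = p.2.2
    have h1 : 2 * X.card ≤ Y.card := by
      rw [mul_comm, ← smul_eq_mul, ← Finset.sum_const, Finset.card_eq_sum_card_fiberwise
        (f := Prod.fst) (t := X) (s := Y) fun p hp => ?_]
      · refine Finset.sum_le_sum fun x hx => ?_
        obtain ⟨hx1, c, d, hcd, hc, hd⟩ := (Finset.mem_filter.1 hx).2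
        calc 2 = ({(x, (c, d)), (x, (d, c))} : Finset (G × (Ω × Ω))).card :=
              (Finset.card_pair (by simp [hcd])).symm
          _ ≤ _ := Finset.card_le_card (by
            intro p hp
            rcases Finset.mem_insert.1 hp with rfl | hp
            · simp [Y, hx1, hcd, hc, hd]
            · rw [Finset.mem_singleton.1 hp]
              simp [Y, hx1, hcd.symm, hc, hd])
      · obtain ⟨h1, h2, h3, h4⟩ := (Finset.mem_filter.1 hp).2
        exact Finset.mem_filter.2 ⟨Finset.mem_univ _, h1, _, _, h2, h3, h4⟩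
    refine h1.trans ?_
    rw [show n * (n - 1) * (e - 1) = (e - 1) * (Finset.univ : Finset Ω).offDiag.card by
      rw [Finset.offDiag_card, Finset.card_univ, hn, Nat.card_eq_fintype_card, mul_comm (e - 1), ← Nat.mul_sub_one]]
    refine Finset.card_le_mul_card_image_of_maps_to (f := Prod.snd) (fun p hp => ?_) _ fun q hq => ?_
    · simp [(Finset.mem_filter.1 hp).2.2.1]
    · obtain ⟨-, -, hq⟩ := Finset.mem_offDiag.1 hq
      obtain ⟨g, hga, hgb⟩ := exists_move hZ q.1 q.2 a b hq hab
      have hE : e - 1 = ((Finset.univ : Finset (pairStab G a b)).erase 1).card := by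
        rw [Finset.card_erase_of_mem (Finset.mem_univ _), Finset.card_univ, he, Nat.card_eq_fintype_card]
      rw [hE]
      refine Finset.card_le_card_of_injOn (fun p => if h : g * p.1 * g⁻¹ ∈ pairStab G a b then ⟨_, h⟩ else 1)
        (fun p hp => ?_) fun p hp p' hp' h => ?_
      all_goals
        obtain ⟨hp0, hpq⟩ := Finset.mem_filter.1 hp
        obtain ⟨hp1, -, hpc, hpd⟩ := (Finset.mem_filter.1 hp0).2
        rw [hpq] at hpc hpd
        have hm := conj_mem_pairStab hZ hga hgb (mem_pairStab.2 ⟨hpc, hpd⟩)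
      · simp only [dif_pos hm]
        exact Finset.mem_erase.2 ⟨fun h => hp1 (conj_eq_one_iff.1 (congrArg Subtype.val h)), Finset.mem_univ _⟩
      · obtain ⟨hp0', hpq'⟩ := Finset.mem_filter.1 hp'
        obtain ⟨-, -, hpc', hpd'⟩ := (Finset.mem_filter.1 hp0').2
        rw [hpq'] at hpc' hpd'
        simp only [dif_pos hm, dif_pos (conj_mem_pairStab hZ hga hgb (mem_pairStab.2 ⟨hpc', hpd'⟩))] at h
        exact Prod.ext (mul_left_cancel (mul_right_cancel (congrArg Subtype.val h))) (hpq.trans hpq'.symm)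
  have hI2 : A2.card ≤ e * X.card := by
    refine Finset.card_le_mul_card_image_of_maps_to (s := A2) (t := X) (f := π)
      (fun p hp => Finset.mem_filter.2 ⟨Finset.mem_univ _, (Finset.mem_filter.1 hp).2⟩) _ fun x hx => ?_
    obtain ⟨hx1, c, d, hcd, hc, hd⟩ := (Finset.mem_filter.1 hx).2
    rw [he, ← hI.card_swap hZ hab hcd, Nat.card_eq_fintype_card, Fintype.card_subtype]
    refine Finset.card_le_card_of_injOn Prod.fst (fun p hp => ?_) fun p hp q hq h => ?_
    · have hpx : π p = x := (Finset.mem_filter.1 hp).2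
      refine Finset.mem_filter.2 ⟨Finset.mem_univ _, ?_⟩
      have hinv : (p.1 : G) * x * p.1 = x⁻¹ := by rw [← hpx]; exact mul_mul_eq_inv p.1 p.2
      have hfx : ∀ y, x • y = y → y = c ∨ y = d := fun y hy =>
        fixed_eq hZ hcd (mem_pairStab.2 ⟨hc, hd⟩) hx1 hy
      refine (hfx _ (fix_mul_comm hinv hc)).resolve_left fun hfc => ?_
      rcases hfx _ (fix_mul_comm hinv hd) with hfd | hfd
      · exact hcd (smul_left_cancel _ (hfc.trans hfd.symm))
      · exact hI.not_fix_two hZ hab p.1 hcd hfc hfd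
    · exact Prod.ext h (Subtype.ext (mul_left_cancel (a := (p.1 : G))
        ((Finset.mem_filter.1 hp).2.trans (by rw [h]; exact (Finset.mem_filter.1 hq).2.symm))))
  -- products fixing one point
  have hI3 : A1.card ≤ n * (if Odd n then e * e - e else 0) := by
    let K : Ω → Finset (Invol G) := fun c => Finset.univ.filter fun t => (t : G) • c = c
    have hK : ∀ c, (K c).offDiag.card = if Odd n then e * e - e else 0 := fun c => by
      rw [Finset.offDiag_card, show (K c).card = Nat.card {t : Invol G // (t : G) • c = c} by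
        rw [Nat.card_eq_fintype_card, Fintype.card_subtype], hI.card_fix_point hZ hab c]
      split_ifs <;> rfl
    refine le_trans (Finset.card_le_card (t := (Finset.univ : Finset Ω).biUnion fun c => (K c).offDiag) ?_)
      ((Finset.card_biUnion_le).trans (le_of_eq ?_))
    · intro p hp
      obtain ⟨c, hc, hu⟩ := (Finset.mem_filter.1 hp).2
      have h1 : (p.1 : G) • c = c := hu _ (fix_mul_comm (mul_mul_eq_inv p.1 p.2) hc)
      have h2 : (p.2 : G) • c = c := by
        have hc' : (p.1 : G) • (p.2 : G) • c = c := by rw [← mul_smul]; exact hc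
        exact smul_left_cancel _ (hc'.trans h1.symm)
      refine Finset.mem_biUnion.2 ⟨c, Finset.mem_univ _, Finset.mem_offDiag.2
        ⟨Finset.mem_filter.2 ⟨Finset.mem_univ _, h1⟩, Finset.mem_filter.2 ⟨Finset.mem_univ _, h2⟩, fun h => ?_⟩⟩
      obtain ⟨d, hd⟩ : ∃ d, d ≠ c := by
        by_cases hac : a = c
        exacts [⟨b, hac ▸ hab.symm⟩, ⟨a, hac⟩]
      refine hd (hu d ?_)
      show ((p.1 : G) * p.2) • d = d
      rw [← h, p.1.2.2, one_smul]
    · rw [Finset.sum_congr rfl fun c _ => hK c, Finset.sum_const, Finset.card_univ, smul_eq_mul, hn,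
        Nat.card_eq_fintype_card]
  -- products without fixed points
  have hI4 : A0.card ≤ Fintype.card G * Nat.card (fpfClasses G Ω) := by
    let T : Finset (ConjClasses G) := Finset.univ.filter fun C => ∀ g : G, ConjClasses.mk g = C → ∀ c : Ω, g • c ≠ c
    rw [show Nat.card (fpfClasses G Ω) = T.card by rw [Nat.card_eq_fintype_card, Fintype.card_subtype]]
    refine Finset.card_le_mul_card_image_of_maps_to (f := fun p => ConjClasses.mk (π p)) (fun p hp => ?_) _
      fun C _ => ?_
    · refine Finset.mem_filter.2 ⟨Finset.mem_univ _, fun g hg c hc => ?_⟩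
      obtain ⟨u, hu⟩ := isConj_iff.1 (ConjClasses.mk_eq_mk_iff_isConj.1 hg)
      exact (Finset.mem_filter.1 hp).2 (u • c) (by rw [← hu, mul_smul, mul_smul, inv_smul_smul, hc])
    · induction C using Quotient.inductionOn with
      | _ x₀ =>
        set S := A0.filter fun p => ConjClasses.mk (π p) = ConjClasses.mk x₀ with hS
        have hτ : ∀ x : G, ∃ τ : G, (∃ p ∈ S, π p = x) → ∃ p ∈ S, π p = x ∧ (p.1 : G) = τ := fun x => by
          by_cases hex : ∃ p ∈ S, π p = x
          · obtain ⟨p, hp, hpx⟩ := hex; exact ⟨p.1, fun _ => ⟨p, hp, hpx, rfl⟩⟩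
          · exact ⟨1, fun h => absurd h hex⟩
        choose τ hτ using hτ
        have hg : ∀ x : G, ∃ g : G, IsConj x₀ x → g * x₀ * g⁻¹ = x := fun x => by
          by_cases hc : IsConj x₀ x
          · obtain ⟨g, hg⟩ := isConj_iff.1 hc; exact ⟨g, fun _ => hg⟩
          · exact ⟨1, fun h => absurd h hc⟩
        choose γ hγ using hg
        have key : ∀ p ∈ S, ((p.1 : G) * τ (π p) * γ (π p)) * x₀ * ((p.1 : G) * τ (π p) * γ (π p))⁻¹ = π p := by
          intro p hp
          obtain ⟨q, -, hq, hqτ⟩ := hτ (π p) ⟨p, hp, rfl⟩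
          have hq1 : (q.1 : G) * π p * q.1 = (π p)⁻¹ := hq ▸ mul_mul_eq_inv q.1 q.2
          have hp1 : (p.1 : G) * π p * p.1 = (π p)⁻¹ := mul_mul_eq_inv p.1 p.2
          have hc : γ (π p) * x₀ * (γ (π p))⁻¹ = π p :=
            hγ _ (ConjClasses.mk_eq_mk_iff_isConj.1 (Finset.mem_filter.1 hp).2.symm)
          calc _ = (p.1 : G) * (τ (π p) * (γ (π p) * x₀ * (γ (π p))⁻¹) * (τ (π p))⁻¹) * (p.1 : G)⁻¹ := by group
            _ = (p.1 : G) * ((q.1 : G) * π p * q.1) * p.1 := by rw [hc, ← hqτ, q.1.inv_eq, p.1.inv_eq]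
            _ = π p := by
              rw [hq1, ← hp1]
              simp [mul_assoc, ← mul_assoc (p.1 : G) p.1, p.1.2.2]
        refine Finset.card_le_card_of_injOn (fun p => (p.1 : G) * τ (π p) * γ (π p)) (fun _ _ => Finset.mem_univ _)
          fun p hp q hq h => ?_
        simp only at h
        have hπ : π p = π q := by rw [← key p hp, h, key q hq]
        rw [hπ] at h
        have h1 := mul_right_cancel (mul_right_cancel h)
        exact Prod.ext (Subtype.ext h1) (Subtype.ext (mul_left_cancel (a := (p.1 : G)) (hπ.trans (by rw [h1]))))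
  -- conclusion
  have hle := Finset.card_le_card hcover
  rw [Finset.card_univ, Fintype.card_prod] at hle
  have hle' := hle.trans ((Finset.card_union_le _ _).trans (Nat.add_le_add_right
    ((Finset.card_union_le _ _).trans (Nat.add_le_add_right (Finset.card_union_le _ _) _)) _))
  have hIc := hI.card_invol hZ hab
  rw [← he, ← hn, Nat.card_eq_fintype_card] at hIc
  have hcG : Fintype.card G = n * ((n - 1) * e) := by
    rw [← Nat.card_eq_fintype_card, hF.card_group hZ hab, hn, he, ← hF.card_add_one hab, Nat.add_sub_cancel]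
  set r := Nat.card (fpfClasses G Ω)
  set I := Fintype.card (Invol G)
  obtain ⟨m, hm⟩ : ∃ m, n = m + 1 := ⟨n - 1, by omega⟩
  obtain ⟨j, hj⟩ := hI.odd
  rw [← he] at hj
  have hee : e * e - e = e * (e - 1) := by rw [Nat.mul_sub, mul_one]
  have htot : 2 * (I * I) ≤ 2 * I + e * (n * (n - 1) * (e - 1)) + 2 * A1.card + 2 * (n * ((n - 1) * e) * r) := by
    have h1 : I * I ≤ I + A2.card + A1.card + Fintype.card G * r := by omega
    have h2 : 2 * A2.card ≤ e * (n * (n - 1) * (e - 1)) :=
      (Nat.mul_le_mul_left 2 hI2).trans (by rw [mul_left_comm]; exact Nat.mul_le_mul_left e hX)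
    rw [hcG] at h1
    omega
  rw [hee] at hI3
  rw [hm, show m + 1 - 1 = m by omega] at htot hIc
  rw [hm] at hI3
  rw [hm] at hlt
  rw [hj, show 2 * j + 1 - 1 = 2 * j by omega] at htot hI3
  rw [hj] at hIc hlt ⊢
  by_contra! hcon
  have hr : r ≤ j := by omega
  by_cases hodd : Odd (m + 1)
  · rw [if_pos hodd] at hIc hI3
    rw [hIc] at htot
    nlinarith [Nat.mul_le_mul_left ((m + 1) * (m * (2 * j + 1))) hr, Nat.zero_le ((m + 1) * (2 * j + 1))]
  · rw [if_neg hodd] at hIc hI3
    rw [hIc] at htot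
    nlinarith [Nat.mul_le_mul_left ((m + 1) * (m * (2 * j + 1))) hr, Nat.mul_le_mul_left (m * (2 * j + 1)) hlt]

end

end CfsgLib.Perm.ZassG
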