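import Cfsg.Agent.Lib.Perm.ZassG.Basic

/-!
Sharply triply transitive groups of degree at least five are Zassenhaus groups.
-/

open MulAction Cfsg

namespace CfsgLib.Perm.ZassG

theorem injective_vec3 {α : Type*} {a b c : α} (hab : a ≠ b) (hac : a ≠ c) (hbc : b ≠ c) :
    Function.Injective ![a, b, c] := fun i j hij => by
  fin_cases i <;> fin_cases j <;> simp_all [eq_comm]

variable {G Ω : Type*} [Group G] [MulAction G Ω] [Finite Ω]
  (h3 : IsMultiplyPretransitive G Ω 3) (hsharp : ∀ t : Fin 3 ↪ Ω, stabilizer G t = ⊥)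

include hsharp in
theorem eq_one_of_sharp {g : G} {a b c : Ω} (hab : a ≠ b) (hbc : b ≠ c) (hac : a ≠ c)
    (ha : g • a = a) (hb : g • b = b) (hc : g • c = c) : g = 1 := by
  have emb := injective_vec3 hab hac hbc
  have hm : g ∈ stabilizer G (⟨_, emb⟩ : Fin 3 ↪ Ω) := by
    rw [mem_stabilizer_iff]
    ext i
    fin_cases i <;> assumption
  rwa [hsharp, Subgroup.mem_bot] at hm

include h3 in
theorem exists_smul_three {x y z x' y' z' : Ω} (h1 : x ≠ y) (h2 : x ≠ z) (hyz : y ≠ z)
    (h1' : x' ≠ y') (h2' : x' ≠ z') (h3' : y' ≠ z') :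
    ∃ g : G, g • x = x' ∧ g • y = y' ∧ g • z = z' := by
  obtain ⟨g, hg⟩ := h3.exists_smul_eq ⟨_, injective_vec3 h1 h2 hyz⟩ ⟨_, injective_vec3 h1' h2' h3'⟩
  exact ⟨g, DFunLike.congr_fun hg 0, DFunLike.congr_fun hg 1, DFunLike.congr_fun hg 2⟩

include h3 hsharp in
theorem card_pairStab_of_sharp {a b : Ω} (hab : a ≠ b) (h : 3 ≤ Nat.card Ω) :
    Nat.card (pairStab G a b) + 2 = Nat.card Ω := by
  classical
  have := Fintype.ofFinite Ω
  rw [Nat.card_eq_fintype_card (α := Ω)] at h ⊢
  have hc2 : ({a, b} : Finset Ω).card ≤ Fintype.card Ω := Finset.card_le_univ _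
  rw [Finset.card_pair hab] at hc2
  obtain ⟨c, hc⟩ := Finset.exists_mem_notMem_of_card_lt_card (s := ({a, b} : Finset Ω)) (t := Finset.univ)
    (by rw [Finset.card_pair hab, Finset.card_univ]; omega)
  simp only [Finset.mem_univ, true_and, Finset.mem_insert, Finset.mem_singleton, not_or] at hc
  obtain ⟨hca, hcb⟩ := hc
  have e : pairStab G a b ≃ {y : Ω // y ≠ a ∧ y ≠ b} := Equiv.ofBijective
    (fun g => ⟨(g : G) • c, fun h => hca (smul_left_cancel (g : G) (h.trans g.2.1.symm)),
      fun h => hcb (smul_left_cancel (g : G) (h.trans g.2.2.symm))⟩) ⟨fun g g' h => ?_, fun y => ?_⟩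
  · rw [Nat.card_congr e, Nat.card_eq_fintype_card, Fintype.card_subtype,
      show (Finset.univ.filter fun y : Ω => y ≠ a ∧ y ≠ b) = (Finset.univ : Finset Ω) \ {a, b} by ext; simp,
      Finset.card_sdiff_of_subset (Finset.subset_univ _), Finset.card_pair hab, Finset.card_univ]
    omega
  · have e : (g : G) • c = (g' : G) • c := congrArg Subtype.val h
    exact Subtype.ext (inv_mul_eq_one.1 (eq_one_of_sharp hsharp hab (Ne.symm hcb) (Ne.symm hca)
      (g := (g' : G)⁻¹ * g) (mul_mem (inv_mem g'.2) g.2).1 (mul_mem (inv_mem g'.2) g.2).2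
      (by rw [mul_smul, e, inv_smul_smul]))).symm
  · obtain ⟨g, ga, gb, gc⟩ := exists_smul_three h3 hab (Ne.symm hca) (Ne.symm hcb) hab y.2.1.symm y.2.2.symm
    exact ⟨⟨g, ga, gb⟩, Subtype.ext gc⟩

include h3 hsharp in
/-- A sharply triply transitive group of degree at least five is a Zassenhaus group. -/
theorem isZassenhausGroup_of_sharp3 [Finite G] [FaithfulSMul G Ω] (h5 : 5 ≤ Nat.card Ω) :
    Cfsg.IsZassenhausGroup G Ω := by
  classical
  have := Fintype.ofFinite Ω
  have hcF := Nat.card_eq_fintype_card (α := Ω)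
  have h2 : IsMultiplyPretransitive G Ω 2 := isMultiplyPretransitive_of_le (n := 3) (by omega) (by simp; omega)
  refine ⟨inferInstance, h2, fun g a b c hab hbc hac => eq_one_of_sharp hsharp hab hbc hac, ?_, fun N hN htr => ?_⟩
  · obtain ⟨a, b, hab⟩ := Fintype.exists_pair_of_one_lt_card (α := Ω) (by omega)
    have hc := card_pairStab_of_sharp h3 hsharp hab (by omega)
    have : Nontrivial (pairStab G a b) := Finite.one_lt_card_iff_nontrivial.1 (by omega)
    obtain ⟨g, hg⟩ := exists_ne (1 : pairStab G a b)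
    exact ⟨g, fun h => hg (Subtype.ext h), a, b, hab, g.2.1, g.2.2⟩
  · by_contra! hreg
    obtain ⟨a⟩ : Nonempty Ω := Finite.card_pos_iff.1 (by omega)
    have huniq : ∀ (u v : G), u ∈ N → v ∈ N → u • a = v • a → u = v := by
      intro u v hu hv h
      have : (⟨v⁻¹ * u, mul_mem (inv_mem hv) hu⟩ : N) ∈ stabilizer N a :=
        mem_stabilizer_iff.2 (show (v⁻¹ * u) • a = a by rw [mul_smul, h, inv_smul_smul])
      rw [hreg a, Subgroup.mem_bot] at this
      exact (inv_mul_eq_one.1 (congrArg Subtype.val this)).symm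
    have hne : ∀ u : G, u ∈ N → u ≠ 1 → u • a ≠ a := fun u hu hu1 h =>
      hu1 (huniq u 1 hu N.one_mem (by rw [h, one_smul]))
    have hconj : ∀ (g u v : G), u ∈ N → v ∈ N → g • a = a → g • u • a = v • a → g * u * g⁻¹ = v :=
      fun g u v hu hv hg h => huniq _ _ (hN.conj_mem u hu g) hv
        (by rw [mul_smul, mul_smul, inv_smul_eq_iff.2 hg.symm, h])
    have hNc : Nat.card N = Nat.card Ω := Nat.card_congr (Equiv.ofBijective (fun u : N => (u : G) • a)
      ⟨fun u v h => Subtype.ext (huniq u v u.2 v.2 h), fun c => let ⟨u, hu⟩ := htr.exists_smul_eq a c; ⟨u, hu⟩⟩)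
    have hexp : ∀ u : G, u ∈ N → u * u = 1 := by
      intro u hu
      by_contra huu
      have hu1 : u ≠ 1 := fun h => huu (by rw [h, mul_one])
      have hne' : u • a ≠ u⁻¹ • a := fun h => huu (by
        have := huniq u u⁻¹ hu (inv_mem hu) h
        nth_rewrite 2 [this]; exact mul_inv_cancel u)
      obtain ⟨w, hw⟩ := Finset.exists_mem_notMem_of_card_lt_card (s := ({a, u • a, u⁻¹ • a} : Finset Ω)) (t := Finset.univ)
        (lt_of_le_of_lt Finset.card_le_three (by rw [Finset.card_univ]; omega))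
      simp only [Finset.mem_univ, true_and, Finset.mem_insert, Finset.mem_singleton, not_or] at hw
      obtain ⟨v, hv⟩ := htr.exists_smul_eq a w
      have hu' := hne u⁻¹ (inv_mem hu) (inv_ne_one.2 hu1)
      obtain ⟨g, ga, gu, gv⟩ := exists_smul_three h3 (hne u hu hu1).symm hu'.symm hne'
        (hne u hu hu1).symm (Ne.symm hw.1) (Ne.symm hw.2.1)
      have e1 := hconj g u u hu hu ga gu
      have e2 := hconj g u⁻¹ v (inv_mem hu) v.2 ga (gv.trans hv.symm)
      refine hw.2.2 ?_
      rw [← hv]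
      show (v : G) • a = _
      rw [← e2, show g * u⁻¹ * g⁻¹ = (g * u * g⁻¹)⁻¹ by group, e1]
    have hcomm : ∀ u v : N, u * v = v * u := fun u v => Subtype.ext (by
      have h1 := hexp _ (mul_mem u.2 v.2)
      have iu := inv_eq_of_mul_eq_one_left (hexp _ u.2)
      have iv := inv_eq_of_mul_eq_one_left (hexp _ v.2)
      calc (u : G) * v = ((u : G) * v)⁻¹ := (inv_eq_of_mul_eq_one_left h1).symm
        _ = (v : G) * u := by rw [mul_inv_rev, iu, iv])
    obtain ⟨u₀, hu₀⟩ : ∃ u : N, (u : G) ≠ 1 := by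
      have : Nontrivial N := Finite.one_lt_card_iff_nontrivial.1 (by omega)
      obtain ⟨u, hu⟩ := exists_ne (1 : N)
      exact ⟨u, fun h => hu (Subtype.ext h)⟩
    rcases Nat.even_or_odd (Nat.card Ω) with heven | hodd
    swap
    · refine hu₀ (congrArg Subtype.val (orderOf_eq_one_iff.1 (Nat.eq_one_of_dvd_coprimes
        (Nat.coprime_two_left.2 hodd) (orderOf_dvd_of_pow_eq_one (x := u₀) ?_) (hNc ▸ orderOf_dvd_natCard u₀))))
      exact Subtype.ext (by simpa [pow_two] using hexp _ u₀.2)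
    have hab : a ≠ (u₀ : G) • a := (hne _ u₀.2 hu₀).symm
    have hcE := card_pairStab_of_sharp h3 hsharp hab (by omega)
    have he : 2 ∣ Nat.card (pairStab G a ((u₀ : G) • a)) := by
      obtain ⟨k, hk⟩ := heven
      omega
    obtain ⟨z, hz⟩ := exists_prime_orderOf_dvd_card' (hp := ⟨Nat.prime_two⟩) 2 he
    have hz1 : (z : G) ≠ 1 := fun h => by
      rw [← Subgroup.orderOf_coe, h, orderOf_one] at hz; omega
    have hz2 : (z : G) * z = 1 := by
      rw [← pow_two, ← hz, ← Subgroup.orderOf_coe, pow_orderOf_eq_one]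
    let φ : N →* N :=
      { toFun := fun v => v * ⟨z * (v : G) * (z : G)⁻¹, hN.conj_mem _ v.2 _⟩
        map_one' := Subtype.ext (by simp)
        map_mul' := fun v w => by
          have e : (⟨(z : G) * ((v * w : N) : G) * (z : G)⁻¹, hN.conj_mem _ (v * w).2 _⟩ : N) =
              ⟨z * v * (z : G)⁻¹, hN.conj_mem _ v.2 _⟩ * ⟨z * w * (z : G)⁻¹, hN.conj_mem _ w.2 _⟩ :=
            Subtype.ext (by simp [mul_assoc])
          rw [e, mul_assoc, ← mul_assoc w, hcomm w]; simp only [mul_assoc] }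
    have hker : Nat.card φ.ker ≤ 2 := by
      suffices hmem : ∀ v ∈ φ.ker, v ∈ ({1, u₀} : Set N) by
        have h : (φ.ker : Set N).ncard ≤ 2 := (Set.ncard_le_ncard hmem (Set.toFinite _)).trans
          ((Set.ncard_insert_le _ _).trans (by simp))
        rwa [← Nat.card_coe_set_eq] at h
      intro v hker
      have hv : (v : G) * ((z : G) * v * (z : G)⁻¹) = 1 := congrArg Subtype.val (MonoidHom.mem_ker.1 hker)
      have hzv : (z : G) * v * (z : G)⁻¹ = (v : G) := (mul_left_cancel (hv.trans (hexp _ v.2).symm))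
      have hfix : (z : G) • (v : G) • a = (v : G) • a := by
        conv_rhs => rw [← hzv, mul_smul, mul_smul, inv_smul_eq_iff.2 (mem_stabilizer_iff.1 z.2.1).symm]
      by_contra h
      simp only [Set.mem_insert_iff, Set.mem_singleton_iff, not_or] at h
      exact hz1 (eq_one_of_sharp hsharp hab
        (fun e => h.2 (Subtype.ext (huniq _ _ v.2 u₀.2 e.symm)))
        (fun e => h.1 (Subtype.ext (huniq _ _ v.2 N.one_mem (e.symm.trans (one_smul G a).symm))))
        z.2.1 z.2.2 hfix)
    have hrange : φ.range ≤ φ.ker := by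
      rintro _ ⟨v, rfl⟩
      refine MonoidHom.mem_ker.2 (Subtype.ext ?_)
      show ((v : G) * ((z : G) * v * (z : G)⁻¹)) * ((z : G) * ((v : G) * ((z : G) * v * (z : G)⁻¹)) * (z : G)⁻¹) = 1
      rw [show (z : G) * ((v : G) * ((z : G) * v * (z : G)⁻¹)) * (z : G)⁻¹ =
        (z * v * (z : G)⁻¹) * (((z : G) * z) * v * ((z : G) * z)⁻¹) by group, hz2, one_mul, inv_one, mul_one]
      have hc : ((v : G) * ((z : G) * v * (z : G)⁻¹)) = ((z : G) * v * (z : G)⁻¹) * v :=
        congrArg Subtype.val (hcomm v ⟨_, hN.conj_mem _ v.2 _⟩)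
      rw [← hc]
      exact hexp _ (mul_mem v.2 (hN.conj_mem _ v.2 _))
    have h := Subgroup.card_eq_card_quotient_mul_card_subgroup φ.ker
    rw [Nat.card_congr (QuotientGroup.quotientKerEquivRange φ).toEquiv, hNc] at h
    have := Subgroup.card_le_of_le hrange
    nlinarith

end CfsgLib.Perm.ZassG
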