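import Cfsg.Agent.Lib.Perm.ZassG.SharpEven
import Cfsg.Agent.Lib.Perm.ZassG.SharpPerm
import Cfsg.Agent.Lib.Perm.ZassG.PSL
import Cfsg.Agent.Lib.Perm.ZassG.PGL

/-!
Sharply triply transitive groups of degree `p ^ f + 1` with `p` and `f` odd are `PGL(2, p ^ f)`.
-/

open MulAction Cfsg

namespace CfsgLib.Perm.ZassG

/-- An involutive automorphism of a field whose order is not a square is trivial. -/
theorem ringEquiv_eq_self_of_card {K : Type*} [Field K] [Finite K] (σ : K → K)
    (hadd : ∀ x y, σ (x + y) = σ x + σ y) (hmul : ∀ x y, σ (x * y) = σ x * σ y)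
    (hσ : ∀ x, σ (σ x) = x) (h2 : ringChar K ≠ 2) (hsq : ¬ IsSquare (Nat.card K)) (x : K) : σ x = x := by
  classical
  have hdiv : (2 : K) ≠ 0 := Ring.two_ne_zero h2
  have hsub : ∀ y z, σ (y - z) = σ y - σ z := fun y z => by
    rw [eq_sub_iff_add_eq, ← hadd, sub_add_cancel]
  by_contra hx
  set δ := x - σ x with hδ
  have hδ0 : δ ≠ 0 := sub_ne_zero.2 (Ne.symm hx)
  have hδs : σ δ = -δ := by rw [hδ, hsub, hσ, neg_sub]
  have h2s : σ 2 = 2 := by
    have h1 : σ 1 = 1 := by
      have h := hσ 1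
      have h' := hmul 1 (σ 1)
      rw [one_mul, h, mul_one] at h'
      exact h'.symm
    rw [← one_add_one_eq_two, hadd, h1]
  let Φ : {y : K // σ y = y} × {y : K // σ y = y} → K := fun q => q.1.1 + δ * q.2.1
  have hinj : Function.Injective Φ := by
    intro q r h
    have h' := congrArg σ h
    simp only [Φ, hadd, hmul, q.1.2, q.2.2, r.1.2, r.2.2, hδs] at h h'
    have e1 : (q.1 : K) = r.1 := mul_left_cancel₀ hdiv (by linear_combination h + h')
    exact Prod.ext (Subtype.ext e1)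
      (Subtype.ext (mul_left_cancel₀ hδ0 (by linear_combination h - e1)))
  have hsurj : Function.Surjective Φ := by
    intro y
    refine ⟨(⟨(y + σ y) / 2, ?_⟩, ⟨(y - σ y) / (2 * δ), ?_⟩), ?_⟩
    · have h := hmul ((y + σ y) / 2) 2
      rw [div_mul_cancel₀ _ hdiv, h2s, hadd, hσ] at h
      rw [eq_div_iff hdiv, ← h]; ring
    · have h := hmul ((y - σ y) / (2 * δ)) (2 * δ)
      rw [div_mul_cancel₀ _ (mul_ne_zero hdiv hδ0), hmul 2, h2s, hδs, hsub, hσ] at h
      rw [eq_div_iff (mul_ne_zero hdiv hδ0)]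
      linear_combination h
    · simp only [Φ]
      field_simp
      ring
  refine hsq ⟨Nat.card {y : K // σ y = y}, ?_⟩
  rw [← Nat.card_prod]
  exact (Nat.card_congr (Equiv.ofBijective Φ ⟨hinj, hsurj⟩)).symm

variable {G Ω : Type*} [Group G] [MulAction G Ω] [Finite G] [Finite Ω]

/-- A Zassenhaus group with `n - 2 = e` even is a `PGL(2, K)` if `n - 1` is not a square or the
two-point stabiliser is commutative. -/
theorem exists_pgl_of_even_or (hZ : Cfsg.IsZassenhausGroup G Ω) {a b : Ω} (hab : a ≠ b)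
    (hcard : Nat.card (pairStab G a b) + 2 = Nat.card Ω) (he : 2 ∣ Nat.card (pairStab G a b))
    (hor : ¬ IsSquare (Nat.card Ω - 1) ∨
      ∀ x ∈ pairStab G a b, ∀ y ∈ pairStab G a b, x * y = y * x) :
    ∃ (K : Type) (_ : Field K) (_ : Fintype K), Nat.card K + 1 = Nat.card Ω ∧
      Nonempty (G ≃* Matrix.ProjGenLinGroup (Fin 2) K) := by
  classical
  obtain ⟨F, hF⟩ := exists_kernel hZ hab
  have hn := hF.card_add_one hab
  obtain ⟨M, hM, hidx, z, hz, hzM⟩ := exists_normal_index_two hZ hab hcard he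
  have hzz : z * z ∈ M := Subgroup.mul_self_mem_of_index_two hidx z
  have hM1 : M ≠ ⊥ := by
    rintro rfl
    rw [Subgroup.index_bot] at hidx
    have := hF.card_group hZ hab
    have := Nat.card_pos (α := pairStab G a b)
    have := hF.card_add_one hab
    have h4 : 3 * (2 * 1) ≤ Nat.card G := by
      rw [‹Nat.card G = _›]; exact Nat.mul_le_mul (by omega) (Nat.mul_le_mul (by omega) (by omega))
    omega
  have hZM := normal_isZassenhausGroup hZ hab M hM1
  obtain ⟨hFM, -⟩ := normal_contains hZ hab hF M hM1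
  let FM : Subgroup M := F.subgroupOf M
  have hFM' : IsKernel a FM :=
    { le := fun u hu => hF.le hu
      normal := fun g hg u hu => hF.normal (g : G) hg u hu
      regular := fun y w hy hw => by
        obtain ⟨⟨u, hu⟩, hue, huu⟩ := hF.regular y w hy hw
        refine ⟨⟨⟨u, hFM hu⟩, hu⟩, hue, ?_⟩
        rintro ⟨⟨v, hvM⟩, hv⟩ hve
        exact Subtype.ext (Subtype.ext (congrArg Subtype.val (huu ⟨v, hv⟩ hve) :)) }
  have hcardFM : Nat.card FM = Nat.card F := Nat.card_congr (Subgroup.subgroupOfEquivOfLe hFM).toEquiv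
  have hcardE : 2 * Nat.card (pairStab M a b) = Nat.card (pairStab G a b) := by
    let e : pairStab M a b ≃ M.subgroupOf (pairStab G a b) :=
      { toFun := fun x => ⟨⟨((x : M) : G), x.2⟩, (x : M).2⟩
        invFun := fun x => ⟨⟨((x : pairStab G a b) : G), x.2⟩, (x : pairStab G a b).2⟩
        left_inv := fun x => rfl
        right_inv := fun x => rfl }
    have h2 : (M.subgroupOf (pairStab G a b)).index = 2 := by
      have hd : (M.subgroupOf (pairStab G a b)).index ∣ 2 := hidx ▸ Subgroup.relIndex_dvd_index_of_normal M _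
      rcases (Nat.dvd_prime Nat.prime_two).1 hd with h | h
      · rw [Subgroup.index_eq_one] at h
        exact absurd (h ▸ Subgroup.mem_top (⟨z, hz⟩ : pairStab G a b) : (⟨z, hz⟩ : pairStab G a b) ∈ M.subgroupOf (pairStab G a b)) hzM
      · exact h
    rw [Nat.card_congr e, ← (M.subgroupOf (pairStab G a b)).card_mul_index, h2, mul_comm]
  have hhalf : Nat.card FM = 2 * Nat.card (pairStab M a b) + 1 := by omega
  obtain ⟨K, hKf, hKt, hK2, hq, C, hψF⟩ := exists_halfCoord hZM hab hFM' hhalf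
  refine ⟨K, hKf, hKt, by omega, ?_⟩
  obtain ⟨s, hsa, hsb⟩ := exists_swap hZM hab
  obtain ⟨c, hc, hs⟩ := C.swap_const hZM hab hK2 hFM' hhalf hq hψF hsa hsb
  have hzb : z⁻¹ • b = b := inv_smul_eq_iff.2 (mem_stabilizer_iff.1 hz.2).symm
  have hψmem : ∀ y, C.ψ y ∈ FM := fun y => by
    obtain ⟨⟨u, hu⟩, hue, -⟩ := hFM'.regular b (C.pt y) hab.symm (C.pt_ne hab y)
    obtain ⟨y', rfl⟩ := hψF u hu
    rwa [C.pt_inj _ _ hue] at hu
  -- conjugation by `z` in coordinates
  have hL : ∀ y, ∃ y', z * (C.ψ y : G) * z⁻¹ = C.ψ y' := fun y => by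
    have hu : z * (C.ψ y : G) * z⁻¹ ∈ F := hF.normal z hz.1 _ (hψmem y)
    obtain ⟨y', hy'⟩ := hψF ⟨_, hFM hu⟩ hu
    exact ⟨y', (congrArg Subtype.val hy').symm⟩
  choose L hLc using hL
  have hLpt : ∀ y, z • C.pt y = C.pt (L y) := fun y => by
    show z • (C.ψ y : G) • b = (C.ψ (L y) : G) • b
    rw [← hLc, mul_smul, mul_smul, hzb]
  have hLadd : ∀ y w, L (y + w) = L y + L w := fun y w => C.pt_inj _ _ (by
    show (C.ψ (L (y + w)) : G) • b = (C.ψ (L y + L w) : G) • b
    rw [C.map_add, Subgroup.coe_mul, ← hLc, ← hLc, ← hLc, C.map_add, Subgroup.coe_mul]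
    congr 1; group)
  have hconjM : ∀ x : pairStab M a b, ∃ x' : pairStab M a b, ((x' : M) : G) = z * ((x : M) : G) * z⁻¹ := by
    intro x
    have hm : z * ((x : M) : G) * z⁻¹ ∈ pairStab G a b := mul_mem (mul_mem hz x.2) (inv_mem hz)
    exact ⟨⟨⟨_, hM.conj_mem _ (x : M).2 z⟩, hm⟩, rfl⟩
  choose cz hcz using hconjM
  have hLε : ∀ (x : pairStab M a b) y, L (C.ε x * y) = C.ε (cz x) * L y := fun x y => C.pt_inj _ _ (by
    show C.pt (L (C.ε x * y)) = C.pt (C.ε (cz x) * L y)
    have e1 : C.pt (C.ε x * y) = ((x : M) : G) • C.pt y := (C.ε_smul x y).symm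
    have e2 : C.pt (C.ε (cz x) * L y) = ((cz x : M) : G) • C.pt (L y) := (C.ε_smul _ _).symm
    rw [← hLpt, e1, e2, hcz, ← hLpt, mul_smul, mul_smul, inv_smul_smul])
  have ha0 : L 1 ≠ 0 := fun h => by
    have e := hLpt 1
    rw [h, C.pt_zero] at e
    have := smul_left_cancel z (e.trans (mem_stabilizer_iff.1 hz.2).symm)
    exact one_ne_zero (C.pt_inj 1 0 (this.trans C.pt_zero.symm))
  set a₀ := L 1 with ha₀
  let τ : K → K := fun y => L y / a₀
  have hτadd : ∀ y w, τ (y + w) = τ y + τ w := fun y w => by simp only [τ, hLadd, add_div]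
  have hτ1 : τ 1 = 1 := div_self ha0
  have hτsq : ∀ l, IsSquare l → ∀ y, τ (l * y) = τ l * τ y := by
    intro l hl y
    rcases eq_or_ne l 0 with rfl | hl0
    · have h0 : τ 0 = 0 := by
        have := hτadd 0 0
        rw [add_zero] at this
        exact left_eq_add.1 this
      rw [zero_mul, h0, zero_mul]
    obtain ⟨x, rfl⟩ := C.ε_surj l hl0 hl
    have h1 := hLε x 1
    rw [mul_one, ← ha₀] at h1
    simp only [τ, hLε x y, h1]
    field_simp
  have hdiv : (2 : K) ≠ 0 := Ring.two_ne_zero hK2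
  have hτmul : ∀ l y, τ (l * y) = τ l * τ y := by
    intro l y
    obtain ⟨r, t, rfl⟩ : ∃ r t : K, l = r * r - t * t := ⟨(l + 1) / 2, (l - 1) / 2, by field_simp; ring⟩
    have hsub : ∀ u w, τ (u - w) = τ u - τ w := fun u w => by rw [eq_sub_iff_add_eq, ← hτadd, sub_add_cancel]
    rw [sub_mul, hsub, hsub, hτsq _ ⟨r, rfl⟩, hτsq _ ⟨t, rfl⟩, sub_mul]
  let w : pairStab M a b := ⟨⟨z * z, hzz⟩, (mul_mem hz hz : z * z ∈ pairStab G a b)⟩
  have hLL : ∀ y, L (L y) = C.ε w * y := fun y => C.pt_inj _ _ (by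
    show C.pt (L (L y)) = C.pt (C.ε w * y)
    have e : C.pt (C.ε w * y) = (z * z) • C.pt y := (C.ε_smul w y).symm
    rw [e, mul_smul, hLpt, hLpt])
  have hLτ : ∀ y, L y = a₀ * τ y := fun y => by simp only [τ]; field_simp
  have hτinv : ∀ y, τ (τ y) = y := fun y => by
    have h1 := hLL 1
    have hy := hLL y
    rw [hLτ, hLτ y, hτmul] at hy
    rw [← ha₀, hLτ, mul_one] at h1
    refine mul_left_cancel₀ (C.ε_sq w).1 ?_
    rw [← hy, ← h1]; ring
  have hτid : ∀ y, τ y = y := by
    rcases hor with hsq | hcomm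
    · exact ringEquiv_eq_self_of_card τ hτadd hτmul hτinv hK2 (by
        rw [hq, hcardFM]; rwa [show Nat.card Ω - 1 = Nat.card F by omega] at hsq)
    intro y
    have hfixsq : ∀ l, IsSquare l → τ l = l := fun l hl => by
      rcases eq_or_ne l 0 with rfl | hl0
      · have := hτadd 0 0
        rw [add_zero] at this
        exact left_eq_add.1 this
      obtain ⟨x, rfl⟩ := C.ε_surj l hl0 hl
      have hx : cz x = x := Subtype.ext (Subtype.ext (by
        rw [hcz, hcomm z hz ((x : M) : G) x.2, mul_inv_cancel_right]))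
      have h1 := hLε x 1
      rw [mul_one, hx, ← ha₀] at h1
      simp only [τ, h1]
      field_simp
    obtain ⟨r, t, rfl⟩ : ∃ r t : K, y = r * r - t * t :=
      ⟨(y + 1) / 2, (y - 1) / 2, by field_simp; ring⟩
    have h := hτadd (r * r - t * t) (t * t)
    rw [sub_add_cancel, hfixsq _ ⟨r, rfl⟩, hfixsq _ ⟨t, rfl⟩] at h
    exact eq_sub_of_add_eq h.symm
  have hza : ∀ y, z • C.pt y = C.pt (a₀ * y) := fun y => by rw [hLpt, hLτ, hτid]
  have hxa : ∀ (x : pairStab M a b) y, ((x : M) : G) • C.pt y = C.pt (C.ε x * y) := C.ε_smul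
  have hns : ¬ IsSquare a₀ := fun h => by
    obtain ⟨x, hx⟩ := C.ε_surj a₀ ha0 h
    have e : z = ((x : M) : G) := (inv_mul_eq_one.1 (eq_one_of_three hZ hab (c := C.pt 1) (g := ((x : M) : G)⁻¹ * z)
      (fun h' => one_ne_zero (C.pt_inj 1 0 (h'.symm.trans C.pt_zero.symm))) (C.pt_ne hab 1).symm
      (by rw [mul_smul, mem_stabilizer_iff.1 hz.1, inv_smul_eq_iff]; exact x.2.1.symm)
      (by rw [mul_smul, mem_stabilizer_iff.1 hz.2, inv_smul_eq_iff]; exact x.2.2.symm)
      (by rw [mul_smul, hza, inv_smul_eq_iff, hxa, hx]))).symm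
    exact hzM (e ▸ (x : M).2)
  refine nonempty_pgl_of_coord (a := a) (fun g x y w h1 h2 h3 => eq_one_of_three hZ h1 h2 h3) C.pt
    (fun y w h => C.pt_inj y w h) (C.pt_ne hab) C.pt_surj
    (fun t => ⟨(C.ψ t : G), C.fix t, fun y => by
      rw [add_comm]; exact C.ψ_smul_pt t y⟩) (fun l hl => ?_)
    ⟨(s : G), c, hc, hsa.trans C.pt_zero.symm, by rw [C.pt_zero]; exact hsb, hs⟩
  by_cases hls : IsSquare l
  · obtain ⟨x, rfl⟩ := C.ε_surj l hl hls
    exact ⟨_, x.2.1, hxa x⟩
  · have hsq' : IsSquare (l * a₀⁻¹) := isSquare_mul_of_not hK2 hls fun h => hns (by simpa using h.inv)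
    obtain ⟨x, hx⟩ := C.ε_surj _ (mul_ne_zero hl (inv_ne_zero ha0)) hsq'
    refine ⟨((x : M) : G) * z, by rw [mul_smul, mem_stabilizer_iff.1 hz.1]; exact x.2.1, fun y => ?_⟩
    rw [mul_smul, hza, hxa, hx, mul_assoc, inv_mul_cancel_left₀ ha0]

/-- A Zassenhaus group with `n - 2 = e` even and `n - 1` not a square is a `PGL(2, K)`. -/
theorem exists_pgl_of_even (hZ : Cfsg.IsZassenhausGroup G Ω) {a b : Ω} (hab : a ≠ b)
    (hcard : Nat.card (pairStab G a b) + 2 = Nat.card Ω) (he : 2 ∣ Nat.card (pairStab G a b))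
    (hsq : ¬ IsSquare (Nat.card Ω - 1)) :
    ∃ (K : Type) (_ : Field K) (_ : Fintype K), Nat.card K + 1 = Nat.card Ω ∧
      Nonempty (G ≃* Matrix.ProjGenLinGroup (Fin 2) K) :=
  exists_pgl_of_even_or hZ hab hcard he (Or.inl hsq)

/-- A sharply triply transitive group of degree four is `PGL(2, 3)`. -/
theorem nonempty_pgl_of_four (h3 : IsMultiplyPretransitive G Ω 3)
    (hsharp : ∀ t : Fin 3 ↪ Ω, stabilizer G t = ⊥) (hn : Nat.card Ω = 4) :
    Nonempty (G ≃* Matrix.ProjGenLinGroup (Fin 2) (ZMod 3)) := by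
  classical
  have hc3 : ∀ y : ZMod 3, y = 0 ∨ y = 1 ∨ y = 2 := by decide
  have d01 : (some 0 : Option (ZMod 3)) ≠ some 1 := by decide
  have d02 : (some 0 : Option (ZMod 3)) ≠ some 2 := by decide
  have d12 : (some 1 : Option (ZMod 3)) ≠ some 2 := by decide
  have h22 : (2 : ZMod 3) * 2 = 1 := by decide
  have : Fact (Nat.Prime 3) := ⟨Nat.prime_three⟩
  have := Fintype.ofFinite Ω
  let e : Option (ZMod 3) ≃ Ω := Fintype.equivOfCardEq (by
    rw [Fintype.card_option, ZMod.card, ← Nat.card_eq_fintype_card, hn])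
  have hall : ∀ σ : Equiv.Perm (Option (ZMod 3)), ∃ g : G, ∀ o, g • e o = e (σ o) := by
    intro σ
    have hd : ∀ i j : Option (ZMod 3), i ≠ j → e i ≠ e j := fun i j h => e.injective.ne h
    have hs : ∀ i j : Option (ZMod 3), i ≠ j → e (σ i) ≠ e (σ j) := fun i j h => e.injective.ne (σ.injective.ne h)
    obtain ⟨g, g0, g1, g2⟩ := exists_smul_three h3
      (hd (some 0) (some 1) d01) (hd (some 0) (some 2) d02) (hd (some 1) (some 2) d12)
      (hs (some 0) (some 1) d01) (hs (some 0) (some 2) d02) (hs (some 1) (some 2) d12)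
    refine ⟨g, fun o => ?_⟩
    obtain ⟨o', ho'⟩ : ∃ o', e o' = g • e none := e.surjective _
    have hlast : e (σ none) = g • e none := by
      obtain ⟨u, hu⟩ : ∃ u, e (σ u) = g • e none := ⟨σ.symm o', by rw [σ.apply_symm_apply, ho']⟩
      match u with
      | none => exact hu
      | some y =>
        have := hc3 y
        rcases this with rfl | rfl | rfl
        exacts [absurd (e.injective (smul_left_cancel g (g0.trans hu))) (Option.some_ne_none _),
          absurd (e.injective (smul_left_cancel g (g1.trans hu))) (Option.some_ne_none _),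
          absurd (e.injective (smul_left_cancel g (g2.trans hu))) (Option.some_ne_none _)]
    match o with
    | none => exact hlast.symm
    | some y =>
      have := hc3 y
      rcases this with rfl | rfl | rfl <;> assumption
  refine nonempty_pgl_of_coord (fun g x y w e1 e2 e3 => eq_one_of_sharp hsharp e1 e2 e3)
    (a := e none) (fun y => e (some y)) (fun y w h => Option.some_injective _ (e.injective h))
    (fun y => e.injective.ne (Option.some_ne_none y)) (fun x hx => ?_) (fun t => ?_) (fun l hl => ?_) ?_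
  · obtain ⟨o, rfl⟩ := e.surjective x
    cases o with
    | none => exact absurd rfl hx
    | some y => exact ⟨y, rfl⟩
  · obtain ⟨g, hg⟩ := hall (Equiv.optionCongr (Equiv.addRight t))
    exact ⟨g, hg none, fun y => hg (some y)⟩
  · obtain ⟨g, hg⟩ := hall (Equiv.optionCongr (Equiv.mulLeft₀ l hl))
    exact ⟨g, hg none, fun y => hg (some y)⟩
  · obtain ⟨g, hg⟩ := hall (Equiv.swap none (some 0))
    refine ⟨g, 1, one_ne_zero, hg none, (hg (some 0)).trans (by rw [Equiv.swap_apply_right]), fun y hy => ?_⟩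
    rw [hg (some y), Equiv.swap_apply_of_ne_of_ne (Option.some_ne_none y) (by simpa using hy)]
    have := hc3 y
    rcases this with rfl | rfl | rfl
    · exact absurd rfl hy
    · rw [div_one]
    · rw [one_div, inv_eq_of_mul_eq_one_right h22]

end CfsgLib.Perm.ZassG
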