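import Cfsg.Agent.Lib.Perm.ZassG.Basic
import Cfsg.Agent.Lib.Base.Nilpotent

/-!
Zassenhaus groups: inversion of the two-point stabiliser, normal subgroups, odd degree.
-/

open MulAction
open CfsgLib.Base (IsFPF)
open scoped commutatorElement

namespace CfsgLib.Perm.ZassG

variable {G Ω : Type*} [Group G] [MulAction G Ω] [Finite G] [Finite Ω]
  (hZ : Cfsg.IsZassenhausGroup G Ω) {a b : Ω} (hab : a ≠ b)
include hZ hab

/-- The set-wise stabiliser of a pair of points contains every element normalising a non-trivial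
subgroup of the two-point stabiliser. -/
theorem pair_of_normalizes {Q : Subgroup G} (hQ : Q ≤ pairStab G a b) (hQ1 : Q ≠ ⊥) {g : G}
    (hg : g ∈ Subgroup.normalizer (Q : Set G)) :
    g ∈ pairStab G a b ∨ g • a = b ∧ g • b = a := by
  obtain ⟨y, hy, hy1⟩ := (Subgroup.bot_or_exists_ne_one Q).resolve_left hQ1
  have key : ∀ c, (c = a ∨ c = b) → g • c = a ∨ g • c = b := by
    intro c hc
    have hy' : g⁻¹ * y * g ∈ Q := by
      simpa using (Subgroup.mem_normalizer_iff.1 (inv_mem hg) y).1 hy
    refine fixed_eq hZ hab (hQ hy) hy1 ?_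
    have hyc : (g⁻¹ * y * g) • c = c := by
      rcases hc with rfl | rfl
      exacts [(hQ hy').1, (hQ hy').2]
    rwa [mul_smul, mul_smul, inv_smul_eq_iff] at hyc
  rcases key a (Or.inl rfl) with h | h <;> rcases key b (Or.inr rfl) with h' | h'
  · exact absurd (smul_left_cancel g (h.trans h'.symm)) hab
  · exact Or.inl ⟨h, h'⟩
  · exact Or.inr ⟨h, h'⟩
  · exact absurd (smul_left_cancel g (h.trans h'.symm)) hab

/-- Odd two-point stabilisers without transfer kernels are cyclic and inverted. -/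
theorem inversion (hodd : Odd (Nat.card (pairStab G a b)))
    (hnil : ∀ q : ℕ, q.Prime → q ∣ Nat.card (pairStab G a b) →
      ¬ ∃ N : Subgroup G, N.Normal ∧ N.index = q ^ (Nat.card G).factorization q) :
    IsCyclic (pairStab G a b) ∧
      Subgroup.centralizer ((pairStab G a b : Subgroup G) : Set G) = pairStab G a b ∧
      ∀ s : G, s • a = b → s • b = a → ∀ h ∈ pairStab G a b, s * h * s⁻¹ = h⁻¹ := by
  classical
  have : Nonempty Ω := ⟨a⟩
  obtain ⟨F, hF⟩ := exists_kernel hZ hab
  set E := pairStab G a b with hE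
  have hfpf := hF.isFPF hZ hab
  have hn := hF.card_add_one hab
  have hG := hF.card_group hZ hab
  have hdvd := hF.card_pairStab_dvd hZ hab
  rw [← hE] at hG hdvd
  have hEodd : ∀ h ∈ E, h * h = 1 → h = 1 := by
    intro h hh h2
    rw [← orderOf_eq_one_iff]
    exact Nat.eq_one_of_dvd_coprimes (Nat.coprime_two_left.2 hodd)
      (orderOf_dvd_of_pow_eq_one (by rw [pow_two]; exact h2)) (E.orderOf_dvd_natCard hh)
  have : Nontrivial E := (Subgroup.nontrivial_iff_ne_bot E).2 (pairStab_ne_bot hZ hab)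
  have hZE : IsZGroup E := ⟨fun p hp P => by
    have := Fact.mk hp
    refine (hfpf.isCyclic_or_quaternion (hF.ne_bot hZ hab) (P : Subgroup E) P.isPGroup').resolve_right ?_
    rintro ⟨-, n, -, ⟨e⟩⟩
    have h4 : 4 * 2 ^ n ∣ Nat.card E := by
      have := (P : Subgroup E).card_subgroup_dvd_card
      rwa [Nat.card_congr e.toEquiv, Nat.card_eq_fintype_card, QuaternionGroup.card] at this
    exact (Nat.not_even_iff_odd.2 hodd) (even_iff_two_dvd.2 ((Dvd.intro _ rfl).trans ((by
      exact ⟨2, by ring⟩ : 2 * 2 ^ n ∣ 4 * 2 ^ n).trans h4)))⟩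
  obtain ⟨s₀, hs₀a, hs₀b⟩ := exists_swap hZ hab
  have hswap : ∀ g : G, g • a = b → g • b = a → ∀ h ∈ E, g * h * g⁻¹ ∈ E := fun g hga hgb h hh => by
    have := conj_mem_pairStab hZ hga hgb hh
    rwa [pairStab_comm] at this
  have hD : ∀ g : G, (g ∈ E ∨ g • a = b ∧ g • b = a) → g * g ∈ E := by
    rintro g (hg | ⟨hga, hgb⟩)
    · exact mul_mem hg hg
    · exact mem_pairStab.2 ⟨by rw [mul_smul, hga, hgb], by rw [mul_smul, hgb, hga]⟩
  -- for every Sylow subgroup a normalising element acting non-trivially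
  have hQ : ∀ q : ℕ, ∀ [Fact q.Prime], ∀ P : Sylow q E, q ∣ Nat.card E →
      ∃ g ∈ Subgroup.normalizer (((P : Subgroup E).map E.subtype : Subgroup G) : Set G),
        (g ∈ E ∨ g • a = b ∧ g • b = a) ∧ ∃ x ∈ (P : Subgroup E), g * (x : G) * g⁻¹ ≠ x := by
    intro q hq P hqE
    set Q := (P : Subgroup E).map E.subtype with hQdef
    have hQ1 : Q ≠ ⊥ := fun h =>
      P.ne_bot_of_dvd_card hqE (((P : Subgroup E).map_eq_bot_iff_of_injective E.subtype_injective).1 h)
    have hcop : ¬ q ∣ Nat.card Ω * Nat.card F := by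
      have hq2 : q ≠ 2 := by rintro rfl; exact (Nat.not_even_iff_odd.2 hodd) (even_iff_two_dvd.2 hqE)
      have h1 := hqE.trans hdvd
      rw [Nat.Prime.dvd_mul hq.out]
      rintro (h | h)
      · have := Nat.dvd_sub h h1
        rw [show Nat.card Ω - (Nat.card F - 1) = 2 by
          have := Nat.card_pos (α := F); omega] at this
        exact hq2 ((Nat.prime_dvd_prime_iff_eq hq.out Nat.prime_two).1 this)
      · have := Nat.dvd_sub h h1
        rw [show Nat.card F - (Nat.card F - 1) = 1 by have := Nat.card_pos (α := F); omega] at this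
        exact hq.out.one_lt.ne' (Nat.dvd_one.1 this)
    have hcardQ : Nat.card Q = q ^ (Nat.card G).factorization q := by
      rw [hQdef, Subgroup.card_map_of_injective E.subtype_injective, P.card_eq_multiplicity, hG,
        ← mul_assoc, Nat.factorization_mul (Nat.mul_ne_zero Nat.card_pos.ne' Nat.card_pos.ne') Nat.card_pos.ne',
        Finsupp.add_apply, Nat.factorization_eq_zero_of_not_dvd hcop, zero_add]
    let PG : Sylow q G := Sylow.ofCard Q hcardQ
    by_contra! hno
    have hle : Subgroup.normalizer ((PG : Subgroup G) : Set G) ≤ Subgroup.centralizer ((PG : Subgroup G) : Set G) := by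
      intro g hg
      rw [Subgroup.mem_centralizer_iff]
      rintro _ ⟨x, hx, rfl⟩
      exact (mul_inv_eq_iff_eq_mul.1 (hno g hg (pair_of_normalizes hZ hab (Subgroup.map_subtype_le _) hQ1 hg) x hx)).symm
    refine hnil q hq.out hqE ⟨(MonoidHom.transferSylow PG hle).ker, inferInstance, ?_⟩
    have h := (MonoidHom.ker_transferSylow_isComplement' PG hle).symm.index_eq_card
    exact h.trans hcardQ
  -- the derived group
  let D := commutator E
  have hcopD : (Nat.card D).Coprime D.index := IsZGroup.coprime_commutator_index E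
  have caseA : ∀ q : ℕ, ∀ [Fact q.Prime], ∀ P : Sylow q E, q ∣ Nat.card E → ¬ q ∣ Nat.card D →
      ∃ t : G, t • a = b ∧ t • b = a ∧ ∀ x ∈ (P : Subgroup E), t * (x : G) * t⁻¹ = (x : G)⁻¹ := by
    intro q hq P hqE hqD
    obtain ⟨g, hgN, hg, x, hx, hne⟩ := hQ q P hqE
    have hPc : IsCyclic (P : Subgroup E) := hZE.isZGroup q hq.out P
    have hcent : ∀ y ∈ E, y ∈ Subgroup.normalizer (((P : Subgroup E).map E.subtype : Subgroup G) : Set G) →
        ∀ z ∈ (P : Subgroup E), y * (z : G) * y⁻¹ = z := by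
      intro y hy hyN z hz
      obtain ⟨w, hw, hwe⟩ := (Subgroup.mem_normalizer_iff.1 hyN _).1 (Subgroup.mem_map_of_mem E.subtype hz)
      have hmem : w * z⁻¹ ∈ D := by
        have e : w * z⁻¹ = ⁅(⟨y, hy⟩ : E), z⁆ := Subtype.ext (by
          rw [commutatorElement_def]
          simp only [Subgroup.coe_mul, Subgroup.coe_inv]
          rw [show (w : G) = y * z * y⁻¹ from hwe])
        rw [e]
        exact Subgroup.commutator_mem_commutator (Subgroup.mem_top _) (Subgroup.mem_top _)
      have h1 : w * z⁻¹ = 1 := by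
        rw [← orderOf_eq_one_iff]
        obtain ⟨j, hj⟩ := IsPGroup.iff_card.1 P.isPGroup'
        refine Nat.eq_one_of_dvd_coprimes ((hq.out.coprime_iff_not_dvd.2 hqD).pow_left j) ?_
          (D.orderOf_dvd_natCard hmem)
        rw [← hj]
        exact (P : Subgroup E).orderOf_dvd_natCard (mul_mem hw (inv_mem hz))
      rw [← show (w : G) = y * z * y⁻¹ from hwe, mul_inv_eq_one.1 h1]
    rcases hg with hgE | ⟨hga, hgb⟩
    · exact absurd (hcent g hgE hgN x hx) hne
    refine ⟨g, hga, hgb, ?_⟩
    obtain ⟨c, hc⟩ := hPc.exists_generator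
    obtain ⟨w, hw, hwe⟩ := (Subgroup.mem_normalizer_iff.1 hgN _).1 (Subgroup.mem_map_of_mem E.subtype c.2)
    obtain ⟨i, hi⟩ := Subgroup.mem_zpowers_iff.1 (hc ⟨w, hw⟩)
    have hgc : g * ((c : E) : G) * g⁻¹ = ((c : E) : G) ^ i := by
      rw [← show (w : G) = g * (c : E) * g⁻¹ from hwe, ← SubgroupClass.coe_zpow, ← SubgroupClass.coe_zpow, hi]
    have hgg := hcent (g * g) (hD g (Or.inr ⟨hga, hgb⟩)) (mul_mem hgN hgN) (c : E) c.2
    rw [show g * g * ((c : E) : G) * (g * g)⁻¹ = g * (g * (c : E) * g⁻¹) * g⁻¹ by group, hgc, ← conj_zpow,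
      hgc, ← zpow_mul] at hgg
    obtain ⟨j, hj⟩ := IsPGroup.iff_card.1 P.isPGroup'
    have hord : orderOf ((c : E) : G) = q ^ j := by
      rw [Subgroup.orderOf_coe, Subgroup.orderOf_coe, orderOf_eq_card_of_forall_mem_zpowers hc, hj]
    have hdiv : ((q : ℤ) ^ j) ∣ (i - 1) * (i + 1) := by
      have h0 : ((c : E) : G) ^ ((i - 1) * (i + 1)) = 1 := by
        rw [show (i - 1) * (i + 1) = i * i - 1 by ring, zpow_sub, hgg, zpow_one, mul_inv_cancel]
      have := orderOf_dvd_iff_zpow_eq_one.2 h0
      rwa [hord, Nat.cast_pow] at this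
    have hq2 : q ≠ 2 := by rintro rfl; exact (Nat.not_even_iff_odd.2 hodd) (even_iff_two_dvd.2 hqE)
    have hqi : Prime (q : ℤ) := Nat.prime_iff_prime_int.1 hq.out
    have hall : ∀ k : ℤ, i = k ∨ ((q : ℤ) ^ j) ∣ i - k →
        ∀ z ∈ (P : Subgroup E), g * (z : G) * g⁻¹ = (z : G) ^ k := by
      intro k hk z hz
      obtain ⟨l, hl⟩ := Subgroup.mem_zpowers_iff.1 (hc ⟨z, hz⟩)
      have hz' : (z : G) = ((c : E) : G) ^ l := by
        rw [← SubgroupClass.coe_zpow, ← SubgroupClass.coe_zpow, hl]
      have hck : ((c : E) : G) ^ i = ((c : E) : G) ^ k := by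
        rcases hk with rfl | hk
        · rfl
        · rw [zpow_eq_zpow_iff_modEq, hord, Nat.cast_pow, Int.modEq_iff_dvd]
          simpa using hk.neg_right
      rw [hz', ← conj_zpow, hgc, hck, ← zpow_mul, ← zpow_mul, mul_comm]
    intro z hz
    by_cases h : (q : ℤ) ∣ i - 1
    · -- then `g` would centralise
      refine absurd ?_ hne
      have hnot : ¬ (q : ℤ) ∣ i + 1 := fun h' => by
        have h2 := dvd_sub h' h
        rw [show i + 1 - (i - 1) = ((2 : ℕ) : ℤ) by ring] at h2
        exact hq2 ((Nat.prime_dvd_prime_iff_eq hq.out Nat.prime_two).1 (Int.natCast_dvd_natCast.1 h2))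
      have := hall 1 (Or.inr (hqi.pow_dvd_of_dvd_mul_right j hnot hdiv)) x hx
      rwa [zpow_one] at this
    · have := hall (-1) (Or.inr (by simpa using hqi.pow_dvd_of_dvd_mul_left j h hdiv)) z hz
      rwa [zpow_neg_one] at this
  -- inversion modulo the derived group
  have hmodD : ∀ s : G, s • a = b → s • b = a → ∀ h : E, ∀ hh : s * h * s⁻¹ ∈ E,
      (⟨s * h * s⁻¹, hh⟩ : E) * h ∈ D := by
    intro s hsa hsb
    let σ : E →* Abelianization E := MonoidHom.mk'
      (fun h => Abelianization.of ⟨s * h * s⁻¹, hswap s hsa hsb h h.2⟩ * Abelianization.of h) (fun x y => by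
        have e : (⟨s * ((x * y : E) : G) * s⁻¹, hswap s hsa hsb _ (x * y).2⟩ : E) =
            ⟨s * x * s⁻¹, hswap s hsa hsb x x.2⟩ * ⟨s * y * s⁻¹, hswap s hsa hsb y y.2⟩ :=
          Subtype.ext (by simp [mul_assoc])
        rw [e, map_mul, map_mul]
        exact mul_mul_mul_comm _ _ _ _)
    suffices hker : σ.ker = ⊤ by
      intro h hh
      have : h ∈ σ.ker := hker ▸ Subgroup.mem_top h
      show _ ∈ commutator E
      rw [← Abelianization.ker_of (G := E)]
      exact this
    rw [← Subgroup.index_eq_one]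
    by_contra hne
    obtain ⟨q, hq, hqd⟩ := Nat.exists_prime_and_dvd hne
    have := Fact.mk hq
    let P : Sylow q E := Classical.arbitrary _
    have hPle : (P : Subgroup E) ≤ σ.ker := by
      intro x hx
      rw [MonoidHom.mem_ker]
      by_cases hqD : q ∣ Nat.card D
      · have hqi : ¬ q ∣ D.index := fun h => hq.one_lt.ne'
          (Nat.eq_one_of_dvd_coprimes hcopD hqD h)
        have hxD : x ∈ D := by
          rw [← QuotientGroup.eq_one_iff, ← orderOf_eq_one_iff]
          obtain ⟨j, hj⟩ := IsPGroup.iff_card.1 P.isPGroup'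
          refine Nat.eq_one_of_dvd_coprimes ((hq.coprime_iff_not_dvd.2 hqi).pow_left j) ?_
            (by rw [Subgroup.index]; exact orderOf_dvd_natCard _)
          rw [← hj]
          exact (orderOf_map_dvd (QuotientGroup.mk' D) x).trans ((P : Subgroup E).orderOf_dvd_natCard hx)
        have hsD : (⟨s * x * s⁻¹, hswap s hsa hsb x x.2⟩ : E) ∈ D := by
          let θ : E ≃* E :=
            { toFun := fun h => ⟨s * h * s⁻¹, hswap s hsa hsb h h.2⟩
              invFun := fun h => ⟨s⁻¹ * h * s, by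
                have h' := hswap s⁻¹ (by rw [inv_smul_eq_iff, hsb]) (by rw [inv_smul_eq_iff, hsa]) h h.2
                rwa [inv_inv] at h'⟩
              left_inv := fun h => Subtype.ext (by simp [mul_assoc])
              right_inv := fun h => Subtype.ext (by simp [mul_assoc])
              map_mul' := fun x y => Subtype.ext (by simp [mul_assoc]) }
          have hc : D.map θ.toMonoidHom = D := Subgroup.characteristic_iff_map_eq.1 inferInstance θ
          rw [← hc]
          exact ⟨x, hxD, rfl⟩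
        show Abelianization.of _ * Abelianization.of x = 1
        rw [MonoidHom.mem_ker.1 (Abelianization.ker_of (G := E) ▸ hsD),
          MonoidHom.mem_ker.1 (Abelianization.ker_of (G := E) ▸ hxD), one_mul]
      · obtain ⟨t, hta, htb, hinv⟩ := caseA q P (hqd.trans σ.ker.index_dvd_card) hqD
        have hh : s * t⁻¹ ∈ E := mem_pairStab.2 ⟨by rw [mul_smul, show t⁻¹ • a = b by rw [inv_smul_eq_iff, htb], hsb],
          by rw [mul_smul, show t⁻¹ • b = a by rw [inv_smul_eq_iff, hta], hsa]⟩
        show Abelianization.of _ * Abelianization.of x = 1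
        have e : (⟨s * x * s⁻¹, hswap s hsa hsb x x.2⟩ : E) = ⟨s * t⁻¹, hh⟩ * x⁻¹ * ⟨s * t⁻¹, hh⟩⁻¹ :=
          Subtype.ext (by
            show s * (x : G) * s⁻¹ = s * t⁻¹ * (x : G)⁻¹ * (s * t⁻¹)⁻¹
            rw [← hinv x hx]; group)
        rw [e, map_mul, map_mul, map_inv, map_inv, mul_inv_cancel_comm, inv_mul_cancel]
    exact P.not_dvd_index (hqd.trans (Subgroup.index_dvd_of_le hPle))
  -- the derived group is trivial
  have hDbot : D = ⊥ := by
    have hcyc : IsCyclic D := IsZGroup.isCyclic_commutator E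
    obtain ⟨c, hc⟩ := hcyc.exists_generator
    have hcen : D ≤ Subgroup.center E := by
      have hk : ∀ h : E, h * (c : E) * h⁻¹ = c := by
        intro h
        have key : ∀ (g g' : E) (i i' : ℤ), g * (c : E) * g⁻¹ = (c : E) ^ i → g' * (c : E) * g'⁻¹ = (c : E) ^ i' →
            g * g' * (c : E) * (g * g')⁻¹ = (c : E) ^ (i * i') := by
          intro g g' i i' hg hg'
          rw [show g * g' * (c : E) * (g * g')⁻¹ = g * (g' * c * g'⁻¹) * g⁻¹ by group, hg', ← conj_zpow, hg,
            ← zpow_mul]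
        have hex : ∀ g : E, ∃ i : ℤ, g * (c : E) * g⁻¹ = (c : E) ^ i := fun g => by
          obtain ⟨i, hi⟩ := Subgroup.mem_zpowers_iff.1
            (hc ⟨g * c * g⁻¹, (inferInstance : D.Normal).conj_mem _ c.2 g⟩)
          exact ⟨i, (congrArg Subtype.val hi).symm.trans (SubgroupClass.coe_zpow c i)⟩
        have hcenD : ∀ g ∈ D, g * (c : E) * g⁻¹ = c := by
          intro g hg
          obtain ⟨i, hi⟩ := Subgroup.mem_zpowers_iff.1 (hc ⟨g, hg⟩)
          rw [show g = (c : E) ^ i from (congrArg Subtype.val hi).symm.trans (SubgroupClass.coe_zpow c i)]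
          group
        have hsh := hswap s₀ hs₀a hs₀b h h.2
        set h' : E := ⟨s₀ * h * s₀⁻¹, hsh⟩ with hh'
        have hd := hmodD s₀ hs₀a hs₀b h hsh
        -- conjugation by `s₀` respects exponents
        obtain ⟨i, hi⟩ := hex h
        have hs : h' * (c : E) * h'⁻¹ = (c : E) ^ i := by
          obtain ⟨l, hl⟩ : ∃ l : ℤ, s₀⁻¹ * ((c : E) : G) * s₀ = ((c : E) : G) ^ l := by
            have hsi := hswap s₀⁻¹ (by rw [inv_smul_eq_iff, hs₀b]) (by rw [inv_smul_eq_iff, hs₀a]) _ (c : E).2
            rw [inv_inv] at hsi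
            let θ : E ≃* E :=
              { toFun := fun h => ⟨s₀⁻¹ * h * s₀, by
                  have h' := hswap s₀⁻¹ (by rw [inv_smul_eq_iff, hs₀b]) (by rw [inv_smul_eq_iff, hs₀a]) h h.2
                  rwa [inv_inv] at h'⟩
                invFun := fun h => ⟨s₀ * h * s₀⁻¹, hswap s₀ hs₀a hs₀b h h.2⟩
                left_inv := fun h => Subtype.ext (by simp [mul_assoc])
                right_inv := fun h => Subtype.ext (by simp [mul_assoc])
                map_mul' := fun x y => Subtype.ext (by simp [mul_assoc]) }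
            have hm : θ c ∈ D := by
              exact (Subgroup.characteristic_iff_map_eq.1 inferInstance θ : D.map θ.toMonoidHom = D).le
                ⟨c, c.2, rfl⟩
            obtain ⟨l, hl⟩ := Subgroup.mem_zpowers_iff.1 (hc ⟨θ c, hm⟩)
            refine ⟨l, ?_⟩
            rw [← SubgroupClass.coe_zpow]
            exact congrArg Subtype.val ((congrArg Subtype.val hl).symm.trans (SubgroupClass.coe_zpow c l))
          refine Subtype.ext ?_
          have hi' : (h : G) * (c : E) * (h : G)⁻¹ = ((c : E) : G) ^ i :=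
            (congrArg Subtype.val hi).trans (SubgroupClass.coe_zpow _ _)
          show s₀ * (h : G) * s₀⁻¹ * (c : E) * (s₀ * (h : G) * s₀⁻¹)⁻¹ = ((c : E) ^ i : E)
          rw [SubgroupClass.coe_zpow]
          calc s₀ * (h : G) * s₀⁻¹ * (c : E) * (s₀ * (h : G) * s₀⁻¹)⁻¹
              = s₀ * ((h : G) * (s₀⁻¹ * (c : E) * s₀) * (h : G)⁻¹) * s₀⁻¹ := by group
            _ = s₀ * (((c : E) : G) ^ i) ^ l * s₀⁻¹ := by rw [hl, ← conj_zpow, hi']
            _ = (s₀ * (((c : E) : G) ^ l) * s₀⁻¹) ^ i := by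
              rw [← zpow_mul, mul_comm, zpow_mul, conj_zpow]
            _ = ((c : E) : G) ^ i := by
              rw [← hl]
              congr 1
              group
        have h1 := hcenD _ hd
        rw [key h' h i i hs hi] at h1
        have h2 := key h h i i hi hi
        rw [h1] at h2
        -- an element of odd order
        have hstep : ∀ k : ℕ, (h * h) ^ k * (c : E) * ((h * h) ^ k)⁻¹ = c := by
          intro k
          induction k with
          | zero => simp
          | succ k ih =>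
            rw [pow_succ, show (h * h) ^ k * (h * h) * (c : E) * ((h * h) ^ k * (h * h))⁻¹ =
              (h * h) ^ k * (h * h * c * (h * h)⁻¹) * ((h * h) ^ k)⁻¹ by group, h2, ih]
        obtain ⟨k, hk⟩ : ∃ k : ℕ, (h * h) ^ k = h := by
          obtain ⟨r, hr⟩ := hodd
          refine ⟨r + 1, ?_⟩
          rw [← pow_two, ← pow_mul, show 2 * (r + 1) = Nat.card E + 1 by omega, pow_succ, pow_card_eq_one',
            one_mul]
        have := hstep k
        rwa [hk] at this
      intro z hz
      obtain ⟨i, hi⟩ := Subgroup.mem_zpowers_iff.1 (hc ⟨z, hz⟩)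
      rw [Subgroup.mem_center_iff]
      intro h
      rw [show z = (c : E) ^ i from (congrArg Subtype.val hi).symm.trans (SubgroupClass.coe_zpow c i)]
      exact (Commute.zpow_right (mul_inv_eq_iff_eq_mul.1 (hk h)) i).eq
    have : IsCyclic (E ⧸ D) := IsZGroup.isCyclic_abelianization (G := E)
    have hab' : ∀ x y : E, x * y = y * x := fun x y =>
      commutative_of_cyclic_center_quotient (QuotientGroup.mk' D) (by rw [QuotientGroup.ker_mk']; exact hcen) x y
    rw [eq_bot_iff]
    show commutator E ≤ ⊥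
    rw [commutator_eq_closure, Subgroup.closure_le]
    rintro _ ⟨x, y, rfl⟩
    exact Subgroup.mem_bot.2 (commutatorElement_eq_one_iff_mul_comm.2 (hab' x y))
  have hcomm : ∀ x y : E, x * y = y * x := fun x y => by
    rw [← commutatorElement_eq_one_iff_mul_comm, ← Subgroup.mem_bot, ← hDbot]
    exact Subgroup.commutator_mem_commutator (Subgroup.mem_top _) (Subgroup.mem_top _)
  have hinvert : ∀ s : G, s • a = b → s • b = a → ∀ h ∈ E, s * h * s⁻¹ = h⁻¹ := by
    intro s hsa hsb h hh
    have := hmodD s hsa hsb ⟨h, hh⟩ (hswap s hsa hsb h hh)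
    rw [hDbot, Subgroup.mem_bot] at this
    exact eq_inv_of_mul_eq_one_left (congrArg Subtype.val this)
  have : IsMulCommutative E := ⟨⟨hcomm⟩⟩
  refine ⟨hfpf.isCyclic_of_comm (hF.ne_bot hZ hab), le_antisymm (fun g hg => ?_) fun g hg => ?_, hinvert⟩
  · have hgN : g ∈ Subgroup.normalizer (E : Set G) := Subgroup.centralizer_le_normalizer _ hg
    refine (pair_of_normalizes hZ hab le_rfl (pairStab_ne_bot hZ hab) hgN).resolve_right ?_
    rintro ⟨hga, hgb⟩
    obtain ⟨h, hh, hh1⟩ := (Subgroup.bot_or_exists_ne_one E).resolve_left (pairStab_ne_bot hZ hab)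
    have e := hinvert g hga hgb h hh
    rw [← Subgroup.mem_centralizer_iff.1 hg h hh, mul_inv_cancel_right] at e
    exact hh1 (hEodd h hh (mul_eq_one_iff_eq_inv.2 e))
  · exact Subgroup.mem_centralizer_iff.2 fun x hx => congrArg Subtype.val (hcomm ⟨x, hx⟩ ⟨g, hg⟩)

end CfsgLib.Perm.ZassG
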