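import Cfsg.Agent.Lib.Perm.ZassenhausInv
import Cfsg.Agent.Lib.Base.FrobeniusConj
import Cfsg.Agent.Lib.Base.ThompsonFPF

/-!
Finite Zassenhaus groups: the kernel of a point stabiliser, the unique involution of a two-point
stabiliser and the bound `n - 1 ≤ 2 e` for `e` even.
-/

open MulAction
open CfsgLib.Base (IsFPF)

namespace CfsgLib.Perm.ZassG

variable {G Ω : Type*} [Group G] [MulAction G Ω]

/-- The stabiliser of two points. -/
abbrev pairStab (G : Type*) {Ω : Type*} [Group G] [MulAction G Ω] (a b : Ω) : Subgroup G :=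
  stabilizer G a ⊓ stabilizer G b

/-- A normal subgroup of a point stabiliser, regular on the remaining points. -/
structure IsKernel (a : Ω) (F : Subgroup G) : Prop where
  le : F ≤ stabilizer G a
  normal : ∀ g ∈ stabilizer G a, ∀ u ∈ F, g * u * g⁻¹ ∈ F
  regular : ∀ y z : Ω, y ≠ a → z ≠ a → ∃! u : F, (u : G) • y = z

theorem isKernel_of_subgroupOf {a : Ω} {F : Subgroup G} (hle : F ≤ stabilizer G a)
    (hn : (F.subgroupOf (stabilizer G a)).Normal)
    (hreg : ∀ y z : Ω, y ≠ a → z ≠ a → ∃! u : F, (u : G) • y = z) : IsKernel a F :=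
  ⟨hle, fun g hg u hu => hn.conj_mem ⟨u, hle hu⟩ (Subgroup.mem_subgroupOf.2 hu) ⟨g, hg⟩, hreg⟩

theorem mem_pairStab {a b : Ω} {g : G} : g ∈ pairStab G a b ↔ g • a = a ∧ g • b = b := Iff.rfl

theorem pairStab_comm (a b : Ω) : pairStab G a b = pairStab G b a := inf_comm _ _

section

variable (hZ : Cfsg.IsZassenhausGroup G Ω)
include hZ

theorem eq_one_of_three {g : G} {a b c : Ω} (hab : a ≠ b) (hbc : b ≠ c) (hac : a ≠ c)
    (ha : g • a = a) (hb : g • b = b) (hc : g • c = c) : g = 1 :=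
  hZ.2.2.1 g a b c hab hbc hac ha hb hc

theorem fixed_eq {g : G} {a b c : Ω} (hab : a ≠ b) (hg : g ∈ pairStab G a b) (hg1 : g ≠ 1)
    (hc : g • c = c) : c = a ∨ c = b := by
  by_contra h
  push Not at h
  exact hg1 (eq_one_of_three hZ hab h.2.symm h.1.symm hg.1 hg.2 hc)

theorem exists_move (a b c d : Ω) (hab : a ≠ b) (hcd : c ≠ d) :
    ∃ g : G, g • a = c ∧ g • b = d :=
  is_two_pretransitive_iff.1 hZ.2.1 hab hcd

theorem exists_move_one (a c : Ω) {b : Ω} (hab : a ≠ b) : ∃ g : G, g • a = c := by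
  rcases eq_or_ne c a with rfl | hca
  · exact ⟨1, one_smul G c⟩
  · obtain ⟨g, hg, -⟩ := exists_move hZ a b c a hab hca
    exact ⟨g, hg⟩

theorem conj_mem_pairStab {a b c d : Ω} {g h : G} (hga : g • a = c) (hgb : g • b = d)
    (hh : h ∈ pairStab G a b) : g * h * g⁻¹ ∈ pairStab G c d :=
  mem_pairStab.2 ⟨by rw [← hga, mul_smul, mul_smul, inv_smul_smul, mem_stabilizer_iff.1 hh.1],
   by rw [← hgb, mul_smul, mul_smul, inv_smul_smul, mem_stabilizer_iff.1 hh.2]⟩

theorem pairStab_ne_bot {a b : Ω} (hab : a ≠ b) : pairStab G a b ≠ ⊥ := by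
  obtain ⟨g, hg1, c, d, hcd, hc, hd⟩ := hZ.2.2.2.1
  obtain ⟨k, hk1, hk2⟩ := exists_move hZ c d a b hcd hab
  intro h
  have hm := conj_mem_pairStab hZ hk1 hk2 (show g ∈ pairStab G c d from ⟨hc, hd⟩)
  rw [h, Subgroup.mem_bot] at hm
  exact hg1 (conj_eq_one_iff.1 hm)

theorem exists_third {a b : Ω} (hab : a ≠ b) : ∃ c : Ω, c ≠ a ∧ c ≠ b := by
  by_contra! h
  refine pairStab_ne_bot hZ hab (eq_bot_iff.2 fun g hg => Subgroup.mem_bot.2 ?_)
  have := hZ.1
  refine eq_of_smul_eq_smul (α := Ω) fun x => ?_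
  rw [one_smul]
  rcases em (x = a) with rfl | hx
  · exact hg.1
  · rw [h x hx]; exact hg.2

theorem exists_stab_move (a : Ω) {b c : Ω} (hb : b ≠ a) (hc : c ≠ a) :
    ∃ g : G, g ∈ stabilizer G a ∧ g • b = c :=
  let ⟨g, h1, h2⟩ := exists_move hZ a b a c hb.symm hc.symm
  ⟨g, h1, h2⟩

theorem exists_swap {a b : Ω} (hab : a ≠ b) : ∃ s : G, s • a = b ∧ s • b = a :=
  exists_move hZ a b b a hab hab.symm

theorem isFrobeniusComplement_pairStab {a b : Ω} (hab : a ≠ b) :
    Cfsg.IsFrobeniusComplement ((pairStab G a b).subgroupOf (stabilizer G a)) := by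
  refine ⟨fun h => pairStab_ne_bot hZ hab ?_, fun h => ?_, fun g hg => ?_⟩
  · rw [Subgroup.subgroupOf_eq_bot] at h
    exact le_antisymm (fun x hx => h.le_bot ⟨hx, hx.1⟩) bot_le
  · rw [Subgroup.subgroupOf_eq_top] at h
    obtain ⟨c, hca, hcb⟩ := exists_third hZ hab
    obtain ⟨g, hg, hgc⟩ := exists_stab_move hZ a hab.symm hca
    exact hcb (hgc ▸ (h hg).2)
  · rw [Subgroup.eq_bot_iff_forall]
    intro x hx
    obtain ⟨hx1, hx2⟩ := Subgroup.mem_inf.1 hx
    rw [Subgroup.mem_pointwise_smul_iff_inv_smul_mem, ← map_inv, MulAut.smul_def, MulAut.conj_apply,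
      inv_inv, Subgroup.mem_subgroupOf] at hx2
    by_contra hne
    have hgb : (g : G) • b ≠ b := fun e => hg ⟨g.2, e⟩
    have hfix : (x : G) • ((g : G) • b) = (g : G) • b := by
      have h := mem_stabilizer_iff.1 hx2.2
      rw [Subgroup.coe_mul, Subgroup.coe_mul, Subgroup.coe_inv, mul_smul, mul_smul, inv_smul_eq_iff] at h
      exact h
    rcases fixed_eq hZ hab hx1 (fun e => hne (Subtype.ext e)) hfix with h | h
    · exact hab ((smul_left_cancel _ (h.trans g.2.symm))).symm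
    · exact hgb h

variable [Finite G]

theorem exists_kernel {a b : Ω} (hab : a ≠ b) : ∃ F : Subgroup G, IsKernel a F := by
  obtain ⟨N, -, hN, hc, -, -⟩ :=
    CfsgLib.Base.Frobenius.exists_isFPF (isFrobeniusComplement_pairStab hZ hab)
  set F := N.map (stabilizer G a).subtype with hF
  have hle : F ≤ stabilizer G a := Subgroup.map_subtype_le N
  have hnorm : ∀ g ∈ stabilizer G a, ∀ u ∈ F, g * u * g⁻¹ ∈ F := by
    rintro g hg _ ⟨u, hu, rfl⟩
    exact ⟨⟨g, hg⟩ * u * ⟨g, hg⟩⁻¹, hN.conj_mem u hu ⟨g, hg⟩, rfl⟩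
  refine ⟨F, hle, hnorm, ?_⟩
  have trans_b : ∀ z, z ≠ a → ∃ u ∈ F, u • b = z := by
    intro z hz
    obtain ⟨g, hg, hgb⟩ := exists_stab_move hZ a hab.symm hz
    obtain ⟨⟨⟨u, hu⟩, ⟨h, hh⟩⟩, he⟩ := hc.2 ⟨g, hg⟩
    refine ⟨u, ⟨u, hu, rfl⟩, ?_⟩
    rw [← hgb, show g = (u : G) * (h : G) from (congrArg Subtype.val he).symm, mul_smul]
    exact congrArg _ (mem_stabilizer_iff.1 (Subgroup.mem_subgroupOf.1 hh).2).symm
  have free_b : ∀ u ∈ F, u • b = b → u = 1 := by
    rintro _ ⟨u, hu, rfl⟩ hub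
    have : u ∈ (pairStab G a b).subgroupOf (stabilizer G a) := Subgroup.mem_subgroupOf.2 ⟨u.2, hub⟩
    rw [Subgroup.disjoint_def.1 hc.disjoint hu this, map_one]
  intro y z hy hz
  obtain ⟨v, hv, rfl⟩ := trans_b y hy
  obtain ⟨w, hw, rfl⟩ := trans_b z hz
  refine ⟨⟨w * v⁻¹, mul_mem hw (inv_mem hv)⟩, by simp [← mul_smul], ?_⟩
  rintro ⟨u, hu⟩ huv
  refine Subtype.ext (eq_mul_inv_iff_mul_eq.2 (inv_mul_eq_one.1 (free_b _ (mul_mem (inv_mem hw) (mul_mem hu hv)) ?_)).symm)
  rw [mul_smul, mul_smul]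
  exact inv_smul_eq_iff.2 huv

end

namespace IsKernel

variable (hZ : Cfsg.IsZassenhausGroup G Ω) {a b : Ω} {F : Subgroup G} (hF : IsKernel a F) (hab : a ≠ b)
include hF

theorem eq_one_of_fix {u : G} (hu : u ∈ F) {c : Ω} (hc : c ≠ a) (h : u • c = c) : u = 1 := by
  obtain ⟨w, -, huniq⟩ := hF.regular c c hc hc
  exact congrArg Subtype.val ((huniq ⟨u, hu⟩ h).trans (huniq 1 (one_smul G c)).symm)

theorem smul_ne {u : G} (hu : u ∈ F) {c : Ω} (hc : c ≠ a) : u • c ≠ a := fun h =>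
  hc (smul_left_cancel u (h.trans (mem_stabilizer_iff.1 (hF.le hu)).symm))

include hab

theorem inf_eq_bot : F ⊓ pairStab G a b = ⊥ :=
  eq_bot_iff.2 fun _ hu => Subgroup.mem_bot.2 (hF.eq_one_of_fix hu.1 hab.symm hu.2.2)

theorem exists_decomp {g : G} (hg : g ∈ stabilizer G a) :
    ∃ u ∈ F, ∃ h ∈ pairStab G a b, g = u * h := by
  have hgb : g • b ≠ a := fun h => hab (smul_left_cancel g (hg.trans h.symm))
  obtain ⟨⟨u, hu⟩, hub, -⟩ := hF.regular b (g • b) hab.symm hgb
  exact ⟨u, hu, u⁻¹ * g, mem_pairStab.2 ⟨(mul_mem (inv_mem (hF.le hu)) hg : u⁻¹ * g ∈ stabilizer G a), by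
    rw [mul_smul, inv_smul_eq_iff]; exact hub.symm⟩, (mul_inv_cancel_left u g).symm⟩

omit hab in
theorem card_add_one [Finite Ω] {b : Ω} (hab : a ≠ b) : Nat.card F + 1 = Nat.card Ω := by
  classical
  have e : F ≃ {c : Ω // c ≠ a} := Equiv.ofBijective (fun u => ⟨(u : G) • b, hF.smul_ne u.2 hab.symm⟩)
    ⟨fun u v h => (hF.regular b _ hab.symm (hF.smul_ne v.2 hab.symm)).unique
        (congrArg Subtype.val h) rfl,
      fun c => by
        obtain ⟨u, hu, -⟩ := hF.regular b c hab.symm c.2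
        exact ⟨u, Subtype.ext hu⟩⟩
  have := Fintype.ofFinite Ω
  rw [Nat.card_congr e, Nat.card_eq_fintype_card, Fintype.card_subtype_compl, Fintype.card_subtype_eq,
    Nat.card_eq_fintype_card]
  have : 0 < Fintype.card Ω := Fintype.card_pos_iff.2 ⟨a⟩
  omega

include hZ

theorem isFPF : IsFPF (pairStab G a b) F := by
  refine ⟨fun h hh => ?_, fun h hh hh1 => eq_bot_iff.2 fun u hu => Subgroup.mem_bot.2 ?_⟩
  · rw [Subgroup.mem_normalizer_iff]
    refine fun u => ⟨fun hu => hF.normal h hh.1 u hu, fun hu => ?_⟩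
    simpa [mul_assoc] using hF.normal h⁻¹ (inv_mem hh.1) _ hu
  · obtain ⟨huF, huc⟩ := hu
    have hcomm : h * u = u * h := Subgroup.mem_centralizer_iff.1 huc h rfl
    have hfix : h • (u • b) = u • b := by
      rw [← mul_smul, hcomm, mul_smul, mem_stabilizer_iff.1 hh.2]
    rcases fixed_eq hZ hab hh hh1 hfix with e | e
    · exact absurd e (hF.smul_ne huF hab.symm)
    · exact hF.eq_one_of_fix huF hab.symm e

theorem ne_bot : F ≠ ⊥ := by
  intro h
  obtain ⟨c, hca, hcb⟩ := exists_third hZ hab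
  obtain ⟨⟨u, hu⟩, huc, -⟩ := hF.regular b c hab.symm hca
  rw [h, Subgroup.mem_bot] at hu
  subst hu
  exact hcb ((one_smul G b).symm.trans huc).symm

theorem card_stabilizer : Nat.card (stabilizer G a) = Nat.card F * Nat.card (pairStab G a b) := by
  rw [← Nat.card_prod]
  refine (Nat.card_congr (Equiv.ofBijective
    (fun p : F × pairStab G a b => (⟨p.1 * p.2, mul_mem (hF.le p.1.2) p.2.2.1⟩ : stabilizer G a)) ⟨?_, ?_⟩)).symm
  · intro p q h
    have h' : (p.1 : G) * p.2 = q.1 * q.2 := congrArg Subtype.val h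
    have hb : (p.1 : G) • b = (q.1 : G) • b := by
      have := congrArg (· • b) h'
      simpa only [mul_smul, mem_stabilizer_iff.1 p.2.2.2, mem_stabilizer_iff.1 q.2.2.2] using this
    have hu : p.1 = q.1 := (hF.regular b _ hab.symm (hF.smul_ne q.1.2 hab.symm)).unique hb rfl
    exact Prod.ext hu (Subtype.ext (mul_left_cancel (hu ▸ h' : (q.1 : G) * p.2 = q.1 * q.2)))
  · intro g
    obtain ⟨u, hu, h, hh, he⟩ := hF.exists_decomp hab g.2
    exact ⟨(⟨u, hu⟩, ⟨h, hh⟩), Subtype.ext he.symm⟩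

theorem card_group [Finite G] [Finite Ω] :
    Nat.card G = Nat.card Ω * (Nat.card F * Nat.card (pairStab G a b)) := by
  have := Fintype.ofFinite Ω
  have : IsPretransitive G Ω := ⟨fun x y => by
    rcases eq_or_ne x a with rfl | hx
    · exact exists_move_one hZ x y hab
    · exact exists_move_one hZ x y hx⟩
  rw [← hF.card_stabilizer hZ hab, ← (stabilizer G a).card_mul_index, index_stabilizer_of_transitive,
    mul_comm]

variable [Finite G]

theorem isNilpotent : Group.IsNilpotent F := (hF.isFPF hZ hab).isNilpotent (pairStab_ne_bot hZ hab)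

theorem card_pairStab_dvd : Nat.card (pairStab G a b) ∣ Nat.card F - 1 := (hF.isFPF hZ hab).card_dvd

/-- An invariant non-trivial subgroup of the kernel is everything when `n - 1 ≤ 2 e`. -/
theorem eq_top_of_invariant (hd : Nat.card F - 1 ≤ 2 * Nat.card (pairStab G a b)) {A : Subgroup G}
    (hA : A ≤ F) (hA1 : A ≠ ⊥) (hinv : ∀ h ∈ pairStab G a b, ∀ u ∈ A, h * u * h⁻¹ ∈ A) : A = F := by
  have hn : pairStab G a b ≤ Subgroup.normalizer (A : Set G) := fun h hh => by
    rw [Subgroup.mem_normalizer_iff]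
    refine fun u => ⟨fun hu => hinv h hh u hu, fun hu => ?_⟩
    simpa [mul_assoc] using hinv h⁻¹ (inv_mem hh) _ hu
  have hdvd := ((hF.isFPF hZ hab).mono_right hA hn).card_dvd
  have h1 : 1 < Nat.card A := (Subgroup.one_lt_card_iff_ne_bot A).2 hA1
  have hle := Nat.le_of_dvd (by omega) hdvd
  refine Subgroup.eq_of_le_of_card_ge hA ?_
  obtain ⟨k, hk⟩ := Subgroup.card_dvd_of_le hA
  rcases Nat.lt_or_ge k 2 with hk2 | hk2
  · interval_cases k
    · exact absurd (hk.trans (mul_zero _)) Nat.card_pos.ne'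
    · rw [hk, mul_one]
  · have := Nat.mul_le_mul_left (Nat.card A) hk2
    omega

/-- The kernel is elementary abelian when `n - 1 ≤ 2 e`. -/
theorem elementary (hd : Nat.card F - 1 ≤ 2 * Nat.card (pairStab G a b)) :
    IsMulCommutative F ∧ ∃ p f : ℕ, p.Prime ∧ 0 < f ∧ (∀ u ∈ F, u ^ p = 1) ∧ Nat.card F = p ^ f := by
  have : Nontrivial F := (Subgroup.nontrivial_iff_ne_bot F).2 (hF.ne_bot hZ hab)
  have hnil := hF.isNilpotent hZ hab
  have hconj : ∀ h ∈ pairStab G a b, ∀ u : F, h * u * h⁻¹ ∈ F := fun h hh u => hF.normal h hh.1 u u.2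
  let cj : ∀ h ∈ pairStab G a b, MulAut F := fun h hh =>
    { toFun := fun u => ⟨h * u * h⁻¹, hconj h hh u⟩
      invFun := fun u => ⟨h⁻¹ * u * h, by simpa using hconj h⁻¹ (inv_mem hh) u⟩
      left_inv := fun u => Subtype.ext (by simp [mul_assoc])
      right_inv := fun u => Subtype.ext (by simp [mul_assoc])
      map_mul' := fun u v => Subtype.ext (by simp [mul_assoc]) }
  have key : ∀ C : Subgroup F, C ≠ ⊥ →
      (∀ σ : MulAut F, ∀ u ∈ C, σ u ∈ C) → C = ⊤ := by
    intro C hC hchar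
    have h := hF.eq_top_of_invariant hZ hab hd (Subgroup.map_subtype_le C)
      (fun e => hC ((C.map_eq_bot_iff_of_injective F.subtype_injective).1 e)) (by
      rintro h hh _ ⟨u, hu, rfl⟩
      exact ⟨cj h hh u, hchar _ u hu, rfl⟩)
    exact Subgroup.map_injective F.subtype_injective (h.trans (F.range_subtype.symm.trans
      (MonoidHom.range_eq_map _)))
  have hcen : Subgroup.center F = ⊤ := key _ (Group.IsNilpotent.center_ne_bot F) fun σ u hu => by
    rw [Subgroup.mem_center_iff] at hu ⊢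
    intro w
    obtain ⟨w, rfl⟩ := σ.surjective w
    rw [← map_mul, ← map_mul, hu w]
  have hcomm : ∀ u v : F, u * v = v * u := fun u v =>
    Subgroup.mem_center_iff.1 (hcen ▸ Subgroup.mem_top v) u
  obtain ⟨p, hp, hpd⟩ := Nat.exists_prime_and_dvd (Finite.one_lt_card (α := F)).ne'
  have := Fact.mk hp
  obtain ⟨w, hw⟩ := exists_prime_orderOf_dvd_card' p hpd
  let C : Subgroup F :=
    { carrier := {u | u ^ p = 1}
      one_mem' := one_pow p
      mul_mem' := fun {x y} (hx : x ^ p = 1) (hy : y ^ p = 1) => by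
        show (x * y) ^ p = 1
        rw [(Commute.mul_pow (hcomm x y) p), hx, hy, one_mul]
      inv_mem' := fun {x} (hx : x ^ p = 1) => by
        show x⁻¹ ^ p = 1
        rw [inv_pow, hx, inv_one] }
  have hCtop : C = ⊤ := key C (fun e => by
      have : w ∈ C := show w ^ p = 1 from hw ▸ pow_orderOf_eq_one w
      rw [e, Subgroup.mem_bot] at this
      rw [this, orderOf_one] at hw
      exact hp.one_lt.ne hw)
    fun σ u (hu : u ^ p = 1) => show σ u ^ p = 1 by rw [← map_pow, hu, map_one]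
  have hexp : ∀ u : F, u ^ p = 1 := fun u => (hCtop ▸ Subgroup.mem_top u : u ∈ C)
  obtain ⟨f, hf⟩ := IsPGroup.iff_card.1 (fun u : F => ⟨1, by rw [pow_one]; exact hexp u⟩ : IsPGroup p F)
  refine ⟨⟨⟨hcomm⟩⟩, p, f, hp, Nat.pos_of_ne_zero ?_, fun u hu => congrArg Subtype.val (hexp ⟨u, hu⟩), hf⟩
  rintro rfl
  exact (Finite.one_lt_card (α := F)).ne' (hf.trans (pow_zero p))

end IsKernel

section involution

variable [Finite G] [Finite Ω] (hZ : Cfsg.IsZassenhausGroup G Ω) {a b : Ω} (hab : a ≠ b)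
include hZ hab

theorem unique_involution {y z : G} (hy : y ∈ pairStab G a b) (hy1 : y ≠ 1) (hy2 : y * y = 1)
    (hz : z ∈ pairStab G a b) (hz1 : z ≠ 1) (hz2 : z * z = 1) : y = z := by
  obtain ⟨F, hF⟩ := exists_kernel hZ hab
  exact (hF.isFPF hZ hab).involution_unique (hF.ne_bot hZ hab) hy hy1 hy2 hz hz1 hz2

theorem card_swappers {s : G} (hsa : s • a = b) (hsb : s • b = a) :
    Nat.card {t : G // t • a = b ∧ t • b = a} = Nat.card (pairStab G a b) := by
  refine Nat.card_congr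
    { toFun := fun t => ⟨s⁻¹ * t.1, mem_pairStab.2 ⟨?_, ?_⟩⟩
      invFun := fun h => ⟨s * h, by rw [mul_smul, mem_stabilizer_iff.1 h.2.1, hsa],
        by rw [mul_smul, mem_stabilizer_iff.1 h.2.2, hsb]⟩
      left_inv := fun t => Subtype.ext (mul_inv_cancel_left s t.1)
      right_inv := fun h => Subtype.ext (inv_mul_cancel_left s (h : G)) }
  · rw [mul_smul, t.2.1, inv_smul_eq_iff, hsa]
  · rw [mul_smul, t.2.2, inv_smul_eq_iff, hsb]

/-- For even `e` one has `n - 1 ≤ 2 e`; in case of equality every element interchanging the two points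
is an involution. -/
theorem even_bound (he : 2 ∣ Nat.card (pairStab G a b)) :
    Nat.card Ω - 2 ≤ 2 * Nat.card (pairStab G a b) ∧
      (Nat.card Ω - 2 = 2 * Nat.card (pairStab G a b) → ∀ t : G, t • a = b → t • b = a →
        t * t = 1 ∧ ∃ c : Ω, c ≠ a ∧ c ≠ b ∧ t • c = c) := by
  classical
  have := Fintype.ofFinite Ω
  have := Fintype.ofFinite G
  have : Fact (Nat.Prime 2) := ⟨Nat.prime_two⟩
  obtain ⟨w, hw⟩ := exists_prime_orderOf_dvd_card' 2 he
  set z : G := (w : G)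
  have hzo : orderOf z = 2 := (Subgroup.orderOf_coe w).trans hw
  have hz1 : z ≠ 1 := fun e => by rw [e, orderOf_one] at hzo; omega
  have hz2 : z * z = 1 := by rw [← pow_two, ← hzo, pow_orderOf_eq_one]
  have hz : z ∈ pairStab G a b := w.2
  have main : ∀ c : {c : Ω // c ≠ a ∧ c ≠ b}, ∃ t : {t : G // t • a = b ∧ t • b = a},
      t.1 * t.1 = 1 ∧ t.1 • c.1 = c.1 := by
    rintro ⟨c, hca, hcb⟩
    have hd : z • c ≠ c := fun h => (fixed_eq hZ hab hz hz1 h).elim hca hcb
    obtain ⟨g, hgc, hgd⟩ := exists_move hZ a b c (z • c) hab (Ne.symm hd)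
    set y := g * z * g⁻¹ with hy
    have hym : y ∈ pairStab G c (z • c) := conj_mem_pairStab hZ hgc hgd hz
    have hy1 : y ≠ 1 := fun e => hz1 (conj_eq_one_iff.1 e)
    have hy2 : y * y = 1 := by rw [hy]; simp [mul_assoc, hz2, ← mul_assoc z z]
    have hzzc : z • z • c = c := by rw [← mul_smul, hz2, one_smul]
    have hcomm : z * y * z⁻¹ = y := unique_involution hZ (Ne.symm hd)
      (by
        have h := conj_mem_pairStab hZ (g := z) rfl hzzc hym
        rwa [pairStab_comm] at h)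
      (fun e => hy1 (conj_eq_one_iff.1 e))
      (by rw [show z * y * z⁻¹ * (z * y * z⁻¹) = z * (y * y) * z⁻¹ by group, hy2, mul_one, mul_inv_cancel])
      hym hy1 hy2
    have hzy : z * y = y * z := mul_inv_eq_iff_eq_mul.1 hcomm
    have hfix : ∀ x : Ω, z • x = x → y • x = a ∨ y • x = b := fun x hx =>
      fixed_eq hZ hab hz hz1 (by rw [← mul_smul, hzy, mul_smul, hx])
    have hyfix : ∀ x : Ω, y • x = x → x = c ∨ x = z • c := fun x hx => fixed_eq hZ (Ne.symm hd) hym hy1 hx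
    have hya : y • a = b := by
      refine (hfix a hz.1).resolve_left fun h => ?_
      rcases hyfix a h with e | e
      · exact hca e.symm
      · exact hca (smul_left_cancel z (e.symm.trans hz.1.symm))
    have hyb : y • b = a := by rw [← hya, ← mul_smul, hy2, one_smul]
    exact ⟨⟨y, hya, hyb⟩, hy2, hym.1⟩
  choose f hf2 hfc using main
  obtain ⟨s, hsa, hsb⟩ := exists_swap hZ hab
  have hT := card_swappers hZ hab hsa hsb
  rw [Nat.card_eq_fintype_card] at hT
  have hfib : ∀ t ∈ (Finset.univ : Finset {c : Ω // c ≠ a ∧ c ≠ b}).image f,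
      ((Finset.univ : Finset {c : Ω // c ≠ a ∧ c ≠ b}).filter fun c => f c = t).card ≤ 2 := by
    intro t _
    by_contra! h
    obtain ⟨x, hx, y, hy, u, hu, hxy, hxu, hyu⟩ := Finset.two_lt_card.1 h
    simp only [Finset.mem_filter, Finset.mem_univ, true_and] at hx hy hu
    have e := eq_one_of_three hZ (fun e => hxy (Subtype.ext e)) (fun e => hyu (Subtype.ext e))
      (fun e => hxu (Subtype.ext e)) (hx ▸ hfc x) (hy ▸ hfc y) (hu ▸ hfc u)
    exact hab (by rw [← t.2.1, e, one_smul])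
  have hcard : Fintype.card {c : Ω // c ≠ a ∧ c ≠ b} = Nat.card Ω - 2 := by
    rw [Fintype.card_subtype, Nat.card_eq_fintype_card]
    have : (Finset.univ.filter fun c : Ω => c ≠ a ∧ c ≠ b) = (Finset.univ : Finset Ω) \ {a, b} := by
      ext c; simp
    rw [this, Finset.card_sdiff_of_subset (Finset.subset_univ _), Finset.card_pair hab, Finset.card_univ]
  have hle := Finset.card_le_mul_card_image (Finset.univ : Finset {c : Ω // c ≠ a ∧ c ≠ b}) 2 hfib
  rw [Finset.card_univ, hcard] at hle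
  have himg := Finset.card_le_univ ((Finset.univ : Finset {c : Ω // c ≠ a ∧ c ≠ b}).image f)
  rw [hT] at himg
  refine ⟨by omega, fun heq t hta htb => ?_⟩
  have hall : (Finset.univ : Finset {c : Ω // c ≠ a ∧ c ≠ b}).image f = Finset.univ :=
    Finset.eq_univ_of_card _ (by rw [hT]; omega)
  obtain ⟨c, -, hc⟩ := Finset.mem_image.1 (hall ▸ Finset.mem_univ (⟨t, hta, htb⟩ : {t : G // t • a = b ∧ t • b = a}))
  have hct : ((f c : {t : G // t • a = b ∧ t • b = a}) : G) = t := congrArg Subtype.val hc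
  exact ⟨hct ▸ hf2 c, c.1, c.2.1, c.2.2, hct ▸ hfc c⟩

end involution

end CfsgLib.Perm.ZassG
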