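import Mathlib

/-!
The combinatorial core of Feit's argument: a coefficient matrix with Gram matrix `1 + e f fᵀ` coming
from a coherent family has a unit column.
-/

namespace CfsgLib.Perm.ZassG

open Finset

/-- An integer vector of norm one has a single non-zero entry. -/
theorem exists_support_of_norm_one {R : Type*} [Fintype R] [DecidableEq R] (v : R → ℤ)
    (h : ∑ r, v r * v r = 1) : ∃ r₀, v r₀ * v r₀ = 1 ∧ ∀ r, r ≠ r₀ → v r = 0 := by
  obtain ⟨r₀, hr₀⟩ : ∃ r, v r ≠ 0 := by
    by_contra! h0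
    simp [h0] at h
  have hrest : ∀ r, r ≠ r₀ → v r = 0 := by
    intro r hne
    by_contra h0
    have h2 : ∑ s ∈ ({r, r₀} : Finset R), v s * v s ≤ ∑ s, v s * v s :=
      sum_le_sum_of_subset_of_nonneg (subset_univ _) fun i _ _ => mul_self_nonneg _
    rw [sum_pair hne, h] at h2
    have := mul_self_pos.mpr h0
    have := mul_self_pos.mpr hr₀
    omega
  exact ⟨r₀, by rw [← h, sum_eq_single r₀ (fun r _ hne => by simp [hrest r hne]) (by simp)], hrest⟩

theorem exceptional_row {ι R : Type*} [Fintype ι] [DecidableEq ι] [Fintype R] [DecidableEq R]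
    (c : ι → R → ℕ) (v : ι → R → ℤ) (f : ι → ℕ) (k : ι) (e : ℕ)
    (horth : ∀ i j, ∑ r, v i r * v j r = if i = j then 1 else 0)
    (hc : ∀ i r, (c i r : ℤ) = f i * ((c k r : ℤ) - v k r) + v i r)
    (hG : ∀ i, ∑ r, c i r * c i r = 1 + e * (f i * f i)) (hf : ∀ i, 0 < f i) (hk : f k = 1)
    (r₀ : R) (hne : ∀ r, r ≠ r₀ → ∃ i, c i r ≠ 0)
    (hR : Fintype.card ι + 1 + e ≤ Fintype.card R) (hF : 3 ≤ ∑ i, f i * f i) :
    ∃ θ, ∀ i, c i θ = if i = k then 1 else 0 := by
  classical
  set t : R → ℤ := fun r => (c k r : ℤ) - v k r with ht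
  choose σ hσ1 hσ0 using fun i => exists_support_of_norm_one (v i) (by rw [horth, if_pos rfl])
  have hσinj : Function.Injective σ := by
    intro i j hij
    by_contra hne'
    have h := horth i j
    rw [if_neg hne', sum_eq_single (σ i) (fun r _ hr => by rw [hσ0 i r hr, zero_mul]) (by simp)] at h
    have h1 := hσ1 i
    have h2 := hσ1 j
    rw [← hij] at h2
    rcases mul_eq_zero.1 h with h | h
    · rw [h, zero_mul] at h1; omega
    · rw [h, zero_mul] at h2; omega
  set x : ι → ℤ := fun i => t (σ i) * v i (σ i) with hx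
  have hxs : ∀ i, ∑ r, t r * v i r = x i := fun i =>
    sum_eq_single (σ i) (fun r _ hr => by rw [hσ0 i r hr, mul_zero]) (by simp)
  set T : ℤ := ∑ r, t r * t r with hT
  have heq : ∀ i, (f i : ℤ) * T + 2 * x i = e * f i := by
    intro i
    have h : ((∑ r, c i r * c i r : ℕ) : ℤ) = 1 + e * (f i * f i) := by rw [hG i]; push_cast; rfl
    push_cast at h
    have hexp : ∑ r, (c i r : ℤ) * c i r = (f i : ℤ) * f i * T + 2 * f i * x i + 1 := by
      rw [← hxs i, hT, Finset.mul_sum, Finset.mul_sum, show (1 : ℤ) = ∑ r, v i r * v i r by rw [horth, if_pos rfl],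
        ← sum_add_distrib, ← sum_add_distrib]
      exact sum_congr rfl fun r _ => by rw [hc i r]; simp only [ht]; ring
    have hfi : (f i : ℤ) ≠ 0 := by exact_mod_cast (hf i).ne'
    exact mul_left_cancel₀ hfi (by linarith)
  have hxf : ∀ i, x i = f i * x k := fun i => by
    have h1 := heq i
    have h2 := heq k
    rw [hk, Nat.cast_one, one_mul, mul_one] at h2
    have : 2 * x i = 2 * ((f i : ℤ) * x k) := by linear_combination h1 - (f i : ℤ) * h2
    omega
  -- a lower bound for the norm of `t`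
  set P : Finset R := univ.image σ with hP
  have hrest : ∀ r ∈ (Pᶜ : Finset R).erase r₀, (1 : ℤ) ≤ t r * t r := by
    intro r hr
    obtain ⟨hr0, hrP⟩ := mem_erase.1 hr
    have : t r ≠ 0 := by
      intro h0
      obtain ⟨i, hi⟩ := hne r hr0
      refine hi (Int.natCast_eq_zero.1 ?_)
      rw [hc i r, show (c k r : ℤ) - v k r = t r from rfl, h0, mul_zero, zero_add,
        hσ0 i r fun e => mem_compl.1 hrP (mem_image.2 ⟨i, mem_univ _, e.symm⟩)]
    exact Int.add_one_le_iff.2 (mul_self_pos.2 this)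
  have hcard : (e : ℤ) ≤ ((Pᶜ : Finset R).erase r₀).card := by
    have h1 := pred_card_le_card_erase (s := Pᶜ) (a := r₀)
    rw [card_compl, hP, card_image_of_injective _ hσinj, card_univ] at h1
    exact_mod_cast (by rw [hP]; omega : e ≤ ((Pᶜ : Finset R).erase r₀).card)
  have hPsum : ∑ r ∈ P, t r * t r = x k * x k * ∑ i, ((f i : ℤ) * f i) := by
    rw [hP, sum_image fun i _ j _ h => hσinj h, mul_sum]
    refine sum_congr rfl fun i _ => ?_
    have h := hxf i
    calc t (σ i) * t (σ i) = t (σ i) * t (σ i) * (v i (σ i) * v i (σ i)) := by rw [hσ1 i, mul_one]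
      _ = x i * x i := by rw [hx]; ring
      _ = _ := by rw [h]; ring
  have hle : x k * x k * (∑ i, ((f i : ℤ) * f i)) + e ≤ T := by
    rw [hT, ← sum_add_sum_compl P, ← hPsum]
    refine add_le_add le_rfl (le_trans ?_ (sum_le_sum_of_subset_of_nonneg (erase_subset r₀ _)
      fun r _ _ => mul_self_nonneg _))
    calc (e : ℤ) ≤ ((Pᶜ : Finset R).erase r₀).card := hcard
      _ = ∑ _r ∈ (Pᶜ : Finset R).erase r₀, (1 : ℤ) := by simp
      _ ≤ _ := sum_le_sum hrest
  have hF' : (3 : ℤ) ≤ ∑ i, ((f i : ℤ) * f i) := by exact_mod_cast hF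
  have h2 := heq k
  rw [hk, Nat.cast_one, one_mul, mul_one] at h2
  have hx0 : x k = 0 := by
    have h3 : x k * x k * (∑ i, ((f i : ℤ) * f i)) + 2 * x k ≤ 0 := by linarith
    rcases lt_trichotomy (x k) 0 with h | h | h
    · nlinarith
    · exact h
    · nlinarith
  have ht0 : ∀ i, t (σ i) = 0 := fun i => by
    have h := hxf i
    rw [hx0, mul_zero] at h
    rcases mul_eq_zero.1 h with h | h
    · exact h
    · exact absurd (hσ1 i) (by rw [h]; simp)
  refine ⟨σ k, fun i => ?_⟩
  have h := hc i (σ k)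
  rw [show (c k (σ k) : ℤ) - v k (σ k) = t (σ k) from rfl, ht0 k, mul_zero, zero_add] at h
  split_ifs with hi
  · subst hi
    have h1 := hσ1 i
    rw [← h] at h1
    exact_mod_cast (Nat.eq_one_of_mul_eq_one_left (by exact_mod_cast h1) : c i (σ i) = 1)
  · rw [hσ0 i (σ k) fun e => hi (hσinj e).symm] at h
    exact_mod_cast h

end CfsgLib.Perm.ZassG
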