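import Cfsg.Agent.Lib.Perm.ZassG.CharInd
import Cfsg.Agent.Lib.Perm.ZassG.Exceptional
import Cfsg.Agent.Lib.CharsMore.FeitSibley
import Cfsg.Agent.Lib.CharApps.Basic

/-!
Feit's theorem on Zassenhaus groups with an odd two-point stabiliser: coherence forces
`n - 2 ≤ 2 e`.
-/

open MulAction Cfsg
open CfsgLib.Chars
open scoped ComplexConjugate

namespace CfsgLib.Perm.ZassG.Setup

universe u

variable {G : Type u} {Ω : Type*} [Group G] [MulAction G Ω] [Fintype G] [Finite Ω] {a b : Ω}
  {F : Subgroup G} (S : Setup a b F)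
include S

omit [Fintype G] [Finite Ω] in
theorem fix_only {u : G} (hu : u ∈ F) (hu1 : u ≠ 1) {c : Ω} (hc : u • c = c) : c = a :=
  by_contra fun hca => hu1 (S.ker.eq_one_of_fix hu hca hc)

theorem centralizer_le : ∀ u ∈ F, u ≠ 1 → Subgroup.centralizer ({u} : Set G) ≤ F := by
  intro u hu hu1 g hg
  have hcomm : u * g = g * u := Subgroup.mem_centralizer_iff.1 hg u rfl
  have hga : g • a = a := S.fix_only hu hu1 (by
    rw [← mul_smul, hcomm, mul_smul, mem_stabilizer_iff.1 (S.ker.le hu)])
  rcases eq_or_ne g 1 with rfl | hg1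
  · exact one_mem F
  refine mem_kernel_of_fix_only S.zass S.ne S.ker hga fun c hc => by_contra fun hca => ?_
  have h2 : g • (u • c) = u • c := by rw [← mul_smul, ← hcomm, mul_smul, hc]
  rcases fixed_eq S.zass (Ne.symm hca) (mem_pairStab.2 ⟨hga, hc⟩) hg1 h2 with e | e
  · exact S.ker.smul_ne hu hca e
  · exact hca (S.fix_only hu hu1 e)

theorem normalizer_eq : Subgroup.normalizer (F : Set G) = stabilizer G a := by
  refine le_antisymm (fun g hg => ?_) fun g hg => ?_
  · obtain ⟨u, hu, hu1⟩ := (Subgroup.bot_or_exists_ne_one F).resolve_left (S.ker.ne_bot S.zass S.ne)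
    have hv : g⁻¹ * u * g ∈ F := by simpa using (Subgroup.mem_normalizer_iff.1 (inv_mem hg) u).1 hu
    refine S.fix_only hu hu1 ?_
    have h := mem_stabilizer_iff.1 (S.ker.le hv)
    rwa [mul_smul, mul_smul, inv_smul_eq_iff] at h
  · rw [Subgroup.mem_normalizer_iff]
    refine fun u => ⟨fun hu => S.ker.normal g hg u hu, fun hu => ?_⟩
    simpa [mul_assoc] using S.ker.normal g⁻¹ (inv_mem hg) _ hu

theorem isTI : IsTISubset (F : Set G) := by
  intro g hg u hu hgu
  by_contra hu1
  rw [S.normalizer_eq] at hg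
  refine hg (S.fix_only hgu (fun h => hu1 (conj_eq_one_iff.1 h)) ?_)
  rw [mul_smul, mul_smul, inv_smul_smul, mem_stabilizer_iff.1 (S.ker.le hu)]

theorem normal_subgroupOf : (F.subgroupOf (stabilizer G a)).Normal := by
  rw [← S.normalizer_eq]
  exact Subgroup.normal_in_normalizer

omit [Finite Ω] in
theorem index_subgroupOf : (F.subgroupOf (stabilizer G a)).index = Nat.card (pairStab G a b) := by
  have h := (F.subgroupOf (stabilizer G a)).card_mul_index
  rw [Nat.card_congr (Subgroup.subgroupOfEquivOfLe S.ker.le).toEquiv, S.ker.card_stabilizer S.zass S.ne] at h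
  exact Nat.eq_of_mul_eq_mul_left Nat.card_pos h

open Classical in
/-- Restriction of an induced class function supported on the kernel. -/
theorem indFun_restrict {ψ : stabilizer G a → ℂ} (hψ : IsClassFunction (stabilizer G a) ψ)
    (h0 : ∀ g : stabilizer G a, (g : G) ∉ F → ψ g = 0) (g : stabilizer G a) :
    indFun (stabilizer G a) ψ g = ψ g + if g = 1 then (Nat.card F : ℂ) * ψ 1 else 0 := by
  classical
  split_ifs with hg
  · subst hg
    rw [OneMemClass.coe_one, indFun_one_apply, S.index_stabilizer]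
    push_cast
    ring
  have : ∀ y : G, extendByZero (stabilizer G a) ψ (y⁻¹ * g * y) =
      if y ∈ stabilizer G a then ψ g else 0 := by
    intro y
    split_ifs with hy
    · have hm : y⁻¹ * g * y ∈ stabilizer G a := mul_mem (mul_mem (inv_mem hy) g.2) hy
      rw [extendByZero_of_mem _ _ hm, ← hψ g ⟨y⁻¹, inv_mem hy⟩]
      exact congrArg ψ (Subtype.ext (by simp))
    · by_cases hm : y⁻¹ * g * y ∈ stabilizer G a
      · rw [extendByZero_of_mem _ _ hm]
        refine h0 _ fun hF => hg ?_
        have hfix : (y⁻¹ * (g : G) * y) • (y⁻¹ • a) = y⁻¹ • a := by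
          rw [mul_smul, mul_smul, smul_inv_smul, mem_stabilizer_iff.1 g.2]
        have h1 := S.ker.eq_one_of_fix hF (fun e => hy (eq_inv_smul_iff.1 e.symm)) hfix
        exact Subtype.ext (show (g : G) = 1 by
          rw [show (g : G) = y * (y⁻¹ * g * y) * y⁻¹ by group, show y⁻¹ * (g : G) * y = 1 from h1]; group)
      · exact extendByZero_of_not_mem _ _ hm
  rw [indFun_apply, Finset.sum_congr rfl fun y _ => this y, ← Finset.sum_filter, Finset.sum_const,
    nsmul_eq_mul, show (Finset.univ.filter fun y => y ∈ stabilizer G a).card = Nat.card (stabilizer G a) by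
      rw [Nat.card_eq_fintype_card, Fintype.card_subtype],
    inv_mul_cancel_left₀ (Nat.cast_ne_zero.2 Nat.card_pos.ne'), add_zero]

theorem inner_indFun_kernel [Fintype (stabilizer G a)] (φ : stabilizer G a → ℂ) {ψ : stabilizer G a → ℂ}
    (hψ : IsCharacter (stabilizer G a) ψ) (h0 : ∀ g : stabilizer G a, (g : G) ∉ F → ψ g = 0) :
    classInner (indFun (stabilizer G a) φ) (indFun (stabilizer G a) ψ) =
      classInner φ ψ + φ 1 * conj (ψ 1) / Nat.card (pairStab G a b) := by
  classical
  rw [inner_indFun _ _ (isClassFunction_indFun _ ψ), inner_def, inner_def,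
    Finset.sum_congr rfl fun g _ => by rw [S.indFun_restrict (isClassFunction_of_isCharacter hψ) h0 g, map_add,
      mul_add, apply_ite conj, map_zero, mul_ite, mul_zero], Finset.sum_add_distrib, Finset.sum_ite_eq',
    if_pos (Finset.mem_univ _), mul_add, map_mul, map_natCast]
  congr 1
  rw [S.ker.card_stabilizer S.zass S.ne, Nat.cast_mul]
  have h1 : (Nat.card F : ℂ) ≠ 0 := Nat.cast_ne_zero.2 Nat.card_pos.ne'
  field_simp

/-- The permutation character is `1` plus an irreducible character. -/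
theorem ind_one_eq (θ : IrrCharacter G) (hθp : θ ≠ principal G)
    (h1 : classInner (θ : G → ℂ) (S.ind 1) ≠ 0) :
    S.ind 1 = ((principal G : IrrCharacter G) : G → ℂ) + (θ : G → ℂ) := by
  classical
  haveI := irrFintype G
  choose d hd using fun χ : IrrCharacter G => inner_irr_right_nat (S.ind_isCharacter 1) χ
  have hnorm : classInner (S.ind 1) (S.ind 1) = 2 := by
    rw [S.inner_ind, if_pos rfl, if_pos (by exact one_mul (1 : pairStab G a b →* ℂˣ))]; norm_num
  have hs := inner_eq_sum (isClassFunction_of_isCharacter (S.ind_isCharacter 1)) (S.ind 1)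
  simp only [hd, map_natCast, hnorm] at hs
  have h2 : (2 : ℕ) = ∑ χ, d χ * d χ := by exact_mod_cast hs
  have hp : d (principal G) = 1 := by
    haveI := Fintype.ofFinite (stabilizer G a)
    have h := hd (principal G)
    rw [ind, inner_indFun _ _ (isClassFunction_irr _),
      show S.ext 1 = fun _ => (1 : ℂ) by funext g; simp [ext]] at h
    exact_mod_cast h.symm.trans (inner_one_one (G := stabilizer G a))
  have hθ0 : d θ ≠ 0 := fun h => h1 (by rw [← inner_conj, hd, h, Nat.cast_zero, map_zero])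
  have hsplit : ∑ χ, d χ * d χ =
      (∑ χ ∈ ({principal G, θ} : Finset (IrrCharacter G)), d χ * d χ) +
        ∑ χ ∈ ({principal G, θ} : Finset (IrrCharacter G))ᶜ, d χ * d χ := (Finset.sum_add_sum_compl _ _).symm
  rw [Finset.sum_pair (Ne.symm hθp), hp, ← h2] at hsplit
  have hle := Nat.le_mul_self (d θ)
  have hθ1 : d θ = 1 := by omega
  have hrest : ∀ χ, χ ≠ principal G → χ ≠ θ → d χ = 0 := by
    intro χ hχ1 hχ2
    have hz : ∑ χ ∈ ({principal G, θ} : Finset (IrrCharacter G))ᶜ, d χ * d χ = 0 := by omega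
    exact mul_self_eq_zero.1 (Finset.sum_eq_zero_iff.1 hz χ (by simp [hχ1, hχ2]))
  conv_lhs => rw [classFun_eq_sum (isClassFunction_of_isCharacter (S.ind_isCharacter 1))]
  rw [← Finset.sum_subset (Finset.subset_univ ({principal G, θ} : Finset (IrrCharacter G)))
    (fun χ _ hχ => by
      simp only [Finset.mem_insert, Finset.mem_singleton, not_or] at hχ
      rw [hd, hrest χ hχ.1 hχ.2, Nat.cast_zero, zero_smul]),
    Finset.sum_pair (Ne.symm hθp), hd, hd, hp, hθ1, Nat.cast_one, one_smul, one_smul]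

set_option maxHeartbeats 1600000 in
/-- Feit's argument: the characters of the point stabiliser non-trivial on the kernel are not coherent
when `n - 2 > 2 e`. -/
theorem not_coherent [Fintype (stabilizer G a)] (hlt : 2 * Nat.card (pairStab G a b) + 1 < Nat.card F)
    (hcoh : IsCoherent (inducedIrrAbove (F.subgroupOf (stabilizer G a)) ⊥) {1}ᶜ
      (fun α : stabilizer G a → ℂ => indFun (stabilizer G a) α)) : False := by
  classical
  let B := stabilizer G a
  set K := F.subgroupOf B with hKdef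
  haveI hKn : K.Normal := S.normal_subgroupOf
  set e := Nat.card (pairStab G a b) with he
  set h := Nat.card F with hh
  have hC : ∀ k ∈ K, k ≠ 1 → Subgroup.centralizer ({k} : Set B) ≤ K :=
    CfsgLib.CharsMore.centralizer_subgroupOf S.ker.le S.centralizer_le
  have hKidx : K.index = e := S.index_subgroupOf
  have hBcard : Nat.card B = h * e := S.ker.card_stabilizer S.zass S.ne
  have hKcard : Nat.card K = h := Nat.card_congr (Subgroup.subgroupOfEquivOfLe S.ker.le).toEquiv
  haveI := irrFintype G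
  haveI := irrFintype B
  haveI := Fintype.ofFinite K
  haveI := Fintype.ofFinite F
  haveI := Fintype.ofFinite (pairStab G a b)
  haveI := Fintype.ofFinite (pairStab G a b →* ℂˣ)
  let ι := {χ : IrrCharacter B // ∃ k ∈ K, (χ : B → ℂ) k ≠ (χ : B → ℂ) 1}
  have hmem : ∀ i : ι, (i.1 : B → ℂ) ∈ inducedIrrAbove K ⊥ := fun i => by
    rw [CfsgLib.CharsMore.inducedIrrAbove_eq_nontrivial hC]; exact ⟨i.1.2, i.2⟩
  have hsupp : ∀ (i : ι) (g : B), (g : G) ∉ F → (i.1 : B → ℂ) g = 0 := by
    intro i g hg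
    obtain ⟨θ, -, -, -, hθ⟩ := hmem i
    rw [hθ]
    exact CfsgLib.CharsMore.indFun_eq_zero_off θ hg
  have hdeg : ∀ i : ι, ∃ f : ℕ, 0 < f ∧ (i.1 : B → ℂ) 1 = (e : ℂ) * f := by
    intro i
    obtain ⟨θ, hθ, -, -, hθ'⟩ := hmem i
    obtain ⟨f, hf, hf'⟩ := irr_degree_nat hθ
    exact ⟨f, hf, by rw [hθ', indFun_one_apply, hKidx, hf']⟩
  choose f hf hfdeg using hdeg
  -- the linear characters trivial on the kernel are the only other ones
  let L : (pairStab G a b →* ℂˣ) → IrrCharacter B := fun l =>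
    ⟨S.ext l, isIrrCharacter_linear (l.comp S.proj)⟩
  have hL1 : ∀ l, ∀ k ∈ K, (L l : B → ℂ) k = 1 := fun l k hk => by
    show (l (S.proj k) : ℂ) = 1
    rw [show k = Subgroup.inclusion S.ker.le ⟨k, hk⟩ from rfl, S.proj_kernel, map_one, Units.val_one]
  have hLinj : Function.Injective L := fun l l' hll => MonoidHom.ext fun x => Units.ext (by
    have := congrFun (congrArg Subtype.val hll) (Subgroup.inclusion S.pair_le x)
    simpa [L, ext, S.proj_pair] using this)
  have hLι : ∀ l, ¬ ∃ k ∈ K, (L l : B → ℂ) k ≠ (L l : B → ℂ) 1 := fun l ⟨k, hk, hne⟩ =>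
    hne ((hL1 l k hk).trans (hL1 l 1 K.one_mem).symm)
  have hcardL : Fintype.card (pairStab G a b →* ℂˣ) = e := by
    rw [← Nat.card_eq_fintype_card, card_dual S.comm]
  let rest : Finset (IrrCharacter B) :=
    Finset.univ.filter fun χ => ¬ ∃ k ∈ K, (χ : B → ℂ) k ≠ (χ : B → ℂ) 1
  have hsq : ∑ χ ∈ rest, (χ : B → ℂ) 1 ^ 2 = (e : ℂ) := by
    have h1 : ∑ k : K, ∑ χ : IrrCharacter B, (χ : B → ℂ) 1 * (χ : B → ℂ) k = (h : ℂ) * e := by
      rw [Finset.sum_congr rfl fun (k : K) _ => sum_degree_mul (k : B), Finset.sum_eq_single (1 : K)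
        (fun k _ hk => if_neg fun e => hk (Subtype.ext (e.trans (OneMemClass.coe_one K).symm))) (by simp), OneMemClass.coe_one, if_pos rfl, hBcard,
        Nat.cast_mul]
    have h2 : ∀ χ : IrrCharacter B, ∑ k : K, (χ : B → ℂ) 1 * (χ : B → ℂ) k =
        if χ ∈ rest then (h : ℂ) * (χ : B → ℂ) 1 ^ 2 else 0 := by
      intro χ
      split_ifs with hχ
      · have hc : ∀ k : K, (χ : B → ℂ) k = (χ : B → ℂ) 1 := fun k => by
          by_contra hne; exact (Finset.mem_filter.1 hχ).2 ⟨k, k.2, hne⟩
        simp only [hc, Finset.sum_const, Finset.card_univ, nsmul_eq_mul, ← Nat.card_eq_fintype_card, hKcard, sq]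
      · rw [← Finset.mul_sum]
        simp only [rest, Finset.mem_filter, Finset.mem_univ, true_and, not_not] at hχ
        obtain ⟨θ, hθ, hθ1, -, hθ'⟩ := hmem ⟨χ, hχ⟩
        have hz : classInner (χ : B → ℂ) (fun _ => 1) = 0 := by
          rw [show (χ : B → ℂ) = indFun K θ from hθ', inner_indFun _ _ (fun _ _ => rfl)]
          exact inner_irr_ne (χ := ⟨θ, hθ⟩) (ψ := principal K) fun e => hθ1 (congrArg Subtype.val e)
        rw [inner_def] at hz
        have hz' := (mul_eq_zero.1 hz).resolve_left (inv_ne_zero (Nat.cast_ne_zero.2 Nat.card_pos.ne'))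
        simp only [map_one, mul_one] at hz'
        rw [show ∑ k : K, (χ : B → ℂ) k = ∑ g : B, (χ : B → ℂ) g by
          rw [← Finset.sum_subset (Finset.subset_univ ((Finset.univ : Finset K).map ⟨Subtype.val, Subtype.val_injective⟩))
            (fun g _ hg => hsupp ⟨χ, hχ⟩ g fun hgF => hg (Finset.mem_map.2 ⟨⟨g, hgF⟩, Finset.mem_univ _, rfl⟩)),
            Finset.sum_map]
          rfl, hz', mul_zero]
    rw [Finset.sum_comm, Finset.sum_congr rfl fun χ _ => h2 χ, Finset.sum_ite_mem, Finset.univ_inter,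
      ← Finset.mul_sum] at h1
    exact mul_left_cancel₀ (Nat.cast_ne_zero.2 Nat.card_pos.ne') h1
  have hrest : rest = Finset.univ.image L := by
    symm
    refine Finset.eq_of_subset_of_card_le (fun χ hχ => ?_) ?_
    · obtain ⟨l, -, rfl⟩ := Finset.mem_image.1 hχ
      exact Finset.mem_filter.2 ⟨Finset.mem_univ _, hLι l⟩
    · rw [Finset.card_image_of_injective _ hLinj, Finset.card_univ, hcardL]
      have hn : ∀ χ : IrrCharacter B, (χ : B → ℂ) 1 = (charDegree (χ : B → ℂ) : ℂ) := CfsgLib.CharApps.deg_eq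
      simp only [hn] at hsq
      norm_cast at hsq
      calc rest.card = ∑ _χ ∈ rest, 1 := by simp
        _ ≤ ∑ χ ∈ rest, charDegree (χ : B → ℂ) ^ 2 :=
          Finset.sum_le_sum fun χ _ => Nat.one_le_pow _ _ (CfsgLib.CharApps.deg_pos χ)
        _ = e := hsq
  have hrestcard : rest.card = e := by
    rw [hrest, Finset.card_image_of_injective _ hLinj, Finset.card_univ, hcardL]
  have hF3 : 3 ≤ ∑ i : ι, f i * f i := by
    have h1 := sum_degree_sq (G := B)
    rw [← Finset.sum_filter_add_sum_filter_not Finset.univ (fun χ : IrrCharacter B =>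
      ¬ ∃ k ∈ K, (χ : B → ℂ) k ≠ (χ : B → ℂ) 1), hsq, hBcard, Finset.sum_subtype _
      (p := fun χ : IrrCharacter B => ∃ k ∈ K, (χ : B → ℂ) k ≠ (χ : B → ℂ) 1) (by simp)] at h1
    simp only [hfdeg, mul_pow, ← Finset.mul_sum] at h1
    have h2 : e + e ^ 2 * ∑ i : ι, f i ^ 2 = h * e := by
      exact_mod_cast h1
    have h2' : e * (1 + e * ∑ i : ι, f i * f i) = e * h := by
      simp only [sq] at h2
      rw [mul_comm e h, ← h2]; ring
    have h3 : 1 + e * ∑ i : ι, f i * f i = h := Nat.eq_of_mul_eq_mul_left Nat.card_pos h2'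
    by_contra! h4
    have : e * ∑ i : ι, f i * f i ≤ e * 2 := Nat.mul_le_mul_left e (by omega)
    omega
  -- a character of degree `e`
  obtain ⟨k, hk⟩ : ∃ k : ι, f k = 1 := by
    haveI : Group.IsNilpotent K :=
      haveI := S.ker.isNilpotent S.zass S.ne
      Group.nilpotent_of_mulEquiv (Subgroup.subgroupOfEquivOfLe S.ker.le).symm
    haveI : Nontrivial K := Finite.one_lt_card_iff_nontrivial.1 (by omega)
    obtain ⟨lam, hlam⟩ := exists_nontrivial_hom (G := K)
      (Group.IsSolvable.commutator_lt_top_of_nontrivial K).ne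
    have hin : indFun K (fun x => (lam x : ℂ)) ∈ inducedIrrAbove K ⊥ :=
      ⟨_, isIrrCharacter_linear lam, fun e => hlam (MonoidHom.ext fun x => Units.ext (by simpa using congrFun e x)),
        fun x hx => by rw [show x = 1 from Subtype.ext (Subgroup.mem_bot.1 hx)], rfl⟩
    rw [CfsgLib.CharsMore.inducedIrrAbove_eq_nontrivial hC] at hin
    refine ⟨⟨⟨_, hin.1⟩, hin.2⟩, ?_⟩
    have h1 : indFun K (fun x => (lam x : ℂ)) 1 = (e : ℂ) * f ⟨⟨_, hin.1⟩, hin.2⟩ := hfdeg ⟨⟨_, hin.1⟩, hin.2⟩
    simp only [indFun_one_apply, map_one, Units.val_one, hKidx, mul_one] at h1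
    have h2 : (e : ℂ) ≠ 0 := Nat.cast_ne_zero.2 Nat.card_pos.ne'
    exact_mod_cast (mul_right_eq_self₀.1 h1.symm).resolve_right h2
  -- coherence
  obtain ⟨-, τ, hτ, hτA⟩ := hcoh
  have hspan : ∀ i : ι, (i.1 : B → ℂ) ∈ zspan (inducedIrrAbove K ⊥) := fun i => Submodule.subset_span (hmem i)
  have hgen : ∀ i : ι, ∀ χ : IrrCharacter G, ∃ m : ℤ, classInner (τ (i.1 : B → ℂ)) χ = m :=
    fun i => (isGeneralized_iff_inner.1 (hτ.2.2.2 _ (hspan i))).2
  choose v hv using hgen
  have hnat : ∀ i : ι, ∀ χ : IrrCharacter G, ∃ m : ℕ, classInner (indFun B (i.1 : B → ℂ)) χ = m :=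
    fun i => inner_irr_right_nat (isCharacter_indFun B (isCharacter_of_irr i.1.2))
  choose c hc using hnat
  have hrel : ∀ i χ, (c i χ : ℤ) = f i * ((c k χ : ℤ) - v k χ) + v i χ := by
    intro i χ
    have hz : (i.1 : B → ℂ) + (-(f i : ℤ)) • (k.1 : B → ℂ) ∈ zspanOn (inducedIrrAbove K ⊥) {1}ᶜ := by
      refine ⟨Submodule.add_mem _ (hspan i) (Submodule.smul_mem _ _ (hspan k)), fun x hx => ?_⟩
      rw [Set.mem_compl_iff, not_not, Set.mem_singleton_iff] at hx
      subst hx
      simp [hfdeg, hk]; ring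
    have h1 : τ ((i.1 : B → ℂ) + (-(f i : ℤ)) • (k.1 : B → ℂ)) =
        indFun B ((i.1 : B → ℂ) + (-(f i : ℤ)) • (k.1 : B → ℂ)) := hτA _ hz
    have hsmul : ∀ (φ : B → ℂ) (n : ℤ), n • φ = (n : ℂ) • φ := fun φ n => by ext; simp
    have hsmul' : ∀ (φ : G → ℂ) (n : ℤ), n • φ = (n : ℂ) • φ := fun φ n => by ext; simp
    have hmem2 : (-(f i : ℤ)) • (k.1 : B → ℂ) ∈ zspan (inducedIrrAbove K ⊥) :=
      Submodule.smul_mem _ _ (hspan k)
    rw [hτ.1 _ (hspan i) _ hmem2, hτ.2.1 _ (hspan k), hsmul, hsmul', indFun_add, indFun_smul] at h1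
    have h2 := congrArg (classInner · (χ : G → ℂ)) h1
    simp only [CfsgLib.Chars.inner_add_left, CfsgLib.Chars.inner_smul_left, hv, hc] at h2
    push_cast at h2
    have h3 : (c i χ : ℂ) = f i * ((c k χ : ℂ) - v k χ) + v i χ := by linear_combination -h2
    exact_mod_cast h3
  have horth : ∀ i j, ∑ χ, v i χ * v j χ = if i = j then 1 else 0 := by
    intro i j
    apply Int.cast_injective (α := ℂ)
    have h1 := inner_eq_sum (isClassFunction_of_isGeneralized (hτ.2.2.2 _ (hspan i))) (τ (j.1 : B → ℂ))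
    rw [hτ.2.2.1 _ (hspan i) _ (hspan j), inner_irr] at h1
    simp only [hv, map_intCast] at h1
    push_cast
    rw [← h1]
    exact if_congr Subtype.ext_iff.symm rfl rfl
  have hGram : ∀ i, ∑ χ, c i χ * c i χ = 1 + e * (f i * f i) := by
    intro i
    apply Nat.cast_injective (R := ℂ)
    have h1 := inner_eq_sum (isClassFunction_indFun B (i.1 : B → ℂ)) (indFun B (i.1 : B → ℂ))
    rw [S.inner_indFun_kernel _ (isCharacter_of_irr i.1.2) (hsupp i), inner_irr_self, hfdeg] at h1
    simp only [hc, map_natCast, map_mul] at h1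
    push_cast
    rw [← h1, ← he]
    have : (e : ℂ) ≠ 0 := Nat.cast_ne_zero.2 Nat.card_pos.ne'
    field_simp
  -- rows
  have hc0 : ∀ i : ι, c i (principal G) = 0 := by
    intro i
    have h1 : classInner (indFun B (i.1 : B → ℂ)) (fun _ => 1) = (0 : ℂ) := by
      rw [inner_indFun _ _ (fun _ _ => rfl)]
      exact inner_irr_ne (χ := i.1) (ψ := principal B) fun e => by
        obtain ⟨k, -, hk⟩ := i.2
        exact hk (by rw [e]; rfl)
    have h2 := hc i (principal G)
    rw [show ((principal G : IrrCharacter G) : G → ℂ) = fun _ => 1 from rfl, h1] at h2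
    exact_mod_cast h2.symm
  have hinner : ∀ (χ : IrrCharacter G) (i : ι), classInner (fun g : B => (χ : G → ℂ) g) i.1 = (c i χ : ℂ) := by
    intro χ i
    rw [← inner_indFun_right _ _ (isClassFunction_irr χ), ← inner_conj, hc, map_natCast]
  have hne : ∀ χ, χ ≠ principal G → ∃ i, c i χ ≠ 0 := by
    intro χ hχ
    by_contra! h0
    -- the kernel of `χ` contains the kernel of the stabiliser
    have hFker : F ≤ CfsgLib.CharApps.charKer χ := by
      intro u hu
      have hexp := classFun_eq_sum (isClassFunction_restrict B (isClassFunction_irr χ))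
      have hval : ∀ g : B, (g : G) ∈ F → (χ : G → ℂ) g = (χ : G → ℂ) (1 : B) := by
        intro g hg
        rw [congrFun hexp g, congrFun hexp 1, Finset.sum_apply, Finset.sum_apply]
        refine Finset.sum_congr rfl fun ψ _ => ?_
        by_cases hψ : ∃ k ∈ K, (ψ : B → ℂ) k ≠ (ψ : B → ℂ) 1
        · have := hinner χ ⟨ψ, hψ⟩
          rw [h0 ⟨ψ, hψ⟩, Nat.cast_zero] at this
          simp [this]
        · push Not at hψ
          rw [Pi.smul_apply, Pi.smul_apply, hψ g hg]
      exact hval ⟨u, S.ker.le hu⟩ hu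
    obtain ⟨u₀, hu₀, hu₁⟩ := (Subgroup.bot_or_exists_ne_one F).resolve_left (S.ker.ne_bot S.zass S.ne)
    haveI : (CfsgLib.CharApps.charKer χ).Normal := ⟨fun x hx g => by
      show (χ : G → ℂ) _ = _
      rw [isClassFunction_irr χ x g]; exact hx⟩
    set N := CfsgLib.CharApps.charKer χ
    have hN1 : N ≠ ⊥ := fun h => hu₁ (Subgroup.mem_bot.1 (h ▸ hFker hu₀))
    have htr := normal_transitive S.zass S.ne N hN1
    have hsplit : ∀ g : G, ∃ n ∈ N, ∃ x ∈ pairStab G a b, g = n * x := by
      intro g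
      obtain ⟨n, hn⟩ := exists_smul_eq N a (g • a)
      obtain ⟨u, hu, x, hx, heq⟩ := S.ker.exists_decomp S.ne (g := (n : G)⁻¹ * g) (by
        rw [mem_stabilizer_iff, mul_smul, inv_smul_eq_iff]; exact hn.symm)
      exact ⟨n * u, mul_mem n.2 (hFker hu), x, hx, by rw [mul_assoc, ← heq, mul_inv_cancel_left]⟩
    have hEN : ∀ x ∈ pairStab G a b, x ∈ N := by
      intro x hx
      obtain ⟨s, hsa, hsb⟩ := exists_swap S.zass S.ne
      obtain ⟨n, hn, y, hy, hs⟩ := hsplit s
      have hyx : y * x * y⁻¹ = x := by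
        rw [show y * x = x * y from congrArg Subtype.val (S.comm ⟨y, hy⟩ ⟨x, hx⟩), mul_inv_cancel_right]
      have h1 : s * x * s⁻¹ * x⁻¹ ∈ N := by
        rw [hs, show n * y * x * (n * y)⁻¹ * x⁻¹ = n * (y * x * y⁻¹) * n⁻¹ * x⁻¹ by group, hyx,
          show n * x * n⁻¹ * x⁻¹ = n * (x * n⁻¹ * x⁻¹) by group]
        exact mul_mem hn ((inferInstance : N.Normal).conj_mem _ (inv_mem hn) x)
      rw [S.inverted.inv s hsa hsb x hx, ← mul_inv_rev] at h1
      have h2 : x * x ∈ N := inv_mem_iff.1 h1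
      obtain ⟨r, hr⟩ := S.inverted.odd
      have hx' : x = (x * x) ^ (r + 1) := by
        have h := congrArg Subtype.val (pow_card_eq_one' (x := (⟨x, hx⟩ : pairStab G a b)))
        rw [SubgroupClass.coe_pow, OneMemClass.coe_one] at h
        rw [← pow_two, ← pow_mul, show 2 * (r + 1) = Nat.card (pairStab G a b) + 1 by omega, pow_succ, h, one_mul]
      rw [hx']
      exact pow_mem h2 _
    have hall : ∀ g : G, (χ : G → ℂ) g = (χ : G → ℂ) 1 := fun g => by
      obtain ⟨n, hn, x, hx, rfl⟩ := hsplit g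
      exact CfsgLib.CharApps.mem_charKer.1 (mul_mem hn (hEN x hx))
    have hinn := inner_irr_ne (χ := χ) (ψ := principal G) hχ
    rw [inner_def] at hinn
    simp [hall, principal_apply, irr_degree_ne_zero χ.2, card_ne_zero] at hinn
  -- number of classes
  have hclasses : Fintype.card ι + 1 + e ≤ Fintype.card (IrrCharacter G) := by
    have hB : Fintype.card ι + e ≤ Nat.card (IrrCharacter B) := by
      rw [Nat.card_eq_fintype_card, ← hrestcard, ← Finset.card_univ (α := IrrCharacter B),
        ← Finset.card_filter_add_card_filter_not (s := Finset.univ)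
          (fun χ : IrrCharacter B => ∃ k ∈ K, (χ : B → ℂ) k ≠ (χ : B → ℂ) 1), Fintype.card_subtype]
    rw [card_irr_eq_card_classes, Nat.card_eq_fintype_card] at hB
    rw [← Nat.card_eq_fintype_card (α := IrrCharacter G), card_irr_eq_card_classes, Nat.card_eq_fintype_card]
    let SB : Finset (ConjClasses B) :=
      Finset.image ConjClasses.mk (Finset.univ.filter fun g : B => (g : G) ∈ F ∧ g ≠ 1)
    let EB : Finset (ConjClasses B) :=
      Finset.image (fun x : pairStab G a b => ConjClasses.mk (Subgroup.inclusion S.pair_le x)) (Finset.univ.erase 1)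
    have hBle : Fintype.card (ConjClasses B) ≤ 1 + SB.card + (e - 1) := by
      have hcov : (Finset.univ : Finset (ConjClasses B)) ⊆ {ConjClasses.mk 1} ∪ SB ∪ EB := by
        intro C _
        obtain ⟨g, rfl⟩ := ConjClasses.exists_rep C
        obtain ⟨⟨u, x⟩, rfl⟩ := S.prodEquiv.surjective g
        by_cases hx : x = 1
        · subst hx
          by_cases hu : (S.prodEquiv (u, 1)) = 1
          · simp [hu]
          · refine Finset.mem_union_left _ (Finset.mem_union_right _ (Finset.mem_image.2 ⟨_, Finset.mem_filter.2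
              ⟨Finset.mem_univ _, ?_, hu⟩, rfl⟩))
            rw [S.prodEquiv_apply, OneMemClass.coe_one, mul_one]
            exact u.2
        · obtain ⟨v, hv, hvx⟩ := exists_conj_in_kernel S.zass S.ne S.ker u.2 x.2 (fun e => hx (Subtype.ext e))
          refine Finset.mem_union_right _ (Finset.mem_image.2 ⟨x, Finset.mem_erase.2 ⟨hx, Finset.mem_univ _⟩, ?_⟩)
          exact ConjClasses.mk_eq_mk_iff_isConj.2 (isConj_iff.2 ⟨⟨v, S.ker.le hv⟩, Subtype.ext hvx⟩)
      have h1 := Finset.card_le_card hcov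
      rw [Finset.card_univ] at h1
      refine h1.trans ((Finset.card_union_le _ _).trans (Nat.add_le_add ((Finset.card_union_le _ _).trans
        (by rw [Finset.card_singleton])) (Finset.card_image_le.trans ?_)))
      rw [Finset.card_erase_of_mem (Finset.mem_univ _), Finset.card_univ, he, Nat.card_eq_fintype_card]
    let SG : Finset (ConjClasses G) := SB.image (ConjClasses.map B.subtype)
    have hSG : SG.card = SB.card := by
      refine Finset.card_image_of_injOn fun C hC D hD hCD => ?_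
      obtain ⟨x, hx, rfl⟩ := Finset.mem_image.1 hC
      obtain ⟨y, hy, rfl⟩ := Finset.mem_image.1 hD
      obtain ⟨-, hxF, hx1⟩ := Finset.mem_filter.1 hx
      obtain ⟨-, hyF, hy1⟩ := Finset.mem_filter.1 hy
      obtain ⟨g, hg⟩ := isConj_iff.1 (ConjClasses.mk_eq_mk_iff_isConj.1 hCD)
      change g * (x : G) * g⁻¹ = (y : G) at hg
      have hgB : g ∈ B := by
        show g ∈ stabilizer G a
        rw [← S.normalizer_eq]
        by_contra hgn
        exact hx1 (Subtype.ext (S.isTI g hgn x hxF (hg ▸ hyF)))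
      exact ConjClasses.mk_eq_mk_iff_isConj.2 (isConj_iff.2 ⟨⟨g, hgB⟩, Subtype.ext hg⟩)
    let EG : Finset (ConjClasses G) :=
      Finset.image (fun x : pairStab G a b => ConjClasses.mk (x : G)) (Finset.univ.erase 1)
    let TG : Finset (ConjClasses G) :=
      Finset.univ.filter fun C => ∀ g : G, ConjClasses.mk g = C → ∀ d : Ω, g • d ≠ d
    have hEG : e - 1 ≤ 2 * EG.card := by
      have : e - 1 = ((Finset.univ : Finset (pairStab G a b)).erase 1).card := by
        rw [Finset.card_erase_of_mem (Finset.mem_univ _), Finset.card_univ, he, Nat.card_eq_fintype_card]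
      rw [this]
      refine Finset.card_le_mul_card_image _ 2 fun C hC => ?_
      obtain ⟨x, hx, rfl⟩ := Finset.mem_image.1 hC
      refine (Finset.card_le_card (t := {x, x⁻¹}) fun y hy => ?_).trans Finset.card_le_two
      obtain ⟨hy1, hy2⟩ := Finset.mem_filter.1 hy
      rcases S.inverted.eq_of_isConj S.zass S.ne x.2 (fun e => (Finset.mem_erase.1 hx).1 (Subtype.ext e))
        y.2 (ConjClasses.mk_eq_mk_iff_isConj.1 hy2.symm) with h | h
      · simp [Subtype.ext h]
      · simp [show y = x⁻¹ from Subtype.ext h]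
    have hTG : e + 1 ≤ 2 * TG.card := by
      have := S.inverted.card_fpfClasses S.zass S.ne (by
        rw [← S.ker.card_add_one S.ne]; omega)
      rwa [show Nat.card (fpfClasses G Ω) = TG.card by
        rw [Nat.card_eq_fintype_card, Fintype.card_subtype]] at this
    have hSGmem : ∀ C ∈ SG, ∃ u ∈ F, u ≠ 1 ∧ ConjClasses.mk u = C := by
      intro C hC
      obtain ⟨D, hD, rfl⟩ := Finset.mem_image.1 hC
      obtain ⟨x, hx, rfl⟩ := Finset.mem_image.1 hD
      obtain ⟨-, hxF, hx1⟩ := Finset.mem_filter.1 hx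
      exact ⟨x, hxF, fun e => hx1 (Subtype.ext e), rfl⟩
    have hd1 : Disjoint SG EG := Finset.disjoint_left.2 fun C hC hC' => by
      obtain ⟨u, hu, hu1, rfl⟩ := hSGmem C hC
      obtain ⟨x, hx, hxu⟩ := Finset.mem_image.1 hC'
      obtain ⟨g, hg⟩ := isConj_iff.1 (ConjClasses.mk_eq_mk_iff_isConj.1 hxu)
      have key : ∀ d, (x : G) • d = d → g • d = a := fun d hd => S.fix_only hu hu1 (by
        rw [← hg, mul_smul, mul_smul, inv_smul_smul, hd])
      exact S.ne (smul_left_cancel g ((key a x.2.1).trans (key b x.2.2).symm))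
    have hd2 : Disjoint (SG ∪ EG) TG := Finset.disjoint_left.2 fun C hC hC' => by
      rcases Finset.mem_union.1 hC with hC | hC
      · obtain ⟨u, hu, -, rfl⟩ := hSGmem C hC
        exact (Finset.mem_filter.1 hC').2 u rfl a (S.ker.le hu)
      · obtain ⟨x, -, rfl⟩ := Finset.mem_image.1 hC
        exact (Finset.mem_filter.1 hC').2 (x : G) rfl a x.2.1
    have h1 : ConjClasses.mk (1 : G) ∉ SG ∪ EG ∪ TG := by
      simp only [Finset.mem_union, not_or]
      refine ⟨⟨fun hC => ?_, fun hC => ?_⟩, fun hC => (Finset.mem_filter.1 hC).2 1 rfl a (one_smul G a)⟩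
      · obtain ⟨u, -, hu1, hu2⟩ := hSGmem _ hC
        exact hu1 (isConj_one_left.1 (ConjClasses.mk_eq_mk_iff_isConj.1 hu2))
      · obtain ⟨x, hx, hx2⟩ := Finset.mem_image.1 hC
        exact (Finset.mem_erase.1 hx).1 (Subtype.ext (isConj_one_left.1 (ConjClasses.mk_eq_mk_iff_isConj.1 hx2)))
    have h2 := Finset.card_le_univ (insert (ConjClasses.mk (1 : G)) (SG ∪ EG ∪ TG))
    rw [Finset.card_insert_of_notMem h1, Finset.card_union_of_disjoint hd2, Finset.card_union_of_disjoint hd1] at h2
    omega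
  obtain ⟨θ, hθ⟩ := exceptional_row c v f k e horth hrel hGram hf hk (principal G) hne hclasses hF3
  -- there are at least two members
  obtain ⟨i₁, hi₁⟩ : ∃ i : ι, i ≠ k := by
    by_contra! hall
    rw [Finset.sum_eq_single k (fun i _ h => absurd (hall i) h) (by simp), hk] at hF3
    omega
  have hθp : θ ≠ principal G := fun e' => by
    have := hθ k
    rw [e', hc0, if_pos rfl] at this
    exact one_ne_zero this.symm
  have hind : ∀ (l : pairStab G a b →* ℂˣ) (i : ι),
      classInner (indFun B (i.1 : B → ℂ)) (S.ind l) = (f i : ℂ) := by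
    intro l i
    have h0 : classInner (L l : B → ℂ) i.1 = 0 := inner_irr_ne fun e' => hLι l (e' ▸ i.2)
    have h1 := S.inner_indFun_kernel (S.ext l) (isCharacter_of_irr i.1.2) (hsupp i)
    change classInner (S.ind l) _ = classInner (L l : B → ℂ) i.1 + _ at h1
    rw [h0, zero_add, hfdeg, show S.ext l 1 = 1 by simp [ext]] at h1
    have : (e : ℂ) ≠ 0 := Nat.cast_ne_zero.2 Nat.card_pos.ne'
    rw [← inner_conj, h1]
    simp only [map_mul, map_div₀, map_natCast, map_one, one_mul, ← he]
    field_simp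
  -- `θ` has no constituent trivial on the kernel
  have hno : ∀ l, classInner (fun g : B => (θ : G → ℂ) g) (L l) = 0 := by
    intro l
    by_contra h0
    have h1 : classInner (θ : G → ℂ) (S.ind l) ≠ 0 := by
      rw [ind, inner_indFun_right _ _ (isClassFunction_irr θ)]; exact h0
    by_cases hl : l = 1
    · subst hl
      have h2 := hind 1 i₁
      rw [S.ind_one_eq θ hθp h1, CfsgLib.Chars.inner_add_right] at h2
      have h3 : classInner (indFun B (i₁.1 : B → ℂ)) ((principal G : IrrCharacter G) : G → ℂ) = 0 := by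
        rw [hc i₁ (principal G), hc0, Nat.cast_zero]
      have h4 : classInner (indFun B (i₁.1 : B → ℂ)) (θ : G → ℂ) = 0 := by
        rw [hc i₁ θ, hθ i₁, if_neg hi₁, Nat.cast_zero]
      rw [h3, h4, zero_add] at h2
      exact (hf i₁).ne' (Nat.cast_eq_zero.1 h2.symm)
    · have hfun : (θ : G → ℂ) = S.ind l := by
        by_contra hne'
        exact h1 (by rw [inner_irr_of_isIrr θ.2 (S.ind_isIrr l hl), if_neg hne'])
      have h3 : classInner (indFun B (i₁.1 : B → ℂ)) (θ : G → ℂ) = 0 := by
        rw [hc i₁ θ, hθ i₁, if_neg hi₁, Nat.cast_zero]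
      rw [hfun, hind l i₁] at h3
      exact (hf i₁).ne' (Nat.cast_eq_zero.1 h3)
  have hrestr : (fun g : B => (θ : G → ℂ) g) = (k.1 : B → ℂ) := by
    refine ext_inner_irr (isClassFunction_restrict B (isClassFunction_irr θ)) (isClassFunction_irr k.1) fun ψ => ?_
    by_cases hψ : ∃ x ∈ K, (ψ : B → ℂ) x ≠ (ψ : B → ℂ) 1
    · rw [hinner θ ⟨ψ, hψ⟩, hθ, inner_irr]
      by_cases hk' : (⟨ψ, hψ⟩ : ι) = k
      · rw [if_pos hk', if_pos (by rw [← hk'])]; simp
      · rw [if_neg hk', if_neg fun h => hk' (Subtype.ext h.symm)]; simp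
    · have hmem : ψ ∈ rest := Finset.mem_filter.2 ⟨Finset.mem_univ _, hψ⟩
      rw [hrest] at hmem
      obtain ⟨l, -, rfl⟩ := Finset.mem_image.1 hmem
      rw [hno l, inner_irr_ne fun e' : k.1 = L l => hLι l (e' ▸ k.2)]
  -- the degree bound
  set Φ : G → ℂ := fun g => (θ : G → ℂ) g * conj ((θ : G → ℂ) g) with hΦ
  have hΦc : IsCharacter G Φ := isCharacter_mul (isCharacter_of_irr θ.2) (isCharacter_conj (isCharacter_of_irr θ.2))
  have hΦl : ∀ l, classInner Φ (S.ind l) = 1 := by
    intro l
    rw [ind, inner_indFun_right _ _ (isClassFunction_of_isCharacter hΦc), ← inner_irr_self k.1, inner_def,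
      inner_def]
    refine congrArg _ (Finset.sum_congr rfl fun g _ => ?_)
    simp only [hΦ, show (θ : G → ℂ) g = (k.1 : B → ℂ) g from congrFun hrestr g]
    by_cases hg : (g : G) ∈ F
    · rw [show S.ext l g = 1 from hL1 l g hg, map_one, mul_one]
    · rw [hsupp k g hg]; simp
  have hΦ1 : classInner Φ (fun _ => 1) = 1 := by
    have h1 := inner_irr_self θ
    rw [inner_def] at h1 ⊢
    simpa [hΦ] using h1
  choose d hd using fun χ : IrrCharacter G => inner_irr_right_nat hΦc χ
  have hsum : e * e = ∑ χ : IrrCharacter G, d χ * charDegree (χ : G → ℂ) := by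
    apply Nat.cast_injective (R := ℂ)
    have h1 := congrFun (classFun_eq_sum (isClassFunction_of_isCharacter hΦc)) 1
    rw [Finset.sum_apply] at h1
    simp only [Pi.smul_apply, smul_eq_mul, hd] at h1
    have hθ1 : (θ : G → ℂ) 1 = (e : ℂ) := by
      have h2 := congrFun hrestr 1
      simp only [OneMemClass.coe_one, hfdeg, hk, Nat.cast_one, mul_one] at h2
      exact h2
    push_cast
    simp only [← CfsgLib.CharApps.deg_eq]
    rw [← h1]
    simp [hΦ, hθ1]
  let I : Finset (IrrCharacter G) := Finset.univ.filter fun χ => ∃ l, l ≠ 1 ∧ (χ : G → ℂ) = S.ind l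
  have hI : e ≤ 2 * I.card + 1 := by
    have h1 : ((Finset.univ : Finset (pairStab G a b →* ℂˣ)).erase 1).card ≤ 2 * I.card := by
      let J : (pairStab G a b →* ℂˣ) → IrrCharacter G := fun l =>
        if hl : l ≠ 1 then ⟨S.ind l, S.ind_isIrr l hl⟩ else principal G
      refine Finset.card_le_mul_card_image_of_maps_to (f := J) (fun l hl => ?_) 2 fun χ _ => ?_
      · have hl1 := (Finset.mem_erase.1 hl).1
        refine Finset.mem_filter.2 ⟨Finset.mem_univ _, l, hl1, ?_⟩
        simp only [J, dif_pos hl1]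
      · by_contra! h2
        obtain ⟨x, hx, y, hy, z, hz, hxy, hxz, hyz⟩ := Finset.two_lt_card.1 h2
        obtain ⟨hx0, hxχ⟩ := Finset.mem_filter.1 hx
        obtain ⟨hy0, hyχ⟩ := Finset.mem_filter.1 hy
        obtain ⟨hz0, hzχ⟩ := Finset.mem_filter.1 hz
        have key : ∀ p q : pairStab G a b →* ℂˣ, p ≠ 1 → q ≠ 1 → J p = χ → J q = χ → p = q ∨ p * q = 1 := by
          intro p q hp hq hpχ hqχ
          simp only [J, dif_pos hp] at hpχ
          simp only [J, dif_pos hq] at hqχ
          have heq : S.ind p = S.ind q := congrArg Subtype.val (hpχ.trans hqχ.symm)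
          have h4 : classInner (S.ind p) (S.ind q) = 1 := by
            rw [heq]; exact inner_irr_self ⟨_, S.ind_isIrr q hq⟩
          by_contra! h5
          rw [S.inner_ind, if_neg h5.1, if_neg h5.2, add_zero] at h4
          exact zero_ne_one h4
        have h1x := (key x y (Finset.mem_erase.1 hx0).1 (Finset.mem_erase.1 hy0).1 hxχ hyχ).resolve_left hxy
        have h2x := (key x z (Finset.mem_erase.1 hx0).1 (Finset.mem_erase.1 hz0).1 hxχ hzχ).resolve_left hxz
        exact hyz (mul_left_cancel (h1x.trans h2x.symm))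
    rw [Finset.card_erase_of_mem (Finset.mem_univ _), Finset.card_univ, hcardL] at h1
    omega
  have hIdeg : ∀ χ ∈ I, h + 1 ≤ d χ * charDegree (χ : G → ℂ) := by
    intro χ hχ
    obtain ⟨l, hl, hχl⟩ := (Finset.mem_filter.1 hχ).2
    have h1 : (d χ : ℂ) = 1 := by rw [← hd χ, hχl, hΦl]
    have h2 : (charDegree (χ : G → ℂ) : ℂ) = (h : ℂ) + 1 := by
      rw [← CfsgLib.CharApps.deg_eq, hχl, S.ind_one_apply]
    rw [show d χ = 1 by exact_mod_cast h1, one_mul]
    exact le_of_eq (by exact_mod_cast h2.symm)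
  have hpI : principal G ∉ I := fun hp => by
    obtain ⟨l, hl, hχl⟩ := (Finset.mem_filter.1 hp).2
    have h1 := congrFun hχl 1
    rw [principal_apply, S.ind_one_apply] at h1
    have h2 : (1 : ℕ) = h + 1 := by exact_mod_cast h1
    omega
  have hfin : 1 + I.card * (h + 1) ≤ e * e := by
    rw [hsum]
    have h1 : (d (principal G) : ℂ) = 1 := by
      rw [← hd]; exact hΦ1
    have h2 : charDegree ((principal G : IrrCharacter G) : G → ℂ) = 1 :=
      (CfsgLib.CharApps.deg_eq_one_iff _).1 (principal_apply 1)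
    calc 1 + I.card * (h + 1) ≤ d (principal G) * charDegree ((principal G : IrrCharacter G) : G → ℂ) +
          ∑ χ ∈ I, d χ * charDegree (χ : G → ℂ) := by
            refine Nat.add_le_add (by rw [h2, mul_one]; exact le_of_eq (by exact_mod_cast h1.symm)) ?_
            rw [← smul_eq_mul, ← Finset.sum_const]
            exact Finset.sum_le_sum hIdeg
      _ = ∑ χ ∈ insert (principal G) I, d χ * charDegree (χ : G → ℂ) := by rw [Finset.sum_insert hpI]
      _ ≤ _ := Finset.sum_le_sum_of_subset (Finset.subset_univ _)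
  obtain ⟨r, hr⟩ := S.inverted.odd
  rw [← he] at hr
  have hI2 : r ≤ I.card := by omega
  have hr0 : 0 < r := by
    have h1 : 1 < e := (Subgroup.one_lt_card_iff_ne_bot _).2 (pairStab_ne_bot S.zass S.ne)
    omega
  have h3 := (Nat.mul_le_mul_right (h + 1) hI2)
  rw [hr] at hfin hlt
  nlinarith

end CfsgLib.Perm.ZassG.Setup
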