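import Cfsg.Agent.Lib.Perm.ZassG.Counting
import Cfsg.Agent.Lib.Chars.Induction
import Cfsg.Agent.Lib.Chars.Linear

/-!
Characters of a Zassenhaus group induced from linear characters of a point stabiliser.
-/

open MulAction Cfsg
open CfsgLib.Chars
open scoped ComplexConjugate

namespace CfsgLib.Perm.ZassG

theorem sum_hom_eq {A : Type*} [Group A] [Fintype A] [DecidableEq (A →* ℂˣ)] (f : A →* ℂˣ) :
    ∑ x : A, (f x : ℂ) = if f = 1 then (Nat.card A : ℂ) else 0 := by
  split_ifs with h
  · simp [h, Nat.card_eq_fintype_card]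
  · exact sum_hom_units_eq_zero ((Units.coeHom ℂ).comp f) fun e => h (MonoidHom.ext fun x =>
      Units.ext (DFunLike.congr_fun e x))

theorem conj_hom {A : Type*} [Group A] [Finite A] (f : A →* ℂˣ) (x : A) :
    conj (f x : ℂ) = ((f⁻¹ : A →* ℂˣ) x : ℂ) := by
  rw [← char_inv (isCharacter_of_irr (isIrrCharacter_linear f)) x, MonoidHom.inv_apply, map_inv]

theorem card_dual {A : Type*} [Group A] [Finite A] (hc : ∀ x y : A, x * y = y * x) :
    Nat.card (A →* ℂˣ) = Nat.card A := by
  rw [card_monoidHom_units]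
  have : commutator A = ⊥ := by
    rw [eq_bot_iff, commutator_eq_closure, Subgroup.closure_le]
    rintro _ ⟨x, y, rfl⟩
    exact Subgroup.mem_bot.2 (commutatorElement_eq_one_iff_mul_comm.2 (hc x y))
  rw [this, Subgroup.index_bot]

theorem sum_dual {A : Type*} [Group A] [Finite A] [Fintype (A →* ℂˣ)] [DecidableEq A]
    (hc : ∀ x y : A, x * y = y * x) (x : A) :
    ∑ f : A →* ℂˣ, (f x : ℂ) = if x = 1 then (Nat.card A : ℂ) else 0 := by
  split_ifs with h
  · simp [h, ← card_dual hc, Nat.card_eq_fintype_card]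
  · letI : CommGroup A := { (inferInstance : Group A) with mul_comm := hc }
    haveI : NeZero (Monoid.exponent A : ℂ) := ⟨Nat.cast_ne_zero.mpr Monoid.exponent_ne_zero_of_finite⟩
    obtain ⟨g, hg⟩ := CommGroup.exists_apply_ne_one_of_hasEnoughRootsOfUnity A ℂ h
    exact sum_hom_units_eq_zero ((Units.coeHom ℂ).comp
      ({ toFun := fun f => f x, map_one' := rfl, map_mul' := fun _ _ => rfl } : (A →* ℂˣ) →* ℂˣ))
      fun e => hg (Units.ext (DFunLike.congr_fun e g))

/-- A Zassenhaus group with a kernel and an inverted two-point stabiliser. -/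
structure Setup {G Ω : Type*} [Group G] [MulAction G Ω] (a b : Ω) (F : Subgroup G) : Prop where
  zass : Cfsg.IsZassenhausGroup G Ω
  ne : a ≠ b
  ker : IsKernel a F
  inverted : Inverted G a b

namespace Setup

universe u

variable {G : Type u} {Ω : Type*} [Group G] [MulAction G Ω] [Fintype G] [Finite Ω] {a b : Ω}
  {F : Subgroup G} (S : Setup a b F)
include S

omit [Fintype G] [Finite Ω] in
theorem comm (x y : pairStab G a b) : x * y = y * x := by
  obtain ⟨w, hwa, hwb⟩ := exists_swap S.zass S.ne
  have h := S.inverted.inv w hwa hwb _ (mul_mem x.2 y.2)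
  rw [show w * ((x : G) * y) * w⁻¹ = (w * x * w⁻¹) * (w * y * w⁻¹) by group, S.inverted.inv w hwa hwb x x.2,
    S.inverted.inv w hwa hwb y y.2, ← mul_inv_rev, inv_inj] at h
  exact Subtype.ext h.symm

omit [Fintype G] [Finite Ω] in
theorem pair_le : pairStab G a b ≤ stabilizer G a := inf_le_left

/-- The decomposition of the point stabiliser. -/
noncomputable def prodEquiv : F × pairStab G a b ≃ stabilizer G a :=
  Equiv.ofBijective (fun p => ⟨p.1 * p.2, mul_mem (S.ker.le p.1.2) p.2.2.1⟩)
    ((Nat.bijective_iff_surjective_and_card _).2 ⟨fun g => by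
      obtain ⟨u, hu, h, hh, he⟩ := S.ker.exists_decomp S.ne g.2
      exact ⟨(⟨u, hu⟩, ⟨h, hh⟩), Subtype.ext he.symm⟩, by
      rw [Nat.card_prod, S.ker.card_stabilizer S.zass S.ne]⟩)

omit [Finite Ω] in
theorem prodEquiv_apply (p : F × pairStab G a b) : (S.prodEquiv p : G) = p.1 * p.2 := rfl

/-- The projection of the point stabiliser onto the two-point stabiliser. -/
noncomputable def proj : stabilizer G a →* pairStab G a b :=
  MonoidHom.mk' (fun g => (S.prodEquiv.symm g).2) fun g g' => by
    obtain ⟨p, rfl⟩ := S.prodEquiv.surjective g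
    obtain ⟨q, rfl⟩ := S.prodEquiv.surjective g'
    have e : S.prodEquiv p * S.prodEquiv q = S.prodEquiv
        (⟨p.1 * (p.2 * q.1 * (p.2 : G)⁻¹), mul_mem p.1.2 (S.ker.normal _ p.2.2.1 _ q.1.2)⟩, p.2 * q.2) := by
      refine Subtype.ext ?_
      show ((p.1 : G) * p.2) * (q.1 * q.2) = (p.1 : G) * (p.2 * q.1 * (p.2 : G)⁻¹) * (p.2 * q.2)
      group
    simp only [e, Equiv.symm_apply_apply]

omit [Finite Ω] in
theorem proj_mul (u : F) (x : pairStab G a b) :
    S.proj ⟨(u : G) * x, mul_mem (S.ker.le u.2) x.2.1⟩ = x :=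
  congrArg Prod.snd (S.prodEquiv.symm_apply_apply (u, x))

omit [Finite Ω] in
theorem proj_kernel (u : F) : S.proj (Subgroup.inclusion S.ker.le u) = 1 := by
  have h := S.proj_mul u 1
  simp only [OneMemClass.coe_one, mul_one] at h
  exact h

omit [Finite Ω] in
theorem proj_pair (x : pairStab G a b) : S.proj (Subgroup.inclusion S.pair_le x) = x := by
  have h := S.proj_mul 1 x
  simp only [OneMemClass.coe_one, one_mul] at h
  exact h

/-- Extension of a character of the two-point stabiliser to the point stabiliser. -/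
noncomputable def ext (l : pairStab G a b →* ℂˣ) : stabilizer G a → ℂ := fun g => (l (S.proj g) : ℂ)

/-- The induced character. -/
noncomputable def ind (l : pairStab G a b →* ℂˣ) : G → ℂ := indFun (stabilizer G a) (S.ext l)

omit [Finite Ω] in
theorem ext_isCharacter (l : pairStab G a b →* ℂˣ) : IsCharacter (stabilizer G a) (S.ext l) :=
  isCharacter_of_irr (isIrrCharacter_linear (l.comp S.proj))

omit [Finite Ω] in
theorem ind_isCharacter (l : pairStab G a b →* ℂˣ) : IsCharacter G (S.ind l) :=
  isCharacter_indFun _ (S.ext_isCharacter l)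

theorem index_stabilizer : (stabilizer G a).index = Nat.card F + 1 := by
  have := isPretransitive S.zass S.ne
  rw [index_stabilizer_of_transitive, ← S.ker.card_add_one S.ne]

theorem ind_one_apply (l : pairStab G a b →* ℂˣ) : S.ind l 1 = (Nat.card F : ℂ) + 1 := by
  rw [ind, indFun_one_apply, S.index_stabilizer, ext, map_one, map_one, Units.val_one, mul_one,
    Nat.cast_add, Nat.cast_one]

omit [Finite Ω] in
theorem ind_kernel (l : pairStab G a b →* ℂˣ) (u : F) (hu : u ≠ 1) : S.ind l u = 1 := by
  classical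
  have : ∀ y : G, extendByZero (stabilizer G a) (S.ext l) (y⁻¹ * u * y) =
      if y ∈ stabilizer G a then 1 else 0 := by
    intro y
    split_ifs with hy
    · have hm : y⁻¹ * u * y ∈ F := by simpa using S.ker.normal y⁻¹ (inv_mem hy) u u.2
      rw [extendByZero_of_mem _ _ (S.ker.le hm), ext,
        show (⟨_, S.ker.le hm⟩ : stabilizer G a) = Subgroup.inclusion S.ker.le ⟨_, hm⟩ from rfl,
        S.proj_kernel, map_one, Units.val_one]
    · refine extendByZero_of_not_mem _ _ fun h => hy ?_
      rw [mem_stabilizer_iff, mul_smul, mul_smul, inv_smul_eq_iff] at h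
      by_contra hya
      exact hu (Subtype.ext (S.ker.eq_one_of_fix u.2 hya h))
  rw [ind, indFun_apply, Finset.sum_congr rfl fun y _ => this y, Finset.sum_boole]
  rw [show (Finset.univ.filter fun y => y ∈ stabilizer G a).card = Nat.card (stabilizer G a) by
    rw [Nat.card_eq_fintype_card, Fintype.card_subtype]]
  exact inv_mul_cancel₀ (Nat.cast_ne_zero.2 Nat.card_pos.ne')

omit [Finite Ω] in
theorem ind_pair (l : pairStab G a b →* ℂˣ) (x : pairStab G a b) (hx : x ≠ 1) :
    S.ind l x = l x + l x⁻¹ := by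
  classical
  obtain ⟨s, hsa, hsb⟩ := exists_swap S.zass S.ne
  have hconj : ∀ (y : G) (z : pairStab G a b) (hy : y ∈ stabilizer G a),
      extendByZero (stabilizer G a) (S.ext l) (y⁻¹ * z * y) = l z := by
    intro y z hy
    have hm : y⁻¹ * z * y ∈ stabilizer G a := mul_mem (mul_mem (inv_mem hy) z.2.1) hy
    rw [extendByZero_of_mem _ _ hm, ext,
      show (⟨_, hm⟩ : stabilizer G a) = ⟨y, hy⟩⁻¹ * Subgroup.inclusion S.pair_le z * ⟨y, hy⟩ from rfl,
      map_mul, map_mul, map_mul, map_mul, map_inv, map_inv, S.proj_pair, mul_right_comm, inv_mul_cancel, one_mul]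
  have : ∀ y : G, extendByZero (stabilizer G a) (S.ext l) (y⁻¹ * x * y) =
      (if y ∈ stabilizer G a then (l x : ℂ) else 0) + (if s⁻¹ * y ∈ stabilizer G a then (l x⁻¹ : ℂ) else 0) := by
    intro y
    have hnb : y ∈ stabilizer G a → ¬ s⁻¹ * y ∈ stabilizer G a := fun h h' => by
      rw [mem_stabilizer_iff, mul_smul, mem_stabilizer_iff.1 h, inv_smul_eq_iff, hsa] at h'
      exact S.ne h'
    split_ifs with h1 h2 h2
    · exact absurd h2 (hnb h1)
    · rw [hconj y x h1, add_zero]
    · have hs : s⁻¹ * (x : G) * s = ((x⁻¹ : pairStab G a b) : G) := by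
        have h := S.inverted.inv s⁻¹ (by rw [inv_smul_eq_iff, hsb]) (by rw [inv_smul_eq_iff, hsa]) x x.2
        rwa [inv_inv] at h
      rw [show y⁻¹ * (x : G) * y = (s⁻¹ * y)⁻¹ * (s⁻¹ * (x : G) * s) * (s⁻¹ * y) by group, hs, hconj _ _ h2,
        zero_add]
    · rw [add_zero]
      refine extendByZero_of_not_mem _ _ fun h => ?_
      rw [mem_stabilizer_iff, mul_smul, mul_smul, inv_smul_eq_iff] at h
      rcases fixed_eq S.zass S.ne x.2 (fun e => hx (Subtype.ext e)) h with e | e
      · exact h1 e
      · exact h2 (by rw [mem_stabilizer_iff, mul_smul, e, inv_smul_eq_iff, hsa])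
  have hc : ∀ g : G, (Finset.univ.filter fun y => g * y ∈ stabilizer G a).card = Nat.card (stabilizer G a) := by
    intro g
    rw [Nat.card_eq_fintype_card, Fintype.card_subtype]
    exact Finset.card_equiv (Equiv.mulLeft g) (fun y => by simp)
  rw [ind, indFun_apply, Finset.sum_congr rfl fun y _ => this y, Finset.sum_add_distrib,
    ← Finset.sum_filter, ← Finset.sum_filter, Finset.sum_const, Finset.sum_const, hc,
    show (Finset.univ.filter fun y => y ∈ stabilizer G a).card = Nat.card (stabilizer G a) by simpa using hc 1,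
    nsmul_eq_mul, nsmul_eq_mul, ← mul_add, inv_mul_cancel_left₀ (Nat.cast_ne_zero.2 Nat.card_pos.ne')]

/-- Summation of a class function over the point stabiliser. -/
theorem sum_stabilizer [Fintype (stabilizer G a)] [Fintype F] [Fintype (pairStab G a b)]
    (f : stabilizer G a → ℂ) (hf : IsClassFunction (stabilizer G a) f) :
    ∑ g, f g = (∑ u : F, f (Subgroup.inclusion S.ker.le u)) +
      (Nat.card F : ℂ) * ((∑ x : pairStab G a b, f (Subgroup.inclusion S.pair_le x)) - f 1) := by
  classical
  have key : ∀ x : pairStab G a b, x ≠ 1 → ∀ u : F, f (S.prodEquiv (u, x)) = f (Subgroup.inclusion S.pair_le x) := by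
    intro x hx u
    obtain ⟨v, hv, he⟩ := exists_conj_in_kernel (G := G) S.zass S.ne S.ker u.2 x.2 (fun e => hx (Subtype.ext e))
    rw [← hf (Subgroup.inclusion S.pair_le x) ⟨v, S.ker.le hv⟩]
    exact congrArg f (Subtype.ext he.symm)
  have h1 : ∀ u : F, f (S.prodEquiv (u, 1)) = f (Subgroup.inclusion S.ker.le u) := fun u =>
    congrArg f (Subtype.ext (by rw [S.prodEquiv_apply, OneMemClass.coe_one, mul_one]; rfl))
  rw [← S.prodEquiv.sum_comp f, Fintype.sum_prod_type, Finset.sum_comm,
    Fintype.sum_eq_add_sum_compl (1 : pairStab G a b) (fun x => ∑ u : F, f (S.prodEquiv (u, x))),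
    Finset.sum_congr rfl fun u _ => h1 u,
    Finset.sum_congr rfl fun x hx => Finset.sum_congr rfl fun u _ => key x (by simpa using hx) u,
    Fintype.sum_eq_add_sum_compl (1 : pairStab G a b) (fun x => f (Subgroup.inclusion S.pair_le x)), map_one,
    add_sub_cancel_left, Finset.mul_sum]
  simp [Nat.card_eq_fintype_card]

open Classical in
theorem inner_ind (l l' : pairStab G a b →* ℂˣ) :
    classInner (S.ind l) (S.ind l') = (if l = l' then 1 else 0) + (if l * l' = 1 then (1 : ℂ) else 0) := by
  classical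
  have := Fintype.ofFinite (stabilizer G a)
  have := Fintype.ofFinite F
  have := Fintype.ofFinite (pairStab G a b)
  rw [ind, inner_indFun _ _ (isClassFunction_of_isCharacter (S.ind_isCharacter l')), inner_def,
    S.sum_stabilizer (fun g => S.ext l g * conj (S.ind l' g)) fun g h => by
      show S.ext l (h * g * h⁻¹) * conj (S.ind l' (h * g * h⁻¹ : stabilizer G a)) = _
      rw [isClassFunction_of_isCharacter (S.ext_isCharacter l) g h]
      congr 2
      simpa using isClassFunction_of_isCharacter (S.ind_isCharacter l') (g : G) h]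
  have hF : ∀ u : F, S.ext l (Subgroup.inclusion S.ker.le u) *
      conj (S.ind l' (Subgroup.inclusion S.ker.le u : stabilizer G a)) =
        1 + if u = 1 then (Nat.card F : ℂ) else 0 := by
    intro u
    rw [ext, S.proj_kernel, map_one, Units.val_one, one_mul, Subgroup.coe_inclusion]
    split_ifs with h
    · subst h; rw [OneMemClass.coe_one, S.ind_one_apply]; simp [add_comm]
    · rw [S.ind_kernel l' u h, map_one, add_zero]
  have hE : ∀ x : pairStab G a b, S.ext l (Subgroup.inclusion S.pair_le x) *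
      conj (S.ind l' (Subgroup.inclusion S.pair_le x : stabilizer G a)) =
        ((l * l'⁻¹ : pairStab G a b →* ℂˣ) x : ℂ) + ((l * l' : pairStab G a b →* ℂˣ) x : ℂ) +
          if x = 1 then (Nat.card F : ℂ) - 1 else 0 := by
    intro x
    rw [ext, S.proj_pair, Subgroup.coe_inclusion]
    split_ifs with h
    · subst h; rw [OneMemClass.coe_one, S.ind_one_apply]; simp; ring
    · rw [S.ind_pair l' x h, map_add, conj_hom, conj_hom, MonoidHom.inv_apply, MonoidHom.inv_apply,
        map_inv, inv_inv, MonoidHom.mul_apply, MonoidHom.mul_apply, MonoidHom.inv_apply, Units.val_mul,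
        Units.val_mul, mul_add, add_zero]
  have h1 : S.ext l 1 * conj (S.ind l' ((1 : stabilizer G a) : G)) = (Nat.card F : ℂ) + 1 := by
    rw [ext, map_one, map_one, OneMemClass.coe_one, S.ind_one_apply]; simp
  rw [Finset.sum_congr rfl fun u _ => hF u, Finset.sum_congr rfl fun x _ => hE x, h1,
    Finset.sum_add_distrib, Finset.sum_add_distrib, Finset.sum_add_distrib, sum_hom_eq, sum_hom_eq,
    Finset.sum_const, Finset.card_univ, Finset.sum_ite_eq', Finset.sum_ite_eq',
    if_pos (Finset.mem_univ _), if_pos (Finset.mem_univ _), nsmul_eq_mul, mul_one,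
    ← Nat.card_eq_fintype_card, S.ker.card_stabilizer S.zass S.ne, Nat.cast_mul]
  rw [if_congr (mul_inv_eq_one (G := pairStab G a b →* ℂˣ)) rfl rfl]
  have h0 : (Nat.card F : ℂ) ≠ 0 := Nat.cast_ne_zero.2 Nat.card_pos.ne'
  have h0' : (Nat.card (pairStab G a b) : ℂ) ≠ 0 := Nat.cast_ne_zero.2 Nat.card_pos.ne'
  split_ifs <;> field_simp <;> ring

omit [Fintype G] [Finite Ω] in
theorem sq_ne_one (l : pairStab G a b →* ℂˣ) (hl : l ≠ 1) : l * l ≠ 1 := by
  refine fun h => hl (MonoidHom.ext fun x => ?_)
  obtain ⟨r, hr⟩ := S.inverted.odd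
  have e : x = x ^ (r + 1) * x ^ (r + 1) := by
    rw [← pow_add, show r + 1 + (r + 1) = Nat.card (pairStab G a b) + 1 by omega, pow_succ, pow_card_eq_one',
      one_mul]
  rw [e, map_mul, ← MonoidHom.mul_apply, h]
  simp

theorem ind_isIrr (l : pairStab G a b →* ℂˣ) (hl : l ≠ 1) : IsIrrCharacter G (S.ind l) :=
  isIrrCharacter_iff_inner_self.2 ⟨S.ind_isCharacter l, by
    rw [S.inner_ind, if_pos rfl, if_neg (S.sq_ne_one l hl), add_zero]⟩

end Setup

end CfsgLib.Perm.ZassG
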