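import Cfsg.Agent.Lib.Perm.ZassG.Inversion

/-!
Normal subgroups of Zassenhaus groups, and Zassenhaus groups of odd degree.
-/

open MulAction
open CfsgLib.Base (IsFPF)

namespace CfsgLib.Perm.ZassG

variable {G Ω : Type*} [Group G] [MulAction G Ω] [Finite G] [Finite Ω]
  (hZ : Cfsg.IsZassenhausGroup G Ω) {a b : Ω} (hab : a ≠ b)
include hZ hab

/-- Every element of `F h` is conjugate to `h` under `F`, for `h ≠ 1` fixing two points. -/
theorem exists_conj_in_kernel {F : Subgroup G} (hF : IsKernel a F) {u h : G} (hu : u ∈ F)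
    (hh : h ∈ pairStab G a b) (hh1 : h ≠ 1) : ∃ v ∈ F, v * h * v⁻¹ = u * h := by
  let f : F → F := fun v => ⟨(v : G) * h * (v : G)⁻¹ * h⁻¹, by
    rw [show (v : G) * h * (v : G)⁻¹ * h⁻¹ = v * (h * (v : G)⁻¹ * h⁻¹) by group]
    exact mul_mem v.2 (hF.normal h hh.1 _ (inv_mem v.2))⟩
  have hinj : Function.Injective f := by
    intro v w hvw
    have e : (v : G) * h * (v : G)⁻¹ = w * h * (w : G)⁻¹ := mul_right_cancel (congrArg Subtype.val hvw)
    have hc : (w : G)⁻¹ * v ∈ F ⊓ Subgroup.centralizer ({h} : Set G) := by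
      refine Subgroup.mem_inf.2 ⟨mul_mem (inv_mem w.2) v.2, Subgroup.mem_centralizer_iff.2 fun x hx => ?_⟩
      rw [Set.mem_singleton_iff.1 hx]
      have := congrArg (fun t => (w : G)⁻¹ * t * v) e
      simpa [mul_assoc] using this.symm
    rw [(hF.isFPF hZ hab).2 h hh hh1, Subgroup.mem_bot, inv_mul_eq_one] at hc
    exact Subtype.ext hc.symm
  obtain ⟨v, hv⟩ := (Finite.injective_iff_surjective.1 hinj) ⟨u, hu⟩
  exact ⟨v, v.2, mul_inv_eq_iff_eq_mul.1 (congrArg Subtype.val hv)⟩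

theorem isPretransitive : IsPretransitive G Ω := by
  refine ⟨fun x y => ?_⟩
  rcases eq_or_ne x a with rfl | hx
  · exact exists_move_one hZ x y hab
  · exact exists_move_one hZ x y hx

omit [Finite G] [Finite Ω] in
/-- A non-trivial normal subgroup of a Zassenhaus group is transitive. -/
theorem normal_transitive (N : Subgroup G) [N.Normal] (hN : N ≠ ⊥) : IsPretransitive N Ω := by
  have := hZ.1
  have key : ∀ x : Ω, ∃ n : N, (n : G) • x ≠ x := by
    obtain ⟨m, hm, hm1⟩ := (Subgroup.bot_or_exists_ne_one N).resolve_left hN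
    obtain ⟨c, hc⟩ : ∃ c : Ω, m • c ≠ c := by
      by_contra! h
      exact hm1 (eq_of_smul_eq_smul (α := Ω) fun c => by rw [h c, one_smul])
    intro x
    obtain ⟨g, hg⟩ : ∃ g : G, g • c = x := by
      rcases eq_or_ne c a with rfl | hca
      · exact exists_move_one hZ c x hab
      · exact exists_move_one hZ c x hca
    refine ⟨⟨g * m * g⁻¹, (inferInstance : N.Normal).conj_mem m hm g⟩, ?_⟩
    rw [← hg, mul_smul, mul_smul, inv_smul_smul]
    exact fun h => hc (smul_left_cancel g h)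
  refine ⟨fun x y => ?_⟩
  rcases eq_or_ne x y with rfl | hxy
  · exact ⟨1, one_smul N x⟩
  obtain ⟨n, hn⟩ := key x
  obtain ⟨g, hgx, hgy⟩ := exists_move hZ x ((n : G) • x) x y (Ne.symm hn) hxy
  refine ⟨⟨g * n * g⁻¹, (inferInstance : N.Normal).conj_mem n n.2 g⟩, ?_⟩
  show (g * n * g⁻¹) • x = y
  have : g⁻¹ • x = x := inv_smul_eq_iff.2 hgx.symm
  rw [mul_smul, mul_smul, this, hgy]

/-- A non-trivial normal subgroup meets the two-point stabiliser and contains the kernel. -/
theorem normal_contains {F : Subgroup G} (hF : IsKernel a F) (N : Subgroup G) [hNn : N.Normal]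
    (hN : N ≠ ⊥) : F ≤ N ∧ ∃ h ∈ pairStab G a b, h ∈ N ∧ h ≠ 1 := by
  classical
  have htr := normal_transitive hZ hab N hN
  suffices h : ∃ h ∈ pairStab G a b, h ∈ N ∧ h ≠ 1 by
    refine ⟨fun u hu => ?_, h⟩
    obtain ⟨h, hh, hhN, hh1⟩ := h
    obtain ⟨v, -, he⟩ := exists_conj_in_kernel hZ hab hF hu hh hh1
    rw [show u = v * h * v⁻¹ * h⁻¹ from eq_mul_inv_of_mul_eq he.symm]
    exact mul_mem (hNn.conj_mem h hhN v) (inv_mem hhN)
  by_contra! hno
  -- the point stabiliser of `N` lies in `F`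
  have hle : ∀ g ∈ N, g • a = a → g ∈ F := by
    intro g hg hga
    obtain ⟨u, hu, h, hh, rfl⟩ := hF.exists_decomp hab hga
    by_contra hgF
    have hh1 : h ≠ 1 := fun e => hgF (by rw [e, mul_one]; exact hu)
    obtain ⟨v, -, he⟩ := exists_conj_in_kernel hZ hab hF hu hh hh1
    refine hh1 (hno h hh ?_)
    have := hNn.conj_mem _ hg v⁻¹
    rwa [← he, show v⁻¹ * (v * h * v⁻¹) * v⁻¹⁻¹ = h by group] at this
  set H := stabilizer N a with hH
  have hH0 : H ≠ ⊥ := by
    obtain ⟨x, hx⟩ := hZ.2.2.2.2 N hNn htr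
    obtain ⟨n, hn⟩ := exists_smul_eq N a x
    intro e
    refine hx (Subgroup.eq_bot_iff_forall _ |>.2 fun m hm => ?_)
    have hm' : n⁻¹ * m * n ∈ H := by
      rw [hH, mem_stabilizer_iff, mul_smul, mul_smul, hn, mem_stabilizer_iff.1 hm, inv_smul_eq_iff, hn]
    rw [e, Subgroup.mem_bot] at hm'
    calc m = n * (n⁻¹ * m * n) * n⁻¹ := by group
      _ = 1 := by rw [hm', mul_one, mul_inv_cancel]
  have hH1 : H ≠ ⊤ := fun e => by
    obtain ⟨n, hn⟩ := exists_smul_eq N a b
    exact hab ((mem_stabilizer_iff.1 (e ▸ Subgroup.mem_top n : n ∈ H)).symm.trans hn)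
  have hFC : Cfsg.IsFrobeniusComplement H := ⟨hH0, hH1, fun g hg => by
    rw [Subgroup.eq_bot_iff_forall]
    intro x hx
    obtain ⟨hx1, hx2⟩ := Subgroup.mem_inf.1 hx
    rw [Subgroup.mem_pointwise_smul_iff_inv_smul_mem, ← map_inv, MulAut.smul_def, MulAut.conj_apply,
      inv_inv, hH, mem_stabilizer_iff, mul_smul, mul_smul, inv_smul_eq_iff] at hx2
    exact Subtype.ext (hF.eq_one_of_fix (hle x x.2 hx1) (c := (g : G) • a) hg hx2)⟩
  obtain ⟨K, -, hKn, hKc, -, -⟩ := CfsgLib.Base.Frobenius.exists_isFPF hFC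
  have hn : Nat.card K = Nat.card Ω := by
    have h := hKc.index_eq_card
    rw [hH, index_stabilizer_of_transitive] at h
    exact h.symm
  have hcop : (Nat.card K).Coprime K.index := by
    rw [hKc.symm.index_eq_card, hn]
    have hdvd : Nat.card H ∣ Nat.card F := by
      have hmap : H.map N.subtype ≤ F := by
        rintro _ ⟨x, hx, rfl⟩
        exact hle x x.2 hx
      have := Subgroup.card_dvd_of_le hmap
      rwa [Subgroup.card_map_of_injective N.subtype_injective] at this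
    refine Nat.Coprime.coprime_dvd_right hdvd ?_
    rw [← hF.card_add_one hab]
    exact (Nat.coprime_self_add_left.2 (Nat.coprime_one_left _))
  -- the kernel is invariant
  have hKG : (K.map N.subtype).Normal := ⟨by
    rintro _ ⟨k, hk, rfl⟩ g
    refine ⟨MulAut.conjNormal g k, ?_, MulAut.conjNormal_apply g k⟩
    rw [SetLike.mem_coe, ← QuotientGroup.eq_one_iff, ← orderOf_eq_one_iff]
    refine Nat.eq_one_of_dvd_coprimes hcop ?_ (orderOf_dvd_natCard _)
    refine (orderOf_map_dvd (QuotientGroup.mk' K) _).trans ?_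
    rw [MulEquiv.orderOf_eq]
    exact K.orderOf_dvd_natCard hk⟩
  have hKtr : IsPretransitive (K.map N.subtype) Ω := IsPretransitive.mk fun x y => by
    have key : ∀ z, ∃ k ∈ K, (k : N) • a = z := fun z => by
      obtain ⟨n, hnz⟩ := exists_smul_eq N a z
      obtain ⟨⟨k, h⟩, hkh⟩ := hKc.2 n
      refine ⟨k, k.2, ?_⟩
      rw [← hnz, ← hkh]
      show (k : N) • a = ((k : N) * (h : N)) • a
      rw [mul_smul, mem_stabilizer_iff.1 h.2]
    obtain ⟨kx, hkx, ex⟩ := key x
    obtain ⟨ky, hky, ey⟩ := key y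
    refine ⟨⟨(ky * kx⁻¹ : N), Subgroup.mem_map_of_mem N.subtype (mul_mem hky (inv_mem hkx))⟩, ?_⟩
    show (ky * kx⁻¹) • x = y
    rw [mul_smul, ← ex, inv_smul_smul, ey]
  obtain ⟨x, hx⟩ := hZ.2.2.2.2 _ hKG hKtr
  obtain ⟨⟨m, hm⟩, hmx, hm1⟩ := (Subgroup.bot_or_exists_ne_one _).resolve_left hx
  obtain ⟨k, hk, rfl⟩ := hm
  obtain ⟨n, hnx⟩ := exists_smul_eq N a x
  have hk' : n⁻¹ * k * n ∈ K ⊓ H := by
    refine ⟨by simpa using hKn.conj_mem k hk n⁻¹, ?_⟩
    show (n⁻¹ * k * n) • a = a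
    rw [mul_smul, mul_smul, hnx, show k • x = x from hmx, inv_smul_eq_iff, hnx]
  rw [disjoint_iff.1 hKc.disjoint, Subgroup.mem_bot] at hk'
  refine hm1 (Subtype.ext ?_)
  show ((k : N) : G) = 1
  rw [show k = n * (n⁻¹ * k * n) * n⁻¹ by group, hk', mul_one, mul_inv_cancel, OneMemClass.coe_one]

/-- A non-trivial normal subgroup is doubly transitive. -/
theorem normal_two_transitive (N : Subgroup G) [N.Normal] (hN : N ≠ ⊥) :
    IsMultiplyPretransitive N Ω 2 := by
  obtain ⟨F, hF⟩ := exists_kernel hZ hab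
  have hFN := (normal_contains hZ hab hF N hN).1
  have := normal_transitive hZ hab N hN
  rw [is_two_pretransitive_iff]
  intro x y z w hxy hzw
  obtain ⟨n₁, h1⟩ := exists_smul_eq N x a
  obtain ⟨n₂, h2⟩ := exists_smul_eq N z a
  have hy : n₁ • y ≠ a := fun e => hxy (smul_left_cancel n₁ (h1.trans e.symm))
  have hw : n₂ • w ≠ a := fun e => hzw (smul_left_cancel n₂ (h2.trans e.symm))
  obtain ⟨⟨u, hu⟩, huy, -⟩ := hF.regular _ _ hy hw
  let u' : N := ⟨u, hFN hu⟩
  have hu' : u' • a = a := hF.le hu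
  exact ⟨n₂⁻¹ * u' * n₁, by rw [mul_smul, mul_smul, h1, hu', inv_smul_eq_iff, h2],
    by rw [mul_smul, mul_smul, show u' • n₁ • y = n₂ • w from huy, inv_smul_smul]⟩

/-- A regular normal subgroup of a non-trivial normal subgroup would be one of the whole group. -/
theorem normal_isZassenhausGroup (N : Subgroup G) [hNn : N.Normal] (hN : N ≠ ⊥) :
    Cfsg.IsZassenhausGroup N Ω := by
  classical
  have := hZ.1
  obtain ⟨F, hF⟩ := exists_kernel hZ hab
  obtain ⟨-, h, hh, hhN, hh1⟩ := normal_contains hZ hab hF N hN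
  have h2 := normal_two_transitive hZ hab N hN
  refine ⟨inferInstance, h2, fun g x y z hxy hyz hxz hx hy hz =>
    Subtype.ext (hZ.2.2.1 g x y z hxy hyz hxz hx hy hz),
    ⟨⟨h, hhN⟩, fun e => hh1 (congrArg Subtype.val e), a, b, hab, hh.1, hh.2⟩, fun M hM htr => ?_⟩
  by_contra! hreg
  -- a regular normal subgroup of a doubly transitive group is its own centraliser
  have hfree : ∀ m : M, ∀ x : Ω, m • x = x → m = 1 := fun m x hx => by
    have : m ∈ stabilizer M x := hx
    rwa [hreg x, Subgroup.mem_bot] at this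
  have hord : ∀ m m' : M, m ≠ 1 → m' ≠ 1 → orderOf m = orderOf m' := by
    intro m m' hm hm'
    obtain ⟨n, hna, hnm⟩ := is_two_pretransitive_iff.1 h2
      (show a ≠ m • a from fun e => hm (hfree m a e.symm)) (show a ≠ m' • a from fun e => hm' (hfree m' a e.symm))
    have he : (⟨n * (m : N) * n⁻¹, hM.conj_mem m m.2 n⟩ : M) = m' := by
      refine mul_inv_eq_one.1 (hfree _ (m' • a) ?_)
      have h1 : n⁻¹ • a = a := inv_smul_eq_iff.2 hna.symm
      show ((n * (m : N) * n⁻¹) * (m' : N)⁻¹) • (m' : N) • a = (m' : N) • a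
      rw [mul_smul, inv_smul_smul, mul_smul, mul_smul, h1]
      exact hnm
    rw [← he, ← Subgroup.orderOf_coe m]
    exact (MulEquiv.orderOf_eq (MulAut.conj n) (m : N)).symm.trans
      (Subgroup.orderOf_coe (⟨n * (m : N) * n⁻¹, hM.conj_mem m m.2 n⟩ : M))
  have hnt : Nontrivial M := by
    obtain ⟨m, hm⟩ := exists_smul_eq M a b
    exact ⟨m, 1, fun e => hab (by rw [← hm, e, one_smul])⟩
  obtain ⟨p, hp, hpd⟩ := Nat.exists_prime_and_dvd (Finite.one_lt_card (α := M)).ne'
  have := Fact.mk hp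
  obtain ⟨m₀, hm₀⟩ := exists_prime_orderOf_dvd_card' p hpd
  have hm₀1 : m₀ ≠ 1 := fun e => hp.one_lt.ne' (hm₀ ▸ e ▸ orderOf_one)
  have hexp : ∀ m : M, m ^ p = 1 := fun m => by
    rcases eq_or_ne m 1 with rfl | hm
    · exact one_pow p
    · rw [← hm₀, hord m₀ m hm₀1 hm, pow_orderOf_eq_one]
  have hpg : IsPGroup p M := fun m => ⟨1, by rw [pow_one]; exact hexp m⟩
  have := hpg.center_nontrivial
  obtain ⟨z, hz1⟩ := exists_ne (1 : Subgroup.center M)
  have hcomm : ∀ m m' : M, m * m' = m' * m := by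
    intro m m'
    rcases eq_or_ne m 1 with rfl | hm
    · simp
    obtain ⟨n, hna, hnm⟩ := is_two_pretransitive_iff.1 h2
      (show a ≠ (z : M) • a from fun e => hz1 (Subtype.ext (hfree z a e.symm)))
      (show a ≠ m • a from fun e => hm (hfree m a e.symm))
    have he : (⟨n * ((z : M) : N) * n⁻¹, hM.conj_mem _ (z : M).2 n⟩ : M) = m := by
      refine mul_inv_eq_one.1 (hfree _ (m • a) ?_)
      have h1 : n⁻¹ • a = a := inv_smul_eq_iff.2 hna.symm
      show ((n * ((z : M) : N) * n⁻¹) * (m : N)⁻¹) • (m : N) • a = (m : N) • a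
      rw [mul_smul, inv_smul_smul, mul_smul, mul_smul, h1]
      exact hnm
    have hw : (⟨n⁻¹ * (m' : N) * n, by simpa using hM.conj_mem _ m'.2 n⁻¹⟩ : M) * z =
        z * ⟨n⁻¹ * (m' : N) * n, by simpa using hM.conj_mem _ m'.2 n⁻¹⟩ := Subgroup.mem_center_iff.1 z.2 _
    have hw' := congrArg (fun t : M => n * (t : N) * n⁻¹) hw
    refine Subtype.ext ?_
    rw [← he]
    simp only [Subgroup.coe_mul] at hw' ⊢
    simpa [mul_assoc] using hw'.symm
  have hself : ∀ c : N, (∀ m : M, (m : N) * c = c * m) → c ∈ M := by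
    intro c hc
    obtain ⟨m₁, hm₁⟩ := exists_smul_eq M a (c • a)
    suffices he : c = m₁ by rw [he]; exact m₁.2
    refine eq_of_smul_eq_smul (α := Ω) fun x => ?_
    obtain ⟨m, rfl⟩ := exists_smul_eq M a x
    show c • (m : N) • a = (m₁ : N) • (m : N) • a
    calc c • (m : N) • a = (m : N) • c • a := by rw [← mul_smul, ← hc m, mul_smul]
      _ = (m : N) • (m₁ : N) • a := by rw [← hm₁]; rfl
      _ = ((m * m₁ : M) : N) • a := (mul_smul _ _ _).symm
      _ = (m₁ : N) • (m : N) • a := by rw [hcomm m m₁]; exact mul_smul _ _ _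
  have hKG : (M.map N.subtype).Normal := ⟨by
    rintro _ ⟨m, hm, rfl⟩ g
    refine ⟨MulAut.conjNormal g m, ?_, MulAut.conjNormal_apply g m⟩
    by_contra hout
    let θ := MulAut.conjNormal g (H := N)
    let M' := M.map θ.toMonoidHom
    have hM' : M'.Normal := hM.map θ.toMonoidHom θ.surjective
    rcases Subgroup.bot_or_exists_ne_one (M ⊓ M') with hbot | ⟨y, ⟨hy, hy'⟩, hy1⟩
    · refine hout (hself _ fun m' => ?_)
      exact (Subgroup.commute_of_normal_of_disjoint M M' hM hM' (disjoint_iff.2 hbot) _ _ m'.2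
        ⟨m, hm, rfl⟩).eq
    · have hsub : ∀ w : M, (w : N) ∈ M' := by
        intro w
        rcases eq_or_ne w 1 with rfl | hw
        · exact one_mem M'
        obtain ⟨n, hna, hnm⟩ := is_two_pretransitive_iff.1 h2
          (show a ≠ (⟨y, hy⟩ : M) • a from fun e => hy1 (congrArg Subtype.val (hfree ⟨y, hy⟩ a e.symm)))
          (show a ≠ w • a from fun e => hw (hfree w a e.symm))
        have he : (⟨n * y * n⁻¹, hM.conj_mem _ hy n⟩ : M) = w := by
          refine mul_inv_eq_one.1 (hfree _ (w • a) ?_)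
          have h1 : n⁻¹ • a = a := inv_smul_eq_iff.2 hna.symm
          show ((n * y * n⁻¹) * (w : N)⁻¹) • (w : N) • a = (w : N) • a
          rw [mul_smul, inv_smul_smul, mul_smul, mul_smul, h1]
          exact hnm
        rw [← he]
        exact hM'.conj_mem y hy' n
      refine hout ?_
      have heq : M = M' := Subgroup.eq_of_le_of_card_ge (fun w hw => hsub ⟨w, hw⟩)
        (Subgroup.card_map_of_injective θ.injective).le
      exact heq ▸ ⟨m, hm, rfl⟩⟩
  have hKtr : IsPretransitive (M.map N.subtype) Ω := IsPretransitive.mk fun x y => by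
    obtain ⟨m, hm⟩ := exists_smul_eq M x y
    exact ⟨⟨(m : N), Subgroup.mem_map_of_mem N.subtype m.2⟩, hm⟩
  obtain ⟨x, hx⟩ := hZ.2.2.2.2 _ hKG hKtr
  obtain ⟨⟨w, hw⟩, hwx, hw1⟩ := (Subgroup.bot_or_exists_ne_one _).resolve_left hx
  obtain ⟨m, hm, rfl⟩ := hw
  exact hw1 (Subtype.ext (congrArg (fun t : M => ((t : N) : G)) (hfree ⟨m, hm⟩ x hwx)))

/-- A Zassenhaus group of odd degree is simple. -/
theorem odd_degree_simple (hodd : Odd (Nat.card Ω)) : IsSimpleGroup G := by
  classical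
  have := hZ.1
  have := isPretransitive hZ hab
  have := Fintype.ofFinite Ω
  obtain ⟨F, hF⟩ := exists_kernel hZ hab
  have hn := hF.card_add_one hab
  have hnΩ : 2 ≤ Nat.card Ω := by
    have : Nontrivial Ω := ⟨a, b, hab⟩
    exact Finite.one_lt_card
  set e := Nat.card (pairStab G a b) with he
  have hdvd : e ∣ Nat.card F - 1 := hF.card_pairStab_dvd hZ hab
  rw [Nat.odd_iff] at hodd
  have heodd : Odd e := (show Odd (Nat.card F - 1) by rw [Nat.odd_iff]; omega).of_dvd_nat hdvd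
  have hEodd : ∀ h ∈ pairStab G a b, h * h = 1 → h = 1 := by
    intro h hh h2
    rw [← orderOf_eq_one_iff]
    exact Nat.eq_one_of_dvd_coprimes (Nat.coprime_two_left.2 heodd)
      (orderOf_dvd_of_pow_eq_one (by rw [pow_two]; exact h2)) ((pairStab G a b).orderOf_dvd_natCard hh)
  let I := {t : G // t ≠ 1 ∧ t * t = 1}
  have hfix : ∀ t : I, ∃! c : Ω, (t : G) • c = c := by
    intro t
    have hle := card_fixedBy_le hZ t.2.1
    have hpar := card_fixedBy_parity (Ω := Ω) t.2.2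
    rw [Nat.even_iff, Nat.even_iff, ← Nat.card_eq_fintype_card] at hpar
    obtain ⟨x, hx⟩ := Set.ncard_eq_one.1 ((Nat.card_coe_set_eq _).symm.trans
      (show Nat.card (fixedBy Ω (t : G)) = 1 by omega))
    exact ⟨x, (Set.ext_iff.1 hx x).2 rfl, fun y hy => (Set.ext_iff.1 hx y).1 hy⟩
  choose π hπ hπu using fun t => (hfix t)
  have hIconj : ∀ (g : G) (t : I), g * t * g⁻¹ ≠ 1 ∧ g * t * g⁻¹ * (g * t * g⁻¹) = 1 := fun g t =>
    ⟨fun h => t.2.1 (conj_eq_one_iff.1 h), by
      rw [show g * (t : G) * g⁻¹ * (g * t * g⁻¹) = g * (t * t) * g⁻¹ by group, t.2.2, mul_one, mul_inv_cancel]⟩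
  let cj : G → I ≃ I := fun g =>
    { toFun := fun t => ⟨g * t * g⁻¹, hIconj g t⟩
      invFun := fun t => ⟨g⁻¹ * t * g⁻¹⁻¹, hIconj g⁻¹ t⟩
      left_inv := fun t => Subtype.ext (by simp [mul_assoc])
      right_inv := fun t => Subtype.ext (by simp [mul_assoc]) }
  have hπc : ∀ g t, π (cj g t) = g • π t := fun g t => (hπu _ _ (by
    show (g * (t : G) * g⁻¹) • g • π t = g • π t
    rw [mul_smul, mul_smul, inv_smul_smul, hπ])).symm
  let k := Nat.card {t : I // π t = a}
  let m := Nat.card {t : I // (t : G) • a = b}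
  have hk : ∀ c, Nat.card {t : I // π t = c} = k := fun c => by
    obtain ⟨g, hg⟩ := exists_smul_eq G a c
    exact (Nat.card_congr ((cj g).subtypeEquiv fun t => by
      rw [hπc, ← hg]; exact ⟨fun h => by rw [h], fun h => smul_left_cancel g h⟩)).symm
  have hI : Nat.card I = Nat.card Ω * k := by
    rw [← Nat.card_congr (Equiv.sigmaFiberEquiv π), Nat.card_sigma, Finset.sum_congr rfl fun c _ => hk c,
      Finset.sum_const, Finset.card_univ, smul_eq_mul, Nat.card_eq_fintype_card (α := Ω)]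
  have hI' : Nat.card I = k + (Nat.card Ω - 1) * m := by
    rw [← Nat.card_congr (Equiv.sigmaFiberEquiv fun t : I => (t : G) • a), Nat.card_sigma,
      ← Finset.add_sum_erase _ _ (Finset.mem_univ a)]
    congr 1
    · exact Nat.card_congr ((Equiv.refl I).subtypeEquiv fun t => ⟨fun h => (hπu t a h).symm, fun h => h ▸ hπ t⟩)
    · rw [Finset.sum_congr rfl fun c hc => ?_, Finset.sum_const, Finset.card_erase_of_mem (Finset.mem_univ a),
        Finset.card_univ, smul_eq_mul, Nat.card_eq_fintype_card (α := Ω)]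
      obtain ⟨g, hg, hgb⟩ := exists_stab_move hZ a hab.symm (Finset.ne_of_mem_erase hc)
      refine (Nat.card_congr ((cj g).subtypeEquiv fun t => ?_)).symm
      show (t : G) • a = b ↔ (g * t * g⁻¹) • a = c
      rw [mul_smul, mul_smul, show g⁻¹ • a = a from inv_smul_eq_iff.2 hg.symm, ← hgb]
      exact ⟨fun h => by rw [h], fun h => smul_left_cancel g h⟩
  have hmk : m = k := by
    rw [hI] at hI'
    obtain ⟨r, hr⟩ : ∃ r, Nat.card Ω = r + 2 := ⟨Nat.card Ω - 2, by omega⟩
    rw [hr, show r + 2 - 1 = r + 1 by omega, add_mul, add_mul] at hI'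
    have : (r + 1) * m = (r + 1) * k := by rw [add_mul, add_mul]; omega
    exact Nat.eq_of_mul_eq_mul_left (by omega) this
  have hek : e ≤ k := by
    have : Fact (Nat.Prime 2) := ⟨Nat.prime_two⟩
    obtain ⟨w, hw⟩ := exists_prime_orderOf_dvd_card' 2 (show 2 ∣ Nat.card F by omega)
    have hw2 : (w : G) * w = 1 := by
      rw [← Subgroup.coe_mul, ← pow_two, ← hw, pow_orderOf_eq_one, OneMemClass.coe_one]
    have hw1 : (w : G) ≠ 1 := fun e => by
      rw [← Subgroup.orderOf_coe, e, orderOf_one] at hw; omega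
    refine Nat.card_le_card_of_injective
      (fun h : pairStab G a b => (⟨cj h ⟨w, hw1, hw2⟩, (hπu _ a (by
        show ((h : G) * w * (h : G)⁻¹) • a = a
        exact hF.le (hF.normal h h.2.1 w w.2))).symm⟩ : {t : I // π t = a})) ?_
    intro x y hxy
    have e' : (x : G) * w * (x : G)⁻¹ = y * w * (y : G)⁻¹ := congrArg (fun t => ((t : {t : I // π t = a}).1 : G)) hxy
    have hc : (w : G) ∈ F ⊓ Subgroup.centralizer ({(y : G)⁻¹ * x} : Set G) := by
      refine Subgroup.mem_inf.2 ⟨w.2, Subgroup.mem_centralizer_iff.2 fun t ht => ?_⟩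
      rw [Set.mem_singleton_iff.1 ht]
      have := congrArg (fun t => (y : G)⁻¹ * t * x) e'
      simpa [mul_assoc] using this
    by_contra hne
    rw [(hF.isFPF hZ hab).2 _ (mul_mem (inv_mem y.2) x.2)
      (fun h => hne (Subtype.ext (inv_mul_eq_one.1 h).symm)), Subgroup.mem_bot] at hc
    exact hw1 hc
  obtain ⟨s₀, hs₀a, hs₀b⟩ := exists_swap hZ hab
  -- every element exchanging the two points is an involution
  let j : {t : I // (t : G) • a = b} → {t : G // t • a = b ∧ t • b = a} := fun t =>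
    ⟨t.1.1, t.2, (congrArg (t.1.1 • ·) t.2).symm.trans (by rw [← mul_smul, t.1.2.2, one_smul])⟩
  have hj : Function.Injective j := fun x y h => Subtype.ext (Subtype.ext (congrArg Subtype.val h :))
  have hcardj : Nat.card {t : G // t • a = b ∧ t • b = a} ≤ Nat.card {t : I // (t : G) • a = b} := by
    rw [card_swappers hZ hab hs₀a hs₀b]
    show e ≤ m
    omega
  have hjs := ((Nat.bijective_iff_injective_and_card j).2 ⟨hj, le_antisymm (Nat.card_le_card_of_injective j hj) hcardj⟩).2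
  have hswap : ∀ t : G, t • a = b → t • b = a → t ≠ 1 ∧ t * t = 1 := fun t h1 h2 => by
    obtain ⟨⟨⟨t', ht'⟩, _⟩, ht⟩ := hjs ⟨t, h1, h2⟩
    obtain rfl : t' = t := congrArg Subtype.val ht
    exact ht'
  -- so it lies in every non-trivial normal subgroup
  have : Nontrivial G := ⟨s₀, 1, (hswap s₀ hs₀a hs₀b).1⟩
  refine ⟨fun N hN => or_iff_not_imp_left.2 fun hN1 => ?_⟩
  obtain ⟨hFN, -⟩ := normal_contains hZ hab hF N hN1
  have hinv : ∀ t : G, t ≠ 1 → t * t = 1 → t ∈ N := by
    intro t ht1 ht2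
    obtain ⟨g, hg⟩ := exists_smul_eq G a (π ⟨t, ht1, ht2⟩)
    have ht : (g⁻¹ * t * g) • a = a := by
      rw [mul_smul, mul_smul, hg, hπ ⟨t, ht1, ht2⟩, inv_smul_eq_iff, hg]
    obtain ⟨u, hu, h, hh, heq⟩ := hF.exists_decomp hab ht
    have h2 : h = 1 := by
      by_contra hh1
      obtain ⟨v, -, hv⟩ := exists_conj_in_kernel hZ hab hF hu hh hh1
      refine hh1 (hEodd h hh ?_)
      rw [← heq] at hv
      have e2 : v * (h * h) * v⁻¹ = 1 := by
        calc v * (h * h) * v⁻¹ = (v * h * v⁻¹) * (v * h * v⁻¹) := by group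
          _ = g⁻¹ * (t * t) * g := by rw [hv]; group
          _ = 1 := by rw [ht2, mul_one, inv_mul_cancel]
      exact conj_eq_one_iff.1 e2
    rw [h2, mul_one] at heq
    have := hN.conj_mem _ (hFN (heq ▸ hu : g⁻¹ * t * g ∈ F)) g
    rwa [show g * (g⁻¹ * t * g) * g⁻¹ = t by group] at this
  have hEN : ∀ h ∈ pairStab G a b, h ∈ N := by
    intro h hh
    have hs : (s₀ * h) • a = b ∧ (s₀ * h) • b = a :=
      ⟨by rw [mul_smul, mem_stabilizer_iff.1 hh.1, hs₀a], by rw [mul_smul, mem_stabilizer_iff.1 hh.2, hs₀b]⟩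
    obtain ⟨h1, h2⟩ := hswap _ hs.1 hs.2
    obtain ⟨h1', h2'⟩ := hswap _ hs₀a hs₀b
    have := mul_mem (inv_mem (hinv s₀ h1' h2')) (hinv _ h1 h2)
    rwa [inv_mul_cancel_left] at this
  rw [eq_top_iff]
  intro g _
  have := normal_transitive hZ hab N hN1
  obtain ⟨n, hn'⟩ := exists_smul_eq N a (g • a)
  obtain ⟨u, hu, h, hh, heq⟩ := hF.exists_decomp hab (g := (n : G)⁻¹ * g) (by
    rw [mem_stabilizer_iff, mul_smul, inv_smul_eq_iff]; exact hn'.symm)
  rw [show g = (n : G) * (u * h) by rw [← heq, mul_inv_cancel_left]]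
  exact mul_mem n.2 (mul_mem (hFN hu) (hEN h hh))

end CfsgLib.Perm.ZassG
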