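import Cfsg.Agent.Lib.Perm.ZassG.Sharp3
import Cfsg.Agent.Lib.Perm.LinearIndexTwo

/-!
Sharply triply transitive Zassenhaus groups with two-point stabilisers of even order: the stabiliser
has an invariant subgroup of index two, and the group is not simple.
-/

open MulAction Cfsg

namespace CfsgLib.Perm.ZassG

variable {G Ω : Type*} [Group G] [MulAction G Ω] [Finite G] [Finite Ω]
  (hZ : Cfsg.IsZassenhausGroup G Ω) {a b : Ω} (hab : a ≠ b)
  (hcard : Nat.card (pairStab G a b) + 2 = Nat.card Ω)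
include hZ hab hcard

/-- Three distinct points go to three distinct points. -/
theorem exists_move_three {x y z x' y' z' : Ω} (h1 : x ≠ y) (h2 : x ≠ z) (h3 : y ≠ z)
    (h1' : x' ≠ y') (h2' : x' ≠ z') (h3' : y' ≠ z') :
    ∃ g : G, g • x = x' ∧ g • y = y' ∧ g • z = z' := by
  have emb : ∀ u v w : Ω, u ≠ v → u ≠ w → v ≠ w → Function.Injective ![u, v, w] := fun u v w h1 h2 h3 i j hij => by
    fin_cases i <;> fin_cases j <;> simp_all [eq_comm]
  have h3t := (three_transitive hZ hab hcard).1.exists_smul_eq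
  obtain ⟨g, hg⟩ := h3t ⟨_, emb x y z h1 h2 h3⟩ ⟨_, emb x' y' z' h1' h2' h3'⟩
  exact ⟨g, DFunLike.congr_fun hg 0, DFunLike.congr_fun hg 1, DFunLike.congr_fun hg 2⟩

/-- The two-point stabiliser contains at most two elements of order three. -/
theorem card_order_three : Nat.card {x : pairStab G a b // orderOf (x : G) = 3} ≤ 2 := by
  classical
  rcases isEmpty_or_nonempty {x : pairStab G a b // orderOf (x : G) = 3} with h | ⟨⟨y, hy⟩⟩
  · rw [Nat.card_of_isEmpty]; omega
  obtain ⟨c, hca, hcb⟩ := exists_third hZ hab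
  have key : ∀ (x : {x : pairStab G a b // orderOf (x : G) = 3}) (d : {d : Ω // d ≠ a ∧ d ≠ b}),
      ∃ g : G, g • c = d ∧ g * (y : G) * g⁻¹ = (x.1 : G) ∧
        ((g • a = a ∧ g • b = b) ∨ (g • a = b ∧ g • b = a)) := by
    rintro ⟨x, hx⟩ ⟨d, hda, hdb⟩
    have hdist : ∀ (x : pairStab G a b) (d : Ω), orderOf (x : G) = 3 → d ≠ a → d ≠ b →
        d ≠ (x : G) • d ∧ d ≠ (x : G) • (x : G) • d ∧ (x : G) • d ≠ (x : G) • (x : G) • d := by
      intro x d hx hda hdb
      have hx1 : (x : G) ≠ 1 := fun h => by rw [h, orderOf_one] at hx; omega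
      have h1 : (x : G) • d ≠ d := fun h => (fixed_eq hZ hab x.2 hx1 h).elim hda hdb
      refine ⟨h1.symm, fun h => ?_, fun h => h1 (smul_left_cancel (x : G) h.symm)⟩
      have h3 : (x : G) ^ 3 = 1 := hx ▸ pow_orderOf_eq_one _
      have h4 : (x : G) • (x : G) • (x : G) • d = d := by
        rw [← mul_smul, ← mul_smul, show (x : G) * x * x = x ^ 3 by simp [pow_succ], h3, one_smul]
      rw [← h] at h4
      exact h1 h4
    obtain ⟨d1, d2, d3⟩ := hdist x d hx hda hdb
    obtain ⟨c1, c2, c3⟩ := hdist y c hy hca hcb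
    obtain ⟨g, g1, g2, g3⟩ := exists_move_three hZ hab hcard c1 c2 c3 d1 d2 d3
    have hy3 : (y : G) • (y : G) • (y : G) • c = c := by
      rw [← mul_smul, ← mul_smul, show (y : G) * y * y = y ^ 3 by simp [pow_succ], ← hy,
        pow_orderOf_eq_one, one_smul]
    have hx3 : (x : G) • (x : G) • (x : G) • d = d := by
      rw [← mul_smul, ← mul_smul, show (x : G) * x * x = x ^ 3 by simp [pow_succ], ← hx,
        pow_orderOf_eq_one, one_smul]
    have e1 : (g * (y : G) * g⁻¹) • d = (x : G) • d := by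
      rw [mul_smul, mul_smul, inv_smul_eq_iff.2 g1.symm, g2]
    have e2 : (g * (y : G) * g⁻¹) • (x : G) • d = (x : G) • (x : G) • d := by
      rw [mul_smul, mul_smul, inv_smul_eq_iff.2 g2.symm, g3]
    have e3 : (g * (y : G) * g⁻¹) • (x : G) • (x : G) • d = (x : G) • (x : G) • (x : G) • d := by
      rw [mul_smul, mul_smul, inv_smul_eq_iff.2 g3.symm, hy3, g1, hx3]
    have heq : g * (y : G) * g⁻¹ = (x : G) := (inv_mul_eq_one.1 (eq_one_of_three hZ (g := (x : G)⁻¹ * (g * (y : G) * g⁻¹))
      d1 d3 d2 (by rw [mul_smul, e1, inv_smul_smul]) (by rw [mul_smul, e2, inv_smul_smul])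
      (by rw [mul_smul, e3, inv_smul_smul]))).symm
    refine ⟨g, g1, heq, ?_⟩
    have hx1 : (x : G) ≠ 1 := fun h => by rw [h, orderOf_one] at hx; omega
    have hfix : ∀ p : Ω, (y : G) • p = p → g • p = a ∨ g • p = b := fun p hp =>
      fixed_eq hZ hab x.2 hx1 (by rw [← heq, mul_smul, mul_smul, inv_smul_smul, hp])
    have hne : g • a ≠ g • b := fun h => hab (smul_left_cancel g h)
    rcases hfix a y.2.1 with h | h <;> rcases hfix b y.2.2 with h' | h'
    · exact absurd (h.trans h'.symm) hne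
    · exact Or.inl ⟨h, h'⟩
    · exact Or.inr ⟨h, h'⟩
    · exact absurd (h.trans h'.symm) hne
  choose g hgc hgy hgp using key
  obtain ⟨s, hsa, hsb⟩ := exists_swap hZ hab
  let F : {x : pairStab G a b // orderOf (x : G) = 3} × {d : Ω // d ≠ a ∧ d ≠ b} →
      {g : G // g • a = a ∧ g • b = b} ⊕ {g : G // g • a = b ∧ g • b = a} := fun q =>
    if h : g q.1 q.2 • a = a ∧ g q.1 q.2 • b = b then Sum.inl ⟨_, h⟩
    else Sum.inr ⟨_, (hgp q.1 q.2).resolve_left h⟩
  have hF : Function.Injective F := by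
    have hval : ∀ q, (Sum.elim (fun u => (u.1 : G)) (fun u => (u.1 : G)) (F q)) = g q.1 q.2 := fun q => by
      simp only [F]; split_ifs <;> rfl
    intro q q' h
    have e : g q.1 q.2 = g q'.1 q'.2 := by rw [← hval, ← hval, h]
    exact Prod.ext (Subtype.ext (Subtype.ext (by rw [← hgy q.1 q.2, e, hgy]))) (Subtype.ext (by rw [← hgc q.1 q.2, e, hgc]))
  have hle := Nat.card_le_card_of_injective F hF
  have hd : Nat.card {d : Ω // d ≠ a ∧ d ≠ b} + 2 = Nat.card Ω := by
    have := Fintype.ofFinite Ω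
    rw [Nat.card_eq_fintype_card, Fintype.card_subtype, Nat.card_eq_fintype_card,
      show (Finset.univ.filter fun y : Ω => y ≠ a ∧ y ≠ b) = (Finset.univ : Finset Ω) \ {a, b} by ext; simp,
      Finset.card_sdiff_of_subset (Finset.subset_univ _), Finset.card_pair hab, Finset.card_univ]
    have : ({a, b} : Finset Ω).card ≤ Fintype.card Ω := Finset.card_le_univ _
    rw [Finset.card_pair hab] at this
    omega
  rw [Nat.card_prod, Nat.card_sum, card_swappers hZ hab hsa hsb,
    Nat.card_congr (Equiv.subtypeEquivRight fun g => (mem_pairStab (g := g)).symm),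
    show Nat.card {d : Ω // d ≠ a ∧ d ≠ b} = Nat.card (pairStab G a b) by omega] at hle
  have hpos : 0 < Nat.card (pairStab G a b) := Nat.card_pos
  exact Nat.le_of_mul_le_mul_right (by omega : _ * Nat.card (pairStab G a b) ≤ 2 * Nat.card (pairStab G a b)) hpos

theorem eq_of_order_three {x y z : G} (hx : x ∈ pairStab G a b) (hy : y ∈ pairStab G a b)
    (hz : z ∈ pairStab G a b) (hox : orderOf x = 3) (hoy : orderOf y = 3) (hoz : orderOf z = 3) :
    x = y ∨ x = z ∨ y = z := by
  by_contra! h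
  have := Nat.card_le_card_of_injective
    (![⟨⟨x, hx⟩, hox⟩, ⟨⟨y, hy⟩, hoy⟩, ⟨⟨z, hz⟩, hoz⟩] : Fin 3 → {x : pairStab G a b // orderOf (x : G) = 3})
    (fun i j hij => by fin_cases i <;> fin_cases j <;> simp_all [Subtype.ext_iff, eq_comm])
  rw [Nat.card_fin] at this
  have := card_order_three hZ hab hcard
  omega

variable (he : 2 ∣ Nat.card (pairStab G a b))
include he

/-- The two-point stabiliser has a subgroup of index two. -/
theorem exists_index_two : ∃ N : Subgroup (pairStab G a b), N.index = 2 := by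
  classical
  obtain ⟨F, hF⟩ := exists_kernel hZ hab
  have hn := hF.card_add_one hab
  obtain ⟨hFc, p, f, hp, -, hexp, -⟩ := hF.elementary hZ hab (by omega)
  have := Fact.mk hp
  letI : CommGroup F := { (inferInstance : Group F) with mul_comm := hFc.is_comm.comm }
  have hmod : Module (ZMod p) (Additive F) := AddCommGroup.zmodModule fun v =>
    Additive.toMul.injective (Subtype.ext (by simp [hexp _ (Additive.toMul v).2]))
  let c : pairStab G a b → Additive F →+ Additive F := fun x => AddMonoidHom.mk'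
    (fun v => Additive.ofMul ⟨(x : G) * (Additive.toMul v : F) * (x : G)⁻¹, hF.normal x x.2.1 _ (Additive.toMul v).2⟩)
    fun v w => Additive.toMul.injective (Subtype.ext (by simp [mul_assoc]))
  have hcm : ∀ x y v, c (x * y) v = c x (c y v) := fun x y v =>
    Additive.toMul.injective (Subtype.ext (by simp [c, mul_assoc]))
  have hc1 : ∀ v, c 1 v = v := fun v => Additive.toMul.injective (Subtype.ext (by simp [c]))
  let ρ : pairStab G a b →* (Additive F ≃ₗ[ZMod p] Additive F) :=
    { toFun := fun x => LinearEquiv.ofLinear ((c x).toZModLinearMap p) ((c x⁻¹).toZModLinearMap p)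
        (LinearMap.ext fun v => by show c x (c x⁻¹ v) = v; rw [← hcm, mul_inv_cancel, hc1])
        (LinearMap.ext fun v => by show c x⁻¹ (c x v) = v; rw [← hcm, inv_mul_cancel, hc1])
      map_one' := LinearEquiv.ext fun v => hc1 v
      map_mul' := fun x y => LinearEquiv.ext fun v => hcm x y v }
  have hρ : ∀ (x : pairStab G a b) (v w : Additive F),
      ρ x v = w ↔ (x : G) • ((Additive.toMul v : F) : G) • b = ((Additive.toMul w : F) : G) • b := by
    intro x v w
    have e : (x : G) • ((Additive.toMul v : F) : G) • b = ((Additive.toMul (ρ x v) : F) : G) • b := by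
      show _ = ((x : G) * (Additive.toMul v : F) * (x : G)⁻¹) • b
      rw [mul_smul, mul_smul, inv_smul_eq_iff.2 (mem_stabilizer_iff.1 x.2.2).symm]
    rw [e]
    refine ⟨fun h => by rw [h], fun h => Additive.toMul.injective ?_⟩
    exact (hF.regular b _ hab.symm (hF.smul_ne (Additive.toMul (ρ x v)).2 hab.symm)).unique rfl h.symm
  have hne : ∀ v : Additive F, v ≠ 0 → ((Additive.toMul v : F) : G) • b ≠ a ∧ ((Additive.toMul v : F) : G) • b ≠ b :=
    fun v hv => ⟨hF.smul_ne (Additive.toMul v).2 hab.symm, fun h =>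
      hv (Additive.toMul.injective (Subtype.ext (hF.eq_one_of_fix (Additive.toMul v).2 hab.symm h)))⟩
  have huniq : ∀ (x y : pairStab G a b) (v : Additive F), v ≠ 0 → ρ x v = ρ y v → x = y := by
    intro x y v hv h
    have h1 : ρ (y⁻¹ * x) v = v := by
      rw [map_mul, LinearEquiv.mul_apply, h, ← LinearEquiv.mul_apply, ← map_mul, inv_mul_cancel, map_one]
      rfl
    refine Subtype.ext (inv_mul_eq_one.1 (eq_one_of_three hZ hab (g := ((y⁻¹ * x : pairStab G a b) : G))
      (hne v hv).2.symm (hne v hv).1.symm (y⁻¹ * x).2.1 (y⁻¹ * x).2.2 ((hρ _ _ _).1 h1))).symm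
  obtain ⟨v₀, hv₀⟩ : ∃ v : Additive F, v ≠ 0 := by
    obtain ⟨u, hu, hu1⟩ := (Subgroup.bot_or_exists_ne_one F).resolve_left (hF.ne_bot hZ hab)
    exact ⟨Additive.ofMul ⟨u, hu⟩, fun h => hu1 (congrArg (fun v => ((Additive.toMul v : F) : G)) h)⟩
  have hinj : Function.Injective ρ := fun x y h => huniq x y v₀ hv₀ (by rw [h])
  let e := MonoidHom.ofInjective hinj
  have hreg : IsRegularLinear ρ.range := by
    intro v w hv hw
    obtain ⟨x, hx, hxe⟩ := exists_pair_move hZ hab hcard (hne v hv).1 (hne v hv).2 (hne w hw).1 (hne w hw).2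
    refine ⟨e ⟨x, hx⟩, (hρ _ _ _).2 hxe, ?_⟩
    rintro ⟨_, y, rfl⟩ hy
    exact Subtype.ext (congrArg ρ (huniq y ⟨x, hx⟩ v hv (hy.trans ((hρ _ _ _).2 hxe).symm)))
  obtain ⟨N, hN⟩ := hreg.exists_index_two (Nat.card_congr e.toEquiv ▸ he) fun x y z hx hy hz => by
    have ho : ∀ x : ρ.range, orderOf x = 3 → orderOf ((e.symm x : pairStab G a b) : G) = 3 := fun x hx => by
      rw [Subgroup.orderOf_coe, MulEquiv.orderOf_eq, hx]
    have h := eq_of_order_three hZ hab hcard (e.symm x).2 (e.symm y).2 (e.symm z).2 (ho x hx) (ho y hy) (ho z hz)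
    simpa only [← Subtype.ext_iff, EmbeddingLike.apply_eq_iff_eq] using h
  exact ⟨N.comap e.toMonoidHom, (Subgroup.index_comap_of_surjective N e.surjective).trans hN⟩

/-- The two-point stabiliser has a sign character invariant under a given involution interchanging
the two points. -/
theorem exists_invariant_hom {t : G} (hta : t • a = b) (htb : t • b = a) (ht : t * t = 1) :
    ∃ μ : pairStab G a b →* ℤˣ, (∃ x, μ x ≠ 1) ∧ ∀ x y : pairStab G a b, (y : G) = t * x * t⁻¹ → μ y = μ x := by
  obtain ⟨N, hN⟩ := exists_index_two hZ hab hcard he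
  obtain ⟨μ, x₀, hx₀⟩ := exists_hom_of_index_two hN
  have hσ : ∀ x : pairStab G a b, t * (x : G) * t⁻¹ ∈ pairStab G a b := fun x => by
    have h := conj_mem_pairStab hZ hta htb x.2; rwa [pairStab_comm] at h
  let σ : pairStab G a b →* pairStab G a b :=
    { toFun := fun x => ⟨t * x * t⁻¹, hσ x⟩
      map_one' := Subtype.ext (by simp)
      map_mul' := fun x y => Subtype.ext (by simp [mul_assoc]) }
  by_cases hfix : ∀ x, μ (σ x) = μ x
  · refine ⟨μ, ⟨x₀, hx₀⟩, fun x y hy => ?_⟩
    rw [← hfix x, show y = σ x from Subtype.ext hy]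
  · push Not at hfix
    obtain ⟨x₁, hx₁⟩ := hfix
    refine ⟨μ * μ.comp σ, ⟨x₁, fun h => hx₁ ?_⟩, fun x y hy => ?_⟩
    · have h' : μ x₁ * μ (σ x₁) = 1 := h
      exact (eq_inv_of_mul_eq_one_right h').trans (Int.units_inv_eq_self _)
    · have e : σ y = x := Subtype.ext (by
        show t * (y : G) * t⁻¹ = x
        rw [hy, show t * (t * (x : G) * t⁻¹) * t⁻¹ = (t * t) * x * (t * t)⁻¹ by group, ht]; simp)
      show μ y * μ (σ y) = μ x * μ (σ x)
      rw [e, show σ x = y from Subtype.ext hy.symm, mul_comm]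

/-- Such a group has a normal subgroup of index two not containing the two-point stabiliser. -/
theorem exists_normal_index_two :
    ∃ M : Subgroup G, M.Normal ∧ M.index = 2 ∧ ∃ x ∈ pairStab G a b, x ∉ M := by
  classical
  obtain ⟨c, hca, hcb⟩ := exists_third hZ hab
  obtain ⟨t, hta, htb, htc⟩ := exists_move_three hZ hab hcard hab hca.symm hcb.symm hab.symm hcb.symm hca.symm
  have huni : ∀ y : G, y • a = b → y • b = a → y • c = c → y = t := fun y h1 h2 h3 =>
    (inv_mul_eq_one.1 (eq_one_of_three hZ hab hcb.symm hca.symm (g := t⁻¹ * y)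
      (by rw [mul_smul, h1, inv_smul_eq_iff, hta]) (by rw [mul_smul, h2, inv_smul_eq_iff, htb])
      (by rw [mul_smul, h3, inv_smul_eq_iff, htc]))).symm
  have ht : t * t = 1 := eq_one_of_three hZ hab hcb.symm hca.symm
    (by rw [mul_smul, hta, htb]) (by rw [mul_smul, htb, hta]) (by rw [mul_smul, htc, htc])
  have htinv : t⁻¹ = t := inv_eq_of_mul_eq_one_left ht
  obtain ⟨μ, ⟨x₀, hx₀⟩, hμ⟩ := exists_invariant_hom hZ hab hcard he hta htb ht
  let H : Subgroup G :=
    { carrier := {g | (g • a = a ∧ g • b = b) ∨ (g • a = b ∧ g • b = a)}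
      one_mem' := Or.inl ⟨one_smul _ _, one_smul _ _⟩
      mul_mem' := by
        rintro g h (⟨g1, g2⟩ | ⟨g1, g2⟩) (⟨h1, h2⟩ | ⟨h1, h2⟩) <;>
          simp [mul_smul, h1, h2, g1, g2]
      inv_mem' := by
        rintro g (⟨g1, g2⟩ | ⟨g1, g2⟩) <;> simp [inv_smul_eq_iff, g1, g2] }
  have hmem : ∀ g ∈ H, g ∈ pairStab G a b ∨ (g • a = b ∧ g • b = a) := fun g hg => hg
  have hsw : ∀ g ∈ H, g ∉ pairStab G a b → t * g ∈ pairStab G a b := fun g hg hn => by
    obtain ⟨g1, g2⟩ := (hmem g hg).resolve_left hn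
    exact mem_pairStab.2 ⟨by rw [mul_smul, g1, htb], by rw [mul_smul, g2, hta]⟩
  let l : H → ℤˣ := fun g => if h : (g : G) ∈ pairStab G a b then μ ⟨g, h⟩ else μ ⟨t * g, hsw g g.2 h⟩
  have hE : ∀ g h : G, g ∈ H → h ∈ H → (g * h ∈ pairStab G a b ↔ (g ∈ pairStab G a b ↔ h ∈ pairStab G a b)) := by
    intro g h hg hh
    rcases hmem g hg with h1 | ⟨g1, g2⟩
    · simp only [iff_true_left h1]
      exact ⟨fun h2 => (Subgroup.mul_mem_cancel_left _ h1).1 h2, fun h2 => mul_mem h1 h2⟩
    · have hn : g ∉ pairStab G a b := fun h' => hab ((mem_stabilizer_iff.1 h'.1).symm.trans g1)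
      simp only [iff_false_left hn]
      rcases hmem h hh with h3 | ⟨k1, k2⟩
      · exact ⟨fun h2 => absurd ((Subgroup.mul_mem_cancel_right _ h3).1 h2) hn, fun h2 => absurd h3 h2⟩
      · exact ⟨fun _ h' => hab ((mem_stabilizer_iff.1 h'.1).symm.trans k1),
          fun _ => mem_pairStab.2 ⟨by rw [mul_smul, k1, g2], by rw [mul_smul, k2, g1]⟩⟩
  let lam : H →* ℤˣ :=
    { toFun := l
      map_one' := by
        show l 1 = 1
        simp only [l, Subgroup.coe_one, Subgroup.one_mem, dite_true]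
        exact map_one μ
      map_mul' := by
        rintro ⟨g, hg⟩ ⟨h, hh⟩
        show l _ = l _ * l _
        have key := hE g h hg hh
        simp only [l, Subgroup.coe_mul]
        by_cases h1 : g ∈ pairStab G a b <;> by_cases h2 : h ∈ pairStab G a b
        · rw [dif_pos (key.2 (iff_of_true h1 h2)), dif_pos h1, dif_pos h2, ← map_mul]; rfl
        · rw [dif_neg (fun h' => h2 ((key.1 h').1 h1)), dif_pos h1, dif_neg h2]
          have hgt : t * g * t⁻¹ ∈ pairStab G a b := by
            rw [pairStab_comm]; exact conj_mem_pairStab hZ hta htb h1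
          rw [← hμ ⟨g, h1⟩ ⟨_, hgt⟩ rfl, ← map_mul]
          congr 1
          exact Subtype.ext (show t * (g * h) = t * g * t⁻¹ * (t * h) by group)
        · rw [dif_neg (fun h' => h1 ((key.1 h').2 h2)), dif_neg h1, dif_pos h2, ← map_mul]
          congr 1
          exact Subtype.ext (show t * (g * h) = t * g * h by group)
        · rw [dif_pos (key.2 (iff_of_false h1 h2)), dif_neg h1, dif_neg h2]
          have hgt : t * (t * g) * t⁻¹ ∈ pairStab G a b := by
            rw [pairStab_comm]; exact conj_mem_pairStab hZ hta htb (hsw g hg h1)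
          rw [← hμ ⟨_, hsw g hg h1⟩ ⟨_, hgt⟩ rfl, ← map_mul]
          congr 1
          exact Subtype.ext (show g * h = t * (t * g) * t⁻¹ * (t * h) by
            rw [show t * (t * g) * t⁻¹ * (t * h) = (t * t) * g * h by group, ht, one_mul]) }
  let x : G := (x₀ : G)
  have hxH : x ∈ H := Or.inl x₀.2
  have hx1 : x ≠ 1 := fun h => hx₀ (by rw [show x₀ = 1 from Subtype.ext h, map_one])
  have := Fintype.ofFinite (Quotient (orbitRel (Subgroup.zpowers x) (G ⧸ H)))
  let q₀ : Quotient (orbitRel (Subgroup.zpowers x) (G ⧸ H)) := Quotient.mk'' ((1 : G) : G ⧸ H)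
  have hfix1 : x • ((1 : G) : G ⧸ H) = ((1 : G) : G ⧸ H) := by
    show ((x * 1 : G) : G ⧸ H) = _
    rw [QuotientGroup.eq, mul_one, mul_one]; exact inv_mem hxH
  have hq₀ : q₀.out = ((1 : G) : G ⧸ H) := by
    obtain ⟨⟨_, k, rfl⟩, hk⟩ := (orbitRel_apply.1 (Quotient.exact' (q₀.out_eq : Quotient.mk'' q₀.out = Quotient.mk'' _)))
    rw [← hk]
    exact mem_stabilizer_iff.1 (zpow_mem (mem_stabilizer_iff.2 hfix1) k)
  have hV : MonoidHom.transfer lam x = μ x₀ := by
    rw [MonoidHom.transfer_eq_prod_quotient_orbitRel_zpowers_quot, Fintype.prod_eq_single q₀]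
    · have hm : Function.minimalPeriod (x • ·) q₀.out = 1 :=
        Function.minimalPeriod_eq_one_iff_isFixedPt.2 (by rw [hq₀]; exact hfix1)
      have hg : q₀.out.out ∈ H := by
        have h := QuotientGroup.out_eq' q₀.out
        rw [hq₀, QuotientGroup.eq, mul_one] at h
        rw [hq₀]; exact inv_mem_iff.1 h
      have key : ∀ (g : H) (w : H), (w : G) = (g : G)⁻¹ * x * g → lam w = μ x₀ := fun g w hw => by
        rw [show w = g⁻¹ * ⟨x, hxH⟩ * g from Subtype.ext hw, map_mul, map_mul, map_inv,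
          mul_comm _ (lam g), mul_inv_cancel_left]
        show l _ = _
        exact dif_pos x₀.2
      exact key ⟨_, hg⟩ _ (by simp only [hm, pow_one])
    · intro q hq
      have hg : q.out.out ∉ H := fun hg => hq (by
        rw [← q.out_eq]
        refine congrArg Quotient.mk'' ?_
        rw [← QuotientGroup.out_eq' q.out, QuotientGroup.eq, mul_one]
        exact inv_mem hg)
      suffices key : ∀ (g : G) (r : ℕ) (hyH : g⁻¹ * x ^ r * g ∈ H), g ∉ H → lam ⟨_, hyH⟩ = 1 from
        key _ _ _ hg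
      intro g r hyH hg
      by_cases hxr : x ^ r = 1
      · rw [show (⟨g⁻¹ * x ^ r * g, hyH⟩ : H) = 1 from Subtype.ext (by simp [hxr]), map_one]
      set y := g⁻¹ * x ^ r * g with hy
      have hy1 : y ≠ 1 := fun h => hxr (by
        calc x ^ r = g * y * g⁻¹ := by rw [hy]; group
          _ = 1 := by rw [h]; group)
      have hyfix : ∀ p, p = g⁻¹ • a ∨ p = g⁻¹ • b → y • p = p := by
        have hxr' := pow_mem x₀.2 r
        rintro p (rfl | rfl)
        · rw [hy, mul_smul, mul_smul, smul_inv_smul, mem_stabilizer_iff.1 hxr'.1]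
        · rw [hy, mul_smul, mul_smul, smul_inv_smul, mem_stabilizer_iff.1 hxr'.2]
      rcases hmem y hyH with hyE | ⟨y1, y2⟩
      · exfalso
        have hfa := fun p hp => fixed_eq hZ hab hyE hy1 (hyfix p hp)
        have hne : g⁻¹ • a ≠ g⁻¹ • b := fun h => hab (smul_left_cancel _ h)
        refine hg (inv_mem_iff.1 ?_)
        rcases hfa _ (Or.inl rfl) with h | h <;> rcases hfa _ (Or.inr rfl) with h' | h'
        · exact absurd (h.trans h'.symm) hne
        · exact Or.inl ⟨h, h'⟩
        · exact Or.inr ⟨h, h'⟩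
        · exact absurd (h.trans h'.symm) hne
      · have hca' : g⁻¹ • a ≠ a ∧ g⁻¹ • a ≠ b :=
          ⟨fun h => hab ((h ▸ hyfix _ (Or.inl rfl) : y • a = a).symm.trans y1),
            fun h => hab (y2.symm.trans (h ▸ hyfix _ (Or.inl rfl) : y • b = b))⟩
        obtain ⟨u, hu, huc⟩ := exists_pair_move hZ hab hcard hca hcb hca'.1 hca'.2
        have hua : u⁻¹ • a = a := inv_smul_eq_iff.2 (mem_stabilizer_iff.1 hu.1).symm
        have hub : u⁻¹ • b = b := inv_smul_eq_iff.2 (mem_stabilizer_iff.1 hu.2).symm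
        have hyt : u⁻¹ * y * u = t := huni _
          (by rw [mul_smul, mul_smul, mem_stabilizer_iff.1 hu.1, y1, hub])
          (by rw [mul_smul, mul_smul, mem_stabilizer_iff.1 hu.2, y2, hua])
          (by rw [mul_smul, mul_smul, huc, hyfix _ (Or.inl rfl), inv_smul_eq_iff, huc])
        have htH : t ∈ H := Or.inr ⟨hta, htb⟩
        rw [show (⟨y, hyH⟩ : H) = ⟨u, Or.inl hu⟩ * ⟨t, htH⟩ * (⟨u, Or.inl hu⟩ : H)⁻¹ from
          Subtype.ext (show y = u * t * u⁻¹ by rw [← hyt]; group), map_mul, map_mul, map_inv,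
          mul_comm (lam _) (lam ⟨t, htH⟩), mul_inv_cancel_right]
        show l _ = 1
        have htn : t ∉ pairStab G a b := fun h => hab ((mem_stabilizer_iff.1 h.1).symm.trans hta)
        simp only [l, dif_neg htn]
        rw [show (⟨t * t, hsw t htH htn⟩ : pairStab G a b) = 1 from Subtype.ext ht, map_one]
  refine ⟨(MonoidHom.transfer lam).ker, inferInstance, ?_, x, x₀.2, fun h => hx₀ ?_⟩
  · have hsurj : Function.Surjective (MonoidHom.transfer lam) := fun u => by
      rcases Int.units_eq_one_or u with rfl | rfl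
      · exact ⟨1, map_one _⟩
      · exact ⟨x, hV.trans ((Int.units_eq_one_or _).resolve_left hx₀)⟩
    rw [Subgroup.index_ker, MonoidHom.range_eq_top.2 hsurj, Subgroup.card_top, Nat.card_eq_fintype_card]
    rfl
  · rw [MonoidHom.mem_ker, hV] at h
    exact h

/-- Such a group is not simple. -/
theorem not_isSimpleGroup : ¬ IsSimpleGroup G := by
  intro hsimp
  obtain ⟨M, hM, hidx, x, -, hx⟩ := exists_normal_index_two hZ hab hcard he
  rcases hsimp.eq_bot_or_eq_top_of_normal M hM with rfl | rfl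
  · rw [Subgroup.index_bot] at hidx
    have h1 := Nat.le_of_dvd Nat.card_pos he
    obtain ⟨F, hF⟩ := exists_kernel hZ hab
    have h3 := hF.card_group hZ hab
    have := hF.card_add_one hab
    have : 4 * (3 * 2) ≤ Nat.card G := by
      rw [h3]; exact Nat.mul_le_mul (by omega) (Nat.mul_le_mul (by omega) h1)
    omega
  · exact hx (Subgroup.mem_top x)

end CfsgLib.Perm.ZassG
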